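import Mathlib

namespace Groth.Agent.Lib.Helper83

open IsLocalRing

section dvr

variable {R : Type*} [CommRing R] [IsLocalRing R] [IsNoetherianRing R]

theorem exists_unit_mul_pow_of_maximalIdeal_eq_span {π : R}
    (hπ : maximalIdeal R = Ideal.span {π}) {x : R} (hx : x ≠ 0) :
    ∃ (u : Rˣ) (n : ℕ), x = u * π ^ n := by
  have hkrull : ⨅ i, maximalIdeal R ^ i = ⊥ :=
    Ideal.iInf_pow_eq_bot_of_isLocalRing _ Ideal.IsPrime.ne_top'
  have hex : ∃ n, x ∉ maximalIdeal R ^ n := by
    by_contra hcon
    push Not at hcon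
    apply hx
    have : x ∈ ⨅ i, maximalIdeal R ^ i := by
      simp only [Ideal.mem_iInf]; exact hcon
    rwa [hkrull] at this
  classical
  have h0 : Nat.find hex ≠ 0 := by
    intro h
    have := Nat.find_spec hex
    rw [h, pow_zero, Ideal.one_eq_top] at this
    exact this Submodule.mem_top
  obtain ⟨n, hn⟩ := Nat.exists_eq_succ_of_ne_zero h0
  have hmem : x ∈ maximalIdeal R ^ n := by
    by_contra hcon
    have := Nat.find_min' hex hcon
    omega
  have hnot : x ∉ maximalIdeal R ^ (n + 1) := by
    have := Nat.find_spec hex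
    rwa [hn] at this
  rw [hπ, Ideal.span_singleton_pow, Ideal.mem_span_singleton'] at hmem
  obtain ⟨a, ha⟩ := hmem
  have hau : IsUnit a := by
    by_contra hcon
    have ham : a ∈ maximalIdeal R := (mem_maximalIdeal a).mpr hcon
    apply hnot
    rw [pow_succ', ← ha]
    apply Ideal.mul_mem_mul ham
    rw [hπ, Ideal.span_singleton_pow]
    exact Ideal.mem_span_singleton_self _
  exact ⟨hau.unit, n, ha.symm⟩

theorem isDomain_of_maximalIdeal_eq_span {π : R}
    (hπ : maximalIdeal R = Ideal.span {π}) (hnil : ¬ IsNilpotent π) : IsDomain R := by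
  have : NoZeroDivisors R := by
    constructor
    intro x y hxy
    by_contra hcon
    push Not at hcon
    obtain ⟨u, n, rfl⟩ := exists_unit_mul_pow_of_maximalIdeal_eq_span hπ hcon.1
    obtain ⟨v, k, rfl⟩ := exists_unit_mul_pow_of_maximalIdeal_eq_span hπ hcon.2
    apply hnil
    refine ⟨n + k, ?_⟩
    have h1 : (↑(u * v) : R) * π ^ (n + k) = 0 := by
      rw [← hxy, Units.val_mul, pow_add]; ring
    exact (Units.mul_right_eq_zero _).mp h1
  exact NoZeroDivisors.to_isDomain R

/-- A Noetherian local ring is a DVR iff its maximal ideal is minimally generated by one element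
and it has dimension one. -/
theorem exists_isDomain_isDiscreteValuationRing_iff :
    (∃ _ : IsDomain R, IsDiscreteValuationRing R) ↔
      (maximalIdeal R).spanFinrank = 1 ∧ ringKrullDim R = 1 := by
  constructor
  · rintro ⟨_, _⟩
    refine ⟨?_, IsDiscreteValuationRing.ringKrullDim_eq_one R⟩
    rw [IsLocalRing.spanFinrank_maximalIdeal_eq_finrank_cotangentSpace,
      IsLocalRing.finrank_CotangentSpace_eq_one]
  · rintro ⟨h1, hdim⟩
    rw [Submodule.spanFinrank_eq_one_iff] at h1
    obtain ⟨⟨π, hπ⟩, hne⟩ := h1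
    have hπ' : maximalIdeal R = Ideal.span {π} := hπ
    have hnil : ¬ IsNilpotent π := by
      rintro ⟨n, hn⟩
      have : Ring.KrullDimLE 0 R := by
        rw [Ring.krullDimLE_zero_iff]
        intro P hP
        have hπP : π ∈ P := hP.mem_of_pow_mem n (hn ▸ P.zero_mem)
        have : maximalIdeal R ≤ P := by
          rw [hπ', Ideal.span_singleton_le_iff_mem]; exact hπP
        have := (maximalIdeal.isMaximal R).eq_of_le hP.ne_top this
        exact this ▸ maximalIdeal.isMaximal R
      have := Ring.krullDimLE_iff.mp this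
      rw [hdim] at this
      exact absurd this (by decide)
    have hdom := isDomain_of_maximalIdeal_eq_span hπ' hnil
    refine ⟨hdom, ?_⟩
    have hfield : ¬ IsField R := fun hf => hne (isField_iff_maximalIdeal_eq.mp hf)
    have hprin : (maximalIdeal R).IsPrincipal := ⟨⟨π, hπ⟩⟩
    exact ((IsDiscreteValuationRing.TFAE R hfield).out 4 0).mp hprin

end dvr

end Groth.Agent.Lib.Helper83
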