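import Mathlib.RingTheory.AdicCompletion.Basic
import Mathlib.RingTheory.Filtration

/-!
Convergence lemmas in a precomplete ring, and successive approximation in a separated filtered
module.
-/

set_option autoImplicit false
universe u v w

namespace Groth.Agent.Lib.Helper83

variable {A : Type u} [CommRing A] {I : Ideal A}

theorem smodEq_pow_iff {a b : A} {n : ℕ} :
    a ≡ b [SMOD (I ^ n • ⊤ : Submodule A A)] ↔ a - b ∈ I ^ n := by
  rw [SModEq.sub_mem, smul_eq_mul, Ideal.mul_top]

/-- Series lemma: a series whose `k`-th term lies in `I ^ (n + k - d)` has a sum `L`, whose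
distance to the `k`-th partial sum is in `I ^ (n + k - d)`. -/
theorem exists_series_limit [IsPrecomplete I A] (c : ℕ → A) (n d : ℕ)
    (hc : ∀ k, c k ∈ I ^ (n + k - d)) :
    ∃ L : A, ∀ k, L - ∑ j ∈ Finset.range k, c j ∈ I ^ (n + k - d) := by
  have hs : ∀ k k', k ≤ k' →
      (∑ j ∈ Finset.range k', c j) - (∑ j ∈ Finset.range k, c j) ∈ I ^ (n + k - d) := by
    intro k k' hkk'
    induction k', hkk' using Nat.le_induction with
    | base => simp
    | succ k' hk' ih =>
      have : (∑ j ∈ Finset.range (k' + 1), c j) - (∑ j ∈ Finset.range k, c j) =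
          ((∑ j ∈ Finset.range k', c j) - (∑ j ∈ Finset.range k, c j)) + c k' := by
        rw [Finset.sum_range_succ]; ring
      rw [this]
      exact Ideal.add_mem _ ih (Ideal.pow_le_pow_right (by omega) (hc k'))
  obtain ⟨L, hL⟩ := IsPrecomplete.prec' (I := I) (fun e => ∑ j ∈ Finset.range (e + d), c j) (by
    intro m m' hmm'
    rw [smodEq_pow_iff]
    have h1 := hs (m + d) (m' + d) (by omega)
    have h2 := Ideal.pow_le_pow_right (show m ≤ n + (m + d) - d by omega) h1
    rw [← neg_sub]
    exact (Ideal.neg_mem_iff _).mpr h2)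
  refine ⟨L, fun k => ?_⟩
  have h1 := hL (n + k)
  rw [smodEq_pow_iff] at h1
  have h2 := hs k (n + k + d) (by omega)
  have : L - ∑ j ∈ Finset.range k, c j =
      -((∑ j ∈ Finset.range (n + k + d), c j) - L) +
        ((∑ j ∈ Finset.range (n + k + d), c j) - ∑ j ∈ Finset.range k, c j) := by ring
  rw [this]
  exact Ideal.add_mem _ ((Ideal.neg_mem_iff _).mpr (Ideal.pow_le_pow_right (by omega) h1)) h2

variable {M : Type v} [AddCommGroup M] [Module A M]

/-- Successive approximation: if every element of `P ∩ N n` can be approximated modulo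
`P ∩ N (n+1)` by a combination of the `x i` with coefficients in `I ^ (n - d i)`, then (for `A`
precomplete and the filtration separated) it is equal to such a combination. -/
theorem exists_eq_sum_of_step [IsPrecomplete I A] (F : I.Filtration M)
    (hsep : ⨅ n, F.N n = ⊥) {ι : Type w} [Fintype ι] (d : ι → ℕ) (x : ι → M)
    (hx : ∀ i, x i ∈ F.N (d i))
    (P : M → Prop)
    (step : ∀ n m, P m → m ∈ F.N n → ∃ a : ι → A, (∀ i, a i ∈ I ^ (n - d i)) ∧
      P (m - ∑ i, a i • x i) ∧ m - ∑ i, a i • x i ∈ F.N (n + 1)) :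
    ∀ n m, P m → m ∈ F.N n → ∃ a : ι → A, (∀ i, a i ∈ I ^ (n - d i)) ∧ m = ∑ i, a i • x i := by
  intro n m hmP hmN
  choose! nextA hA hP hN using step
  let r : ℕ → M := fun j => Nat.rec m (fun j rj => rj - ∑ i, nextA (n + j) rj i • x i) j
  have hr_succ : ∀ j, r (j + 1) = r j - ∑ i, nextA (n + j) (r j) i • x i := fun j => rfl
  have hr : ∀ j, P (r j) ∧ r j ∈ F.N (n + j) := by
    intro j
    induction j with
    | zero => exact ⟨hmP, hmN⟩
    | succ j ih =>
      rw [hr_succ]
      exact ⟨hP (n + j) (r j) ih.1 ih.2, hN (n + j) (r j) ih.1 ih.2⟩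
  have hc : ∀ i j, nextA (n + j) (r j) i ∈ I ^ (n + j - d i) := fun i j =>
    hA (n + j) (r j) (hr j).1 (hr j).2 i
  have hL : ∀ i, ∃ L : A, ∀ K, L - ∑ j ∈ Finset.range K, nextA (n + j) (r j) i ∈
      I ^ (n + K - d i) := fun i =>
    exists_series_limit (fun j => nextA (n + j) (r j) i) n (d i) (hc i)
  choose L hL using hL
  have hrK : ∀ K, r K = m - ∑ i, (∑ j ∈ Finset.range K, nextA (n + j) (r j) i) • x i := by
    intro K
    induction K with
    | zero => simp [r]
    | succ K ih =>
      rw [hr_succ]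
      simp only [Finset.sum_range_succ, add_smul, Finset.sum_add_distrib]
      rw [← sub_sub, ← ih]
  refine ⟨L, fun i => by simpa using hL i 0, ?_⟩
  rw [← sub_eq_zero]
  have hmem : ∀ K, m - ∑ i, L i • x i ∈ F.N K := by
    intro K
    have h1 : m - ∑ i, L i • x i =
        r K - ∑ i, (L i - ∑ j ∈ Finset.range K, nextA (n + j) (r j) i) • x i := by
      rw [hrK K]
      simp only [sub_smul, Finset.sum_sub_distrib]
      abel
    rw [h1]
    refine F.antitone (show K ≤ n + K by omega) ?_
    refine Submodule.sub_mem _ (hr K).2 (Submodule.sum_mem _ fun i _ => ?_)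
    have h2 := F.pow_smul_le (n + K - d i) (d i) (Submodule.smul_mem_smul (hL i K) (hx i))
    exact F.antitone (by omega) h2
  have : m - ∑ i, L i • x i ∈ ⨅ n, F.N n := (Submodule.mem_iInf _).mpr hmem
  rw [hsep] at this
  exact (Submodule.mem_bot A).mp this

end Groth.Agent.Lib.Helper83
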