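import Mathlib
import Groth.Agent.Lib.Helper83.AdicConv

/-!
# Stacks 05GH: a ring complete along a finitely generated ideal with Noetherian quotient is Noetherian

`isNoetherianRing_of_isAdicComplete`: `J` f.g., `A` `J`-adically complete, `A ⧸ J` Noetherian
⇒ `A` Noetherian.  Proof by initial forms in `(A ⧸ J)[X_1, …, X_r]` and successive approximation.
-/

namespace Groth.Agent.Lib.Helper83

open MvPolynomial

universe u v

section Poly

variable {σ : Type*} {R S : Type*} [CommRing R] [CommRing S]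

attribute [local instance] MvPolynomial.gradedAlgebra

/-- Degree `n` part of `a * b` for `b` homogeneous of degree `i`. -/
theorem homogeneousComponent_mul_right {a b : MvPolynomial σ R} {i : ℕ} (n : ℕ)
    (hb : b.IsHomogeneous i) :
    homogeneousComponent n (a * b) =
      if i ≤ n then homogeneousComponent (n - i) a * b else 0 := by
  classical
  have h := DirectSum.coe_decompose_mul_of_right_mem (𝒜 := homogeneousSubmodule σ R)
    (a := a) (b := b) (i := i) n ((mem_homogeneousSubmodule i b).2 hb)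
  have e1 : ∀ (φ : MvPolynomial σ R) (j : ℕ),
      (DirectSum.decompose (homogeneousSubmodule σ R) φ j : MvPolynomial σ R) =
        homogeneousComponent j φ := fun φ j => decomposition.decompose'_apply φ j
  rw [e1, e1] at h
  exact h

theorem map_homogeneousComponent (f : R →+* S) (n : ℕ) (p : MvPolynomial σ R) :
    MvPolynomial.map f (homogeneousComponent n p) = homogeneousComponent n (MvPolynomial.map f p) := by
  ext m
  simp only [coeff_map, coeff_homogeneousComponent]
  split_ifs <;> simp

/-- Homogeneous polynomials lift along surjections of coefficient rings. -/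
theorem exists_homogeneous_lift (f : R →+* S) (hf : Function.Surjective f) {e : ℕ}
    (p : MvPolynomial σ S) (hp : p.IsHomogeneous e) :
    ∃ q : MvPolynomial σ R, q.IsHomogeneous e ∧ MvPolynomial.map f q = p := by
  obtain ⟨q₀, hq₀⟩ := MvPolynomial.map_surjective f hf p
  refine ⟨homogeneousComponent e q₀, homogeneousComponent_isHomogeneous e q₀, ?_⟩
  rw [map_homogeneousComponent, hq₀]
  exact homogeneousComponent_of_mem ((mem_homogeneousSubmodule e p).2 hp) |>.trans (if_pos rfl)

end Poly


section Eval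

variable {σ : Type*} {A : Type*} [CommRing A]

theorem eval_mem_pow_of_isHomogeneous (J : Ideal A) (x : σ → A) (hx : ∀ i, x i ∈ J) {n : ℕ}
    (D : MvPolynomial σ A) (hD : D.IsHomogeneous n) : eval x D ∈ J ^ n := by
  have h1 : eval x D ∈ (Ideal.span (Set.range x)) ^ n :=
    (Ideal.mem_span_pow_iff_exists_isHomogeneous x _).2 ⟨D, hD, rfl⟩
  have h2 : Ideal.span (Set.range x) ≤ J := by
    rw [Ideal.span_le]
    rintro _ ⟨i, rfl⟩
    exact hx i
  exact Ideal.pow_right_mono h2 n h1

theorem eval_mem_pow_succ_of_coeff_mem (J : Ideal A) (x : σ → A) (hx : ∀ i, x i ∈ J) {n : ℕ}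
    (D : MvPolynomial σ A) (hD : D.IsHomogeneous n) (hc : ∀ m, coeff m D ∈ J) :
    eval x D ∈ J ^ (n + 1) := by
  rw [D.as_sum, map_sum]
  refine Ideal.sum_mem _ fun m hm => ?_
  have h1 : eval x (monomial m (coeff m D)) = coeff m D * eval x (monomial m (1 : A)) := by
    simp [eval_monomial]
  rw [h1, pow_succ']
  refine Ideal.mul_mem_mul (hc m) ?_
  apply eval_mem_pow_of_isHomogeneous J x hx
  apply isHomogeneous_monomial
  have := hD (mem_support_iff.1 hm)
  rw [Finsupp.degree_eq_weight_one]
  exact this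

end Eval


section Main

variable {A : Type u} [CommRing A]

/-- Rewriting a homogeneous combination degree by degree. -/
theorem exists_homogeneous_coeffs {σ : Type*} {S : Type*} [CommRing S] {ι : Type*} [Fintype ι]
    (d : ι → ℕ) (Fb : ι → MvPolynomial σ S) (hFb : ∀ i, (Fb i).IsHomogeneous (d i))
    (n : ℕ) (G : MvPolynomial σ S) (hG : G.IsHomogeneous n)
    (hmem : G ∈ Ideal.span (Set.range Fb)) :
    ∃ H : ι → MvPolynomial σ S, (∀ i, (H i).IsHomogeneous (n - d i)) ∧
      (∀ i, n < d i → H i = 0) ∧ G = ∑ i, H i * Fb i := by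
  classical
  obtain ⟨H₀, hH₀⟩ := (Ideal.mem_span_range_iff_exists_fun).1 hmem
  refine ⟨fun i => if d i ≤ n then homogeneousComponent (n - d i) (H₀ i) else 0, ?_, ?_, ?_⟩
  · intro i
    beta_reduce
    split_ifs
    · exact homogeneousComponent_isHomogeneous _ _
    · exact isHomogeneous_zero _ _ _
  · intro i hi
    beta_reduce
    rw [if_neg (by omega)]
  · have h1 : G = homogeneousComponent n G :=
      ((homogeneousComponent_of_mem ((mem_homogeneousSubmodule n G).2 hG)).trans (if_pos rfl)).symm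
    conv_lhs => rw [h1, ← hH₀, map_sum]
    refine Finset.sum_congr rfl fun i _ => ?_
    rw [homogeneousComponent_mul_right n (hFb i)]
    beta_reduce
    by_cases hi : d i ≤ n
    · rw [if_pos hi, if_pos hi]
    · rw [if_neg hi, if_neg hi, zero_mul]

/-- Key step of the successive approximation. -/
theorem exists_approx_step (J : Ideal A) {r : ℕ} (x : Fin r → A)
    (hJ : Ideal.span (Set.range x) = J) (𝔞 : Ideal A) {ι : Type*} [Fintype ι] (d : ι → ℕ)
    (F : ι → MvPolynomial (Fin r) A) (hF : ∀ i, (F i).IsHomogeneous (d i))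
    (hFa : ∀ i, eval x (F i) ∈ 𝔞)
    (hspan : ∀ (n : ℕ) (G : MvPolynomial (Fin r) A), G.IsHomogeneous n → eval x G ∈ 𝔞 →
      MvPolynomial.map (Ideal.Quotient.mk J) G ∈
        Ideal.span (Set.range fun i => MvPolynomial.map (Ideal.Quotient.mk J) (F i)))
    (n : ℕ) (m : A) (hm : m ∈ 𝔞) (hmn : m ∈ J ^ n) :
    ∃ c : ι → A, (∀ i, c i ∈ J ^ (n - d i)) ∧ m - ∑ i, c i * eval x (F i) ∈ 𝔞 ∧
      m - ∑ i, c i * eval x (F i) ∈ J ^ (n + 1) := by
  classical
  have hx : ∀ i, x i ∈ J := fun i => hJ ▸ Ideal.subset_span ⟨i, rfl⟩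
  rw [← hJ] at hmn
  obtain ⟨G, hG, hGm⟩ := (Ideal.mem_span_pow_iff_exists_isHomogeneous x m).1 hmn
  have hGmem := hspan n G hG (hGm ▸ hm)
  obtain ⟨Hb, hHb, hHb0, hGsum⟩ := exists_homogeneous_coeffs d
    (fun i => MvPolynomial.map (Ideal.Quotient.mk J) (F i)) (fun i => (hF i).map _) n
    (MvPolynomial.map (Ideal.Quotient.mk J) G) (hG.map _) hGmem
  have hlift : ∀ i, ∃ H : MvPolynomial (Fin r) A, H.IsHomogeneous (n - d i) ∧
      MvPolynomial.map (Ideal.Quotient.mk J) H = Hb i ∧ (n < d i → H = 0) := by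
    intro i
    by_cases hi : n < d i
    · exact ⟨0, isHomogeneous_zero _ _ _, by rw [hHb0 i hi, map_zero], fun _ => rfl⟩
    · obtain ⟨H, hH, hHm⟩ := exists_homogeneous_lift (Ideal.Quotient.mk J)
        Ideal.Quotient.mk_surjective (Hb i) (hHb i)
      exact ⟨H, hH, hHm, fun h => absurd h hi⟩
  choose H hH hHm hH0 using hlift
  set D := G - ∑ i, H i * F i with hD
  have hDhom : D.IsHomogeneous n := by
    refine hG.sub (IsHomogeneous.sum _ _ _ fun i _ => ?_)
    by_cases hi : n < d i
    · rw [hH0 i hi, zero_mul]; exact isHomogeneous_zero _ _ _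
    · have := (hH i).mul (hF i)
      rwa [Nat.sub_add_cancel (by omega)] at this
  have hDmap : MvPolynomial.map (Ideal.Quotient.mk J) D = 0 := by
    rw [hD, map_sub, map_sum, hGsum, sub_eq_zero]
    refine Finset.sum_congr rfl fun i _ => ?_
    rw [map_mul, hHm]
  have hDcoeff : ∀ m, coeff m D ∈ J := by
    intro m
    have := congrArg (coeff m) hDmap
    rw [coeff_map, coeff_zero] at this
    exact Ideal.Quotient.eq_zero_iff_mem.1 this
  have hDev := eval_mem_pow_succ_of_coeff_mem J x hx D hDhom hDcoeff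
  have hev : eval x D = m - ∑ i, eval x (H i) * eval x (F i) := by
    rw [hD, map_sub, map_sum, hGm]
    simp only [map_mul]
  refine ⟨fun i => eval x (H i), fun i => eval_mem_pow_of_isHomogeneous J x hx (H i) (hH i), ?_, ?_⟩
  · exact 𝔞.sub_mem hm (𝔞.sum_mem fun i _ => 𝔞.mul_mem_left _ (hFa i))
  · rw [← hev]; exact hDev

end Main


section Theorem

variable {A : Type u} [CommRing A]

/-- **Stacks 05GH.** A ring which is complete along a finitely generated ideal `J` with `A ⧸ J`
Noetherian is Noetherian. -/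
theorem isNoetherianRing_of_isAdicComplete (J : Ideal A) (hJ : J.FG) [IsAdicComplete J A]
    [IsNoetherianRing (A ⧸ J)] : IsNoetherianRing A := by
  classical
  obtain ⟨r, x, hx⟩ := Submodule.fg_iff_exists_fin_generating_family.1 hJ
  have hx' : Ideal.span (Set.range x) = J := hx
  rw [isNoetherianRing_iff_ideal_fg]
  intro 𝔞
  let gens : Set (MvPolynomial (Fin r) (A ⧸ J)) := {p | ∃ (n : ℕ) (G : MvPolynomial (Fin r) A),
    G.IsHomogeneous n ∧ eval x G ∈ 𝔞 ∧ MvPolynomial.map (Ideal.Quotient.mk J) G = p}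
  have hfg : (Ideal.span gens).FG := IsNoetherian.noetherian _
  obtain ⟨T, hTsub, hTspan⟩ := (Submodule.fg_span_iff_fg_span_finset_subset gens).1 hfg
  have hdata : ∀ p : T, ∃ (n : ℕ) (G : MvPolynomial (Fin r) A),
      G.IsHomogeneous n ∧ eval x G ∈ 𝔞 ∧ MvPolynomial.map (Ideal.Quotient.mk J) G = p.1 :=
    fun p => hTsub p.2
  choose d F hF hFa hFmap using hdata
  have hrange : (Set.range fun i : T => MvPolynomial.map (Ideal.Quotient.mk J) (F i)) = ↑T := by
    ext p
    constructor
    · rintro ⟨i, rfl⟩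
      beta_reduce
      rw [hFmap i]; exact i.2
    · intro hp
      exact ⟨⟨p, hp⟩, hFmap ⟨p, hp⟩⟩
  have hspan : ∀ (n : ℕ) (G : MvPolynomial (Fin r) A), G.IsHomogeneous n → eval x G ∈ 𝔞 →
      MvPolynomial.map (Ideal.Quotient.mk J) G ∈
        Ideal.span (Set.range fun i : T => MvPolynomial.map (Ideal.Quotient.mk J) (F i)) := by
    intro n G hG hGa
    rw [hrange]
    have : MvPolynomial.map (Ideal.Quotient.mk J) G ∈ Ideal.span gens :=
      Ideal.subset_span ⟨n, G, hG, hGa, rfl⟩
    have h2 : Ideal.span gens = Ideal.span (↑T : Set (MvPolynomial (Fin r) (A ⧸ J))) := hTspan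
    rw [h2] at this
    exact this
  have hxJ : ∀ i, x i ∈ J := fun i => hx' ▸ Ideal.subset_span ⟨i, rfl⟩
  -- successive approximation
  have hsep : ⨅ n, (J.stableFiltration (⊤ : Submodule A A)).N n = ⊥ := by
    rw [eq_bot_iff]
    intro y hy
    rw [Submodule.mem_iInf] at hy
    rw [Submodule.mem_bot]
    apply IsHausdorff.haus (inferInstance : IsHausdorff J A)
    intro n
    rw [SModEq.zero]
    exact hy n
  have key := exists_eq_sum_of_step (I := J) (J.stableFiltration (⊤ : Submodule A A)) hsep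
    (ι := T) d (fun i => eval x (F i))
    (fun i => by
      show eval x (F i) ∈ J ^ (d i) • (⊤ : Submodule A A)
      rw [smul_eq_mul, Ideal.mul_top]
      exact eval_mem_pow_of_isHomogeneous J x hxJ (F i) (hF i))
    (fun m => m ∈ 𝔞)
    (by
      intro n m hm hmn
      have hmn' : m ∈ J ^ n := by
        have : m ∈ J ^ n • (⊤ : Submodule A A) := hmn
        rwa [smul_eq_mul, Ideal.mul_top] at this
      obtain ⟨c, hc, h1, h2⟩ := exists_approx_step J x hx' 𝔞 d F hF hFa hspan n m hm hmn'
      refine ⟨c, hc, ?_, ?_⟩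
      · simpa [smul_eq_mul] using h1
      · show m - ∑ i, c i • eval x (F i) ∈ J ^ (n + 1) • (⊤ : Submodule A A)
        rw [smul_eq_mul, Ideal.mul_top]
        simpa [smul_eq_mul] using h2)
  refine ⟨Finset.univ.image fun i : T => eval x (F i), ?_⟩
  apply le_antisymm
  · rw [Submodule.span_le]
    intro y hy
    simp only [Finset.coe_image, Finset.coe_univ, Set.image_univ, Set.mem_range] at hy
    obtain ⟨i, rfl⟩ := hy
    exact hFa i
  · intro m hm
    obtain ⟨c, -, hc⟩ := key 0 m hm (by
      show m ∈ J ^ 0 • (⊤ : Submodule A A)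
      simp)
    rw [hc]
    refine Submodule.sum_mem _ fun i _ => ?_
    refine Submodule.smul_mem _ _ (Submodule.subset_span ?_)
    simp

end Theorem


section FGIdeal

variable {A : Type u} [CommRing A]

/-- If `J = (y_1, …, y_s) + J²` then `J^n ⊆ ∑ J^(n-1) y_i + J^(n+1)` for `n ≥ 1`. -/
theorem exists_coeffs_of_mem_pow (J : Ideal A) {s : ℕ} (y : Fin s → A) (hy : ∀ i, y i ∈ J)
    (hJ : ∀ m ∈ J, ∃ c : Fin s → A, m - ∑ i, c i * y i ∈ J ^ 2) (n : ℕ) (m : A)
    (hm : m ∈ J ^ (n + 1)) :
    ∃ c : Fin s → A, (∀ i, c i ∈ J ^ n) ∧ m - ∑ i, c i * y i ∈ J ^ (n + 2) := by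
  rw [pow_succ] at hm
  induction hm using Submodule.mul_induction_on' with
  | mem_mul_mem a ha b hb =>
    obtain ⟨c, hc⟩ := hJ b hb
    refine ⟨fun i => a * c i, fun i => Ideal.mul_mem_right _ _ ha, ?_⟩
    have : a * b - ∑ i, a * c i * y i = a * (b - ∑ i, c i * y i) := by
      rw [mul_sub, Finset.mul_sum]
      congr 1
      exact Finset.sum_congr rfl fun i _ => mul_assoc _ _ _
    beta_reduce
    rw [this, pow_add]
    exact Ideal.mul_mem_mul ha hc
  | add a _ b _ iha ihb =>
    obtain ⟨c, hc, hc'⟩ := iha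
    obtain ⟨c', hc2, hc2'⟩ := ihb
    refine ⟨fun i => c i + c' i, fun i => Ideal.add_mem _ (hc i) (hc2 i), ?_⟩
    have : a + b - ∑ i, (c i + c' i) * y i = (a - ∑ i, c i * y i) + (b - ∑ i, c' i * y i) := by
      simp only [add_mul, Finset.sum_add_distrib]
      ring
    beta_reduce
    rw [this]
    exact Ideal.add_mem _ hc' hc2'

/-- In a `J`-adically complete ring, `J` is finitely generated as soon as `J / J²` is. -/
theorem fg_of_isAdicComplete_of_fg_map_sq (J : Ideal A) [IsAdicComplete J A]
    (h : (J.map (Ideal.Quotient.mk (J ^ 2))).FG) : J.FG := by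
  classical
  obtain ⟨s, g, hg⟩ := Submodule.fg_iff_exists_fin_generating_family.1 h
  have hg' : Ideal.span (Set.range g) = J.map (Ideal.Quotient.mk (J ^ 2)) := hg
  have hgm : ∀ i, g i ∈ J.map (Ideal.Quotient.mk (J ^ 2)) := fun i =>
    hg' ▸ Ideal.subset_span ⟨i, rfl⟩
  have hlift : ∀ i, ∃ yi ∈ J, Ideal.Quotient.mk (J ^ 2) yi = g i := fun i =>
    (Ideal.mem_map_iff_of_surjective _ Ideal.Quotient.mk_surjective).1 (hgm i)
  choose y hy hyg using hlift
  have hJ : ∀ m ∈ J, ∃ c : Fin s → A, m - ∑ i, c i * y i ∈ J ^ 2 := by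
    intro m hm
    have h1 : Ideal.Quotient.mk (J ^ 2) m ∈ Ideal.span (Set.range g) := by
      rw [hg']; exact Ideal.mem_map_of_mem _ hm
    obtain ⟨cb, hcb⟩ := (Ideal.mem_span_range_iff_exists_fun).1 h1
    choose c hc using fun i => Ideal.Quotient.mk_surjective (cb i)
    refine ⟨c, ?_⟩
    rw [← Ideal.Quotient.eq_zero_iff_mem, map_sub, map_sum, ← hcb, sub_eq_zero]
    refine Finset.sum_congr rfl fun i _ => ?_
    rw [map_mul, hc, hyg]
  have hsep : ⨅ n, (J.stableFiltration (⊤ : Submodule A A)).N n = ⊥ := by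
    rw [eq_bot_iff]
    intro z hz
    rw [Submodule.mem_iInf] at hz
    rw [Submodule.mem_bot]
    apply IsHausdorff.haus (inferInstance : IsHausdorff J A)
    intro n
    rw [SModEq.zero]
    exact hz n
  have key := exists_eq_sum_of_step (I := J) (J.stableFiltration (⊤ : Submodule A A)) hsep
    (ι := Fin s) (fun _ => 1) y
    (fun i => by
      show y i ∈ J ^ 1 • (⊤ : Submodule A A)
      rw [smul_eq_mul, Ideal.mul_top, pow_one]
      exact hy i)
    (fun m => m ∈ J)
    (by
      intro n m hm hmn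
      rcases n with _ | n
      · refine ⟨fun _ => 0, fun i => by simp, by simpa using hm, ?_⟩
        show m - ∑ i, (0 : A) • y i ∈ J ^ (0 + 1) • (⊤ : Submodule A A)
        rw [smul_eq_mul, Ideal.mul_top]
        simpa using hm
      · have hmn' : m ∈ J ^ (n + 1) := by
          have : m ∈ J ^ (n + 1) • (⊤ : Submodule A A) := hmn
          rwa [smul_eq_mul, Ideal.mul_top] at this
        obtain ⟨c, hc, hc'⟩ := exists_coeffs_of_mem_pow J y hy hJ n m hmn'
        refine ⟨c, fun i => by simpa using hc i, ?_, ?_⟩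
        · have : m - ∑ i, c i • y i ∈ J ^ (n + 2) := by simpa [smul_eq_mul] using hc'
          exact Ideal.pow_le_self (by omega) this
        · show m - ∑ i, c i • y i ∈ J ^ (n + 1 + 1) • (⊤ : Submodule A A)
          rw [smul_eq_mul, Ideal.mul_top]
          simpa [smul_eq_mul] using hc')
  refine ⟨Finset.univ.image y, ?_⟩
  apply le_antisymm
  · rw [Submodule.span_le]
    intro z hz
    simp only [Finset.coe_image, Finset.coe_univ, Set.image_univ, Set.mem_range] at hz
    obtain ⟨i, rfl⟩ := hz
    exact hy i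
  · intro m hm
    obtain ⟨c, -, hc⟩ := key 0 m hm (by
      show m ∈ J ^ 0 • (⊤ : Submodule A A)
      simp)
    rw [hc]
    refine Submodule.sum_mem _ fun i _ => ?_
    refine Submodule.smul_mem _ _ (Submodule.subset_span ?_)
    simp

/-- Variant of 05GH: `A` `J`-adically complete with `A ⧸ J ^ 2` Noetherian is Noetherian. -/
theorem isNoetherianRing_of_isAdicComplete_of_quotient_sq (J : Ideal A) [IsAdicComplete J A]
    [IsNoetherianRing (A ⧸ J ^ 2)] : IsNoetherianRing A := by
  have hJ : J.FG := fg_of_isAdicComplete_of_fg_map_sq J (IsNoetherian.noetherian _)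
  have hle : J ^ 2 ≤ J := Ideal.pow_le_self (by norm_num)
  have : IsNoetherianRing (A ⧸ J) :=
    isNoetherianRing_of_surjective _ _ (Ideal.Quotient.factor hle)
      (Ideal.Quotient.factor_surjective hle)
  exact isNoetherianRing_of_isAdicComplete J hJ

end FGIdeal


section Quotient

/-- The image of a precomplete module under a surjective linear map is precomplete. -/
theorem isPrecomplete_of_surjective {R : Type*} [CommRing R] (I : Ideal R) {M N : Type*}
    [AddCommGroup M] [Module R M] [AddCommGroup N] [Module R N] (f : M →ₗ[R] N)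
    (hf : Function.Surjective f) [IsPrecomplete I M] : IsPrecomplete I N := by
  rw [← AdicCompletion.of_surjective_iff]
  intro y
  obtain ⟨z, rfl⟩ := AdicCompletion.map_surjective I hf y
  obtain ⟨m, rfl⟩ := AdicCompletion.of_surjective I M z
  exact ⟨f m, (AdicCompletion.map_of I f m).symm⟩

/-- Over a Noetherian ring complete along `K`, every quotient ring `B ⧸ J` is complete along
`K (B ⧸ J)`. -/
theorem isAdicComplete_quotient_of_isNoetherianRing {B : Type*} [CommRing B] [IsNoetherianRing B]
    (K : Ideal B) [IsAdicComplete K B] (J : Ideal B) :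
    IsAdicComplete (K.map (Ideal.Quotient.mk J)) (B ⧸ J) := by
  have h1 : IsAdicComplete K (B ⧸ J) :=
    { toIsHausdorff := IsHausdorff.of_le_jacobson K (B ⧸ J) (IsAdicComplete.le_jacobson_bot K)
      toIsPrecomplete := isPrecomplete_of_surjective K (Submodule.mkQ J)
        (Submodule.mkQ_surjective J) }
  exact (IsAdicComplete.map_algebraMap_iff (S := B ⧸ J) K (B ⧸ J)).2 h1

end Quotient

end Groth.Agent.Lib.Helper83
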