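import Mathlib

/-!
# Ring maps between adic completions compatible with a ring map

For `φ : A → B` with `φ(I) ⊆ J` and any ring map `ψ : Â → B̂` with `ψ ∘ of = of ∘ φ`
(`I` finitely generated), `ψ` is computed levelwise by the induced maps
`θ n : A ⧸ I ^ n → B ⧸ J ^ n`.  Criteria for injectivity / surjectivity / bijectivity of `ψ`.
-/

namespace Groth.Agent.Lib.Helper83

namespace ComplMap

variable {A B : Type*} [CommRing A] [CommRing B] (I : Ideal A) (J : Ideal B) (φ : A →+* B)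

theorem pow_le_comap (hφ : I.map φ ≤ J) (n : ℕ) : I ^ n ≤ (J ^ n).comap φ := by
  rw [← Ideal.map_le_iff_le_comap, Ideal.map_pow]
  exact Ideal.pow_right_mono hφ n

/-- The induced map on quotients `A ⧸ I ^ n → B ⧸ J ^ n`. -/
def θ (hφ : I.map φ ≤ J) (n : ℕ) : A ⧸ I ^ n →+* B ⧸ J ^ n :=
  Ideal.quotientMap (J ^ n) φ (pow_le_comap I J φ hφ n)

@[simp]
theorem θ_mk (hφ : I.map φ ≤ J) (n : ℕ) (a : A) :
    θ I J φ hφ n (Ideal.Quotient.mk (I ^ n) a) = Ideal.Quotient.mk (J ^ n) (φ a) :=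
  Ideal.quotientMap_mk

variable (ψ : AdicCompletion I A →+* AdicCompletion J B)

theorem evalₐ_map (hψ : ∀ a, ψ (AdicCompletion.of I A a) = AdicCompletion.of J B (φ a))
    (fg : I.FG) (hφ : I.map φ ≤ J) (n : ℕ) (x : AdicCompletion I A) :
    AdicCompletion.evalₐ J n (ψ x) = θ I J φ hφ n (AdicCompletion.evalₐ I n x) := by
  obtain ⟨a, ha⟩ := Ideal.Quotient.mk_surjective (AdicCompletion.evalₐ I n x)
  have hker : x - AdicCompletion.of I A a ∈ (I ^ n • ⊤ : Submodule A (AdicCompletion I A)) := by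
    rw [AdicCompletion.pow_smul_top_eq_ker_eval fg, LinearMap.mem_ker, map_sub, sub_eq_zero]
    have hle : I ^ n ≤ I ^ n • ⊤ := by rw [smul_eq_mul, Ideal.mul_top]
    rw [← AdicCompletion.factor_evalₐ_eq_eval I x hle,
      ← AdicCompletion.factor_evalₐ_eq_eval I (AdicCompletion.of I A a) hle,
      AdicCompletion.evalₐ_of, ha]
  have hkill : ∀ z ∈ (I ^ n • ⊤ : Submodule A (AdicCompletion I A)),
      AdicCompletion.evalₐ J n (ψ z) = 0 := by
    intro z hz
    refine Submodule.smul_induction_on hz ?_ ?_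
    · intro c hc y _
      have h1 : c • y = AdicCompletion.of I A c * y := by
        rw [Algebra.smul_def, AdicCompletion.algebraMap_apply]; rfl
      rw [h1, map_mul, hψ, map_mul, AdicCompletion.evalₐ_of]
      have : Ideal.Quotient.mk (J ^ n) (φ c) = 0 :=
        Ideal.Quotient.eq_zero_iff_mem.mpr (pow_le_comap I J φ hφ n hc)
      rw [this, zero_mul]
    · intro y z hy hz
      rw [map_add, map_add, hy, hz, add_zero]
  have h2 : x = AdicCompletion.of I A a + (x - AdicCompletion.of I A a) := by ring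
  rw [h2, map_add, map_add, hkill _ hker, add_zero, hψ, AdicCompletion.evalₐ_of, ← h2, ← ha, θ_mk]

theorem injective (hψ : ∀ a, ψ (AdicCompletion.of I A a) = AdicCompletion.of J B (φ a))
    (fg : I.FG) (hφ : I.map φ ≤ J)
    (h : ∀ n, Function.Injective (θ I J φ hφ n)) : Function.Injective ψ := by
  intro x y hxy
  apply AdicCompletion.ext_evalₐ
  intro n
  apply h n
  rw [← evalₐ_map I J φ ψ hψ fg hφ, ← evalₐ_map I J φ ψ hψ fg hφ, hxy]

/-- Approximation step: if `J = φ(I) B` and `B = φ(A) + J`, every element of `J ^ n` is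
congruent modulo `J ^ (n+1)` to the image of an element of `I ^ n`. -/
theorem exists_approx (hJ : I.map φ = J) (h1 : ∀ b : B, ∃ a : A, b - φ a ∈ J) (n : ℕ) (z : B)
    (hz : z ∈ J ^ n) : ∃ c ∈ I ^ n, z - φ c ∈ J ^ (n + 1) := by
  rw [← hJ, ← Ideal.map_pow] at hz
  rw [Ideal.map] at hz
  induction hz using Submodule.span_induction with
  | mem z hz =>
    obtain ⟨c, hc, rfl⟩ := hz
    exact ⟨c, hc, by simp⟩
  | zero => exact ⟨0, zero_mem _, by simp⟩
  | add x y _ _ hx hy =>
    obtain ⟨c, hc, hxc⟩ := hx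
    obtain ⟨d, hd, hyd⟩ := hy
    refine ⟨c + d, add_mem hc hd, ?_⟩
    have : x + y - φ (c + d) = (x - φ c) + (y - φ d) := by rw [map_add]; ring
    rw [this]
    exact add_mem hxc hyd
  | smul b x hx ih =>
    obtain ⟨c, hc, hxc⟩ := ih
    obtain ⟨a, ha⟩ := h1 b
    refine ⟨a * c, Ideal.mul_mem_left _ _ hc, ?_⟩
    have hxJ : x ∈ J ^ n := by
      have : x ∈ Ideal.map φ (I ^ n) := hx
      rwa [Ideal.map_pow, hJ] at this
    have : b • x - φ (a * c) = φ a * (x - φ c) + (b - φ a) * x := by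
      rw [map_mul, smul_eq_mul]; ring
    rw [this]
    refine add_mem (Ideal.mul_mem_left _ _ hxc) ?_
    rw [pow_succ']
    exact Ideal.mul_mem_mul ha hxJ

theorem surjective (hψ : ∀ a, ψ (AdicCompletion.of I A a) = AdicCompletion.of J B (φ a))
    (fg : I.FG) (hJ : I.map φ = J) (h1 : ∀ b : B, ∃ a : A, b - φ a ∈ J) :
    Function.Surjective ψ := by
  intro y
  obtain ⟨b, rfl⟩ := AdicCompletion.mk_surjective J B y
  have hb : ∀ n, b (n + 1) - b n ∈ J ^ n := by
    intro n
    have := AdicCompletion.AdicCauchySequence.mk_eq_mk (Nat.le_succ n) b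
    rw [Submodule.Quotient.eq, smul_eq_mul, Ideal.mul_top] at this
    exact this
  have step : ∀ (n : ℕ) (p : {a : A // b n - φ a ∈ J ^ n}),
      ∃ a' : A, b (n + 1) - φ a' ∈ J ^ (n + 1) ∧ a' - p.1 ∈ I ^ n := by
    rintro n ⟨a, ha⟩
    have hz : b (n + 1) - φ a ∈ J ^ n := by
      have : b (n + 1) - φ a = (b (n + 1) - b n) + (b n - φ a) := by ring
      rw [this]
      exact add_mem (hb n) ha
    obtain ⟨c, hc, hzc⟩ := exists_approx I J φ hJ h1 n _ hz
    refine ⟨a + c, ?_, by simpa using hc⟩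
    have : b (n + 1) - φ (a + c) = b (n + 1) - φ a - φ c := by rw [map_add]; ring
    rw [this]
    exact hzc
  choose next hnext1 hnext2 using step
  let seq : ∀ n, {a : A // b n - φ a ∈ J ^ n} := fun n =>
    Nat.rec ⟨0, by simp⟩ (fun n p => ⟨next n p, hnext1 n p⟩) n
  have hseq : ∀ n, (seq (n + 1)).1 - (seq n).1 ∈ I ^ n := fun n => hnext2 n (seq n)
  let a : AdicCompletion.AdicCauchySequence I A :=
    AdicCompletion.AdicCauchySequence.mk I A (fun n => (seq n).1) (by
      intro n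
      rw [SModEq.comm, SModEq.sub_mem, smul_eq_mul, Ideal.mul_top]
      exact hseq n)
  refine ⟨AdicCompletion.mk I A a, ?_⟩
  apply AdicCompletion.ext_evalₐ
  intro n
  rw [evalₐ_map I J φ ψ hψ fg hJ.le, AdicCompletion.evalₐ_mk, AdicCompletion.evalₐ_mk, θ_mk,
    eq_comm, Ideal.Quotient.eq]
  exact (seq n).2

theorem bijective (hψ : ∀ a, ψ (AdicCompletion.of I A a) = AdicCompletion.of J B (φ a))
    (fg : I.FG) (hJ : I.map φ = J) (h1 : ∀ b : B, ∃ a : A, b - φ a ∈ J)
    (h : ∀ n, Function.Injective (θ I J φ hJ.le n)) : Function.Bijective ψ :=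
  ⟨injective I J φ ψ hψ fg hJ.le h, surjective I J φ ψ hψ fg hJ h1⟩

end ComplMap

end Groth.Agent.Lib.Helper83
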