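import Mathlib
import Groth.Agent.Lib.Helper83.CompleteNoeth

/-!
# Flat local homomorphisms with `𝔪_A B = 𝔪_B`

For a flat local homomorphism `A → B` of Noetherian local rings with `𝔪_A B = 𝔪_B` we show
`dim B = dim A`, the maximal ideals need the same number of generators, and
`A` is regular iff `B` is regular.
-/

namespace Groth.Agent.Lib.Helper83

open IsLocalRing

section general

variable {A B : Type*} [CommRing A] [CommRing B] [Algebra A B]
  [IsLocalRing A] [IsLocalRing B]

theorem isLocalHom_of_map_maximalIdeal
    (h : (maximalIdeal A).map (algebraMap A B) = maximalIdeal B) :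
    IsLocalHom (algebraMap A B) :=
  ((IsLocalRing.local_hom_TFAE (algebraMap A B)).out 0 2).mpr h.le

theorem faithfullyFlat_of_map_maximalIdeal [Module.Flat A B]
    (h : (maximalIdeal A).map (algebraMap A B) = maximalIdeal B) :
    Module.FaithfullyFlat A B :=
  have := isLocalHom_of_map_maximalIdeal h
  Module.FaithfullyFlat.of_flat_of_isLocalHom

theorem ringKrullDim_eq_of_flat_of_map_maximalIdeal [IsNoetherianRing A] [IsNoetherianRing B]
    [Module.Flat A B]
    (h : (maximalIdeal A).map (algebraMap A B) = maximalIdeal B) :
    ringKrullDim B = ringKrullDim A := by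
  have := isLocalHom_of_map_maximalIdeal h
  have : (maximalIdeal B).LiesOver (maximalIdeal A) :=
    ⟨(IsLocalRing.maximalIdeal_comap (algebraMap A B)).symm⟩
  have key := Ideal.height_eq_height_add_of_liesOver_of_hasGoingDown
    (maximalIdeal A) (maximalIdeal B)
  have hbot : (maximalIdeal B).map
      (Ideal.Quotient.mk ((maximalIdeal A).map (algebraMap A B))) = ⊥ := by
    rw [h, Ideal.map_quotient_self]
  rw [hbot] at key
  have : ((maximalIdeal A).map (algebraMap A B)).IsMaximal := h ▸ inferInstance
  have h0 : (⊥ : Ideal (B ⧸ (maximalIdeal A).map (algebraMap A B))).height = 0 := by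
    let := Ideal.Quotient.field ((maximalIdeal A).map (algebraMap A B))
    exact Ideal.height_bot
  rw [h0, add_zero] at key
  rw [← IsLocalRing.maximalIdeal_height_eq_ringKrullDim,
    ← IsLocalRing.maximalIdeal_height_eq_ringKrullDim, key]

theorem spanFinrank_maximalIdeal_le_of_flat_of_map_maximalIdeal [IsNoetherianRing A]
    [IsNoetherianRing B] [Module.Flat A B]
    (h : (maximalIdeal A).map (algebraMap A B) = maximalIdeal B) :
    (maximalIdeal A).spanFinrank ≤ (maximalIdeal B).spanFinrank := by
  have := isLocalHom_of_map_maximalIdeal h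
  have ff := faithfullyFlat_of_map_maximalIdeal h
  have hmem : ∀ a : maximalIdeal A, algebraMap A B a ∈ maximalIdeal B := fun a => by
    rw [← h]; exact Ideal.mem_map_of_mem _ a.2
  let ψ : maximalIdeal A → maximalIdeal B := fun a => ⟨algebraMap A B a, hmem a⟩
  let φ : maximalIdeal A → CotangentSpace B := fun a => (maximalIdeal B).toCotangent (ψ a)
  have hψ : Submodule.span B (Set.range ψ) = ⊤ := by
    apply Submodule.map_injective_of_injective (maximalIdeal B).subtype_injective
    rw [Submodule.map_span, Submodule.map_top, Submodule.range_subtype]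
    have himg : (maximalIdeal B).subtype '' Set.range ψ =
        algebraMap A B '' (maximalIdeal A : Set A) := by
      ext x
      simp only [Set.mem_image, Set.mem_range, SetLike.mem_coe, ψ]
      constructor
      · rintro ⟨_, ⟨a, rfl⟩, rfl⟩
        exact ⟨a, a.2, rfl⟩
      · rintro ⟨a, ha, rfl⟩
        exact ⟨_, ⟨⟨a, ha⟩, rfl⟩, rfl⟩
    rw [himg]
    exact h
  have hspan : Submodule.span (ResidueField B) (Set.range φ) = ⊤ := by
    have : Set.range φ = (maximalIdeal B).toCotangent '' (Set.range ψ) := by
      rw [← Set.range_comp]; rfl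
    rw [this, CotangentSpace.span_image_eq_top_iff, hψ]
  obtain ⟨κ, a, hainj, haspan, hali⟩ := exists_linearIndependent' (ResidueField B) φ
  rw [hspan] at haspan
  let bas := Module.Basis.mk hali haspan.ge
  have : Finite κ := Module.Finite.finite_basis bas
  have hcard : Nat.card κ = (maximalIdeal B).spanFinrank := by
    rw [IsLocalRing.spanFinrank_maximalIdeal_eq_finrank_cotangentSpace,
      Module.finrank_eq_nat_card_basis bas]
  -- the ideal generated by the chosen elements
  let t : Set A := Set.range (fun k => (a k : A))
  have htfin : t.Finite := Set.finite_range _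
  have hJ : Ideal.span t = maximalIdeal A := by
    apply Ideal.map_injective_of_faithfullyFlat (B := B)
    rw [h, Ideal.map_span]
    have h2 : Submodule.span B (Set.range (ψ ∘ a)) = ⊤ := by
      rw [← CotangentSpace.span_image_eq_top_iff, ← Set.range_comp]
      exact haspan
    have h3 := congrArg (Submodule.map (maximalIdeal B).subtype) h2
    rw [Submodule.map_span, Submodule.map_top, Submodule.range_subtype] at h3
    rw [← h3]
    congr 1
    ext x
    simp only [Set.mem_image, Set.mem_range, t, Function.comp, ψ]
    constructor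
    · rintro ⟨_, ⟨k, rfl⟩, rfl⟩
      exact ⟨_, ⟨k, rfl⟩, rfl⟩
    · rintro ⟨_, ⟨k, rfl⟩, rfl⟩
      exact ⟨_, ⟨k, rfl⟩, rfl⟩
  calc (maximalIdeal A).spanFinrank = (Ideal.span t).spanFinrank := by rw [hJ]
    _ ≤ t.ncard := Submodule.spanFinrank_span_le_ncard_of_finite htfin
    _ ≤ Nat.card κ := by
        have := Set.ncard_image_le (f := fun k => (a k : A)) (Set.finite_univ (α := κ))
        simpa [t, Set.image_univ, Set.ncard_univ] using this
    _ = (maximalIdeal B).spanFinrank := hcard

theorem spanFinrank_maximalIdeal_eq_of_flat_of_map_maximalIdeal [IsNoetherianRing A]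
    [IsNoetherianRing B] [Module.Flat A B]
    (h : (maximalIdeal A).map (algebraMap A B) = maximalIdeal B) :
    (maximalIdeal B).spanFinrank = (maximalIdeal A).spanFinrank := by
  refine le_antisymm ?_ (spanFinrank_maximalIdeal_le_of_flat_of_map_maximalIdeal h)
  rw [← h]
  exact Ideal.spanFinrank_map_le_of_fg _ (maximalIdeal A).fg_of_isNoetherianRing

theorem isRegularLocalRing_iff_of_flat_of_map_maximalIdeal [IsNoetherianRing A]
    [IsNoetherianRing B] [Module.Flat A B]
    (h : (maximalIdeal A).map (algebraMap A B) = maximalIdeal B) :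
    IsRegularLocalRing A ↔ IsRegularLocalRing B := by
  rw [isRegularLocalRing_iff, isRegularLocalRing_iff,
    spanFinrank_maximalIdeal_eq_of_flat_of_map_maximalIdeal h,
    ringKrullDim_eq_of_flat_of_map_maximalIdeal h]

end general

section completion

variable {A : Type*} [CommRing A] (I : Ideal A)

/-- `Â ⧸ IÂ ≃ A ⧸ I` for a finitely generated ideal `I`. -/
noncomputable def adicCompletionQuotientEquiv (fg : I.FG) :
    (AdicCompletion I A ⧸ I.map (algebraMap A (AdicCompletion I A))) ≃+* A ⧸ I :=
  (Ideal.quotEquivOfEq (AdicCompletion.ker_evalOneₐ_eq_map I fg).symm).trans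
    (RingHom.quotientKerEquivOfSurjective
      (f := (AdicCompletion.evalOneₐ I).toRingHom) (AdicCompletion.evalOneₐ_surjective I))

theorem isNoetherianRing_adicCompletion [IsNoetherianRing A] :
    IsNoetherianRing (AdicCompletion I A) := by
  have fg : I.FG := I.fg_of_isNoetherianRing
  have := AdicCompletion.isAdicComplete_self I fg
  have : IsNoetherianRing
      (AdicCompletion I A ⧸ I.map (algebraMap A (AdicCompletion I A))) :=
    isNoetherianRing_of_ringEquiv _ (adicCompletionQuotientEquiv I fg).symm
  exact isNoetherianRing_of_isAdicComplete (I.map (algebraMap A (AdicCompletion I A))) (fg.map _)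

theorem isLocalRing_adicCompletion [IsLocalRing A] (fg : I.FG) (hI : I ≠ ⊤) :
    IsLocalRing (AdicCompletion I A) := by
  have := AdicCompletion.isAdicComplete_self I fg
  have : Nontrivial (A ⧸ I) := Ideal.Quotient.nontrivial_iff.mpr hI
  have : IsLocalRing (A ⧸ I) :=
    IsLocalRing.of_surjective' (Ideal.Quotient.mk I) Ideal.Quotient.mk_surjective
  have : IsLocalRing (AdicCompletion I A ⧸ I.map (algebraMap A (AdicCompletion I A))) :=
    (adicCompletionQuotientEquiv I fg).symm.isLocalRing
  have := isLocalHom_of_le_jacobson_bot _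
    (IsAdicComplete.le_jacobson_bot (I.map (algebraMap A (AdicCompletion I A))))
  exact RingHom.domain_isLocalRing
    (Ideal.Quotient.mk (I.map (algebraMap A (AdicCompletion I A))))

theorem maximalIdeal_adicCompletion_eq_map [IsLocalRing A] (fg : I.FG) (hI : I ≠ ⊤) :
    haveI := isLocalRing_adicCompletion I fg hI
    (maximalIdeal A).map (algebraMap A (AdicCompletion I A)) =
      maximalIdeal (AdicCompletion I A) := by
  have := isLocalRing_adicCompletion I fg hI
  exact IsLocalRing.eq_maximalIdeal
    (AdicCompletion.isMaximal_map_of_le I (maximalIdeal A) (IsLocalRing.le_maximalIdeal hI) fg)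

/-- The `I`-adic completion (`I ≠ ⊤`) of a Noetherian local ring has the same dimension. -/
theorem ringKrullDim_adicCompletion_eq [IsLocalRing A] [IsNoetherianRing A] (hI : I ≠ ⊤) :
    ringKrullDim (AdicCompletion I A) = ringKrullDim A := by
  have := isLocalRing_adicCompletion I I.fg_of_isNoetherianRing hI
  have := isNoetherianRing_adicCompletion I
  exact ringKrullDim_eq_of_flat_of_map_maximalIdeal
    (maximalIdeal_adicCompletion_eq_map I I.fg_of_isNoetherianRing hI)

theorem spanFinrank_maximalIdeal_adicCompletion_eq [IsLocalRing A] [IsNoetherianRing A]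
    (hI : I ≠ ⊤) :
    haveI := isLocalRing_adicCompletion I I.fg_of_isNoetherianRing hI
    (maximalIdeal (AdicCompletion I A)).spanFinrank = (maximalIdeal A).spanFinrank := by
  have := isLocalRing_adicCompletion I I.fg_of_isNoetherianRing hI
  have := isNoetherianRing_adicCompletion I
  exact spanFinrank_maximalIdeal_eq_of_flat_of_map_maximalIdeal
    (maximalIdeal_adicCompletion_eq_map I I.fg_of_isNoetherianRing hI)

theorem isRegularLocalRing_adicCompletion_iff [IsLocalRing A] [IsNoetherianRing A]
    (hI : I ≠ ⊤) :
    IsRegularLocalRing A ↔ IsRegularLocalRing (AdicCompletion I A) := by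
  have := isLocalRing_adicCompletion I I.fg_of_isNoetherianRing hI
  have := isNoetherianRing_adicCompletion I
  exact isRegularLocalRing_iff_of_flat_of_map_maximalIdeal
    (maximalIdeal_adicCompletion_eq_map I I.fg_of_isNoetherianRing hI)

end completion

end Groth.Agent.Lib.Helper83
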