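import Mathlib
import Groth.Agent.Lib.Helper2.LocalFlat3
import Groth.Agent.Lib.Helper83.FlatLocalDim

/-!
# Flatness of the map induced on adic completions by a flat map of Noetherian rings (helper83)
-/

set_option autoImplicit false

namespace Groth.Agent.Lib.Helper83.FlatCompl

open TensorProduct Function

section Key

variable {A R : Type*} [CommRing A] [CommRing R] [Algebra A R] (𝔞 : Ideal A) (n : ℕ)
variable {M : Type*} [AddCommGroup M] [Module A M] [Module R M] [IsScalarTower A R M]
variable {T : Type*} [AddCommGroup T] [Module A T] [Module R T] [IsScalarTower A R T]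

/-- If `A → R/𝔞ⁿR` is surjective and `T` is killed by `𝔞ⁿ`, then pure tensors in `M ⊗[A] T`
are `R`-balanced. -/
theorem smul_tmul_eq (hsurj : ∀ r : R, ∃ a : A, r - algebraMap A R a ∈ (𝔞 ^ n • ⊤ : Submodule A R))
    (hT : ∀ a ∈ 𝔞 ^ n, ∀ t : T, a • t = 0) (r : R) (m : M) (t : T) :
    (r • m) ⊗ₜ[A] t = m ⊗ₜ[A] (r • t) := by
  obtain ⟨a, ha⟩ := hsurj r
  have key : ∀ s ∈ (𝔞 ^ n • ⊤ : Submodule A R), (s • m) ⊗ₜ[A] t = 0 ∧ s • t = 0 := by
    intro s hs
    refine Submodule.smul_induction_on hs ?_ ?_
    · intro c hc r' _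
      constructor
      · rw [smul_assoc, TensorProduct.smul_tmul, hT c hc, TensorProduct.tmul_zero]
      · rw [smul_assoc, hT c hc]
    · intro x y hx hy
      constructor
      · rw [add_smul, TensorProduct.add_tmul, hx.1, hy.1, add_zero]
      · rw [add_smul, hx.2, hy.2, add_zero]
  obtain ⟨h1, h2⟩ := key _ ha
  have hr : r = (r - algebraMap A R a) + algebraMap A R a := by ring
  rw [hr, add_smul, add_smul, TensorProduct.add_tmul, TensorProduct.tmul_add, h1, h2,
    TensorProduct.tmul_zero, algebraMap_smul, algebraMap_smul, TensorProduct.smul_tmul]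

end Key

section Comparison

variable {A R : Type*} [CommRing A] [CommRing R] [Algebra A R] (𝔞 : Ideal A) (n : ℕ)
variable {M : Type*} [AddCommGroup M] [Module A M] [Module R M] [IsScalarTower A R M]

/-- The inverse of the canonical surjection `M ⊗[A] T → M ⊗[R] T`, for `T` killed by `𝔞ⁿ` when
`A → R/𝔞ⁿR` is surjective. -/
noncomputable def dMap
    (hsurj : ∀ r : R, ∃ a : A, r - algebraMap A R a ∈ (𝔞 ^ n • ⊤ : Submodule A R))
    (T : Type*) [AddCommGroup T] [Module A T] [Module R T] [IsScalarTower A R T]
    (hT : ∀ a ∈ 𝔞 ^ n, ∀ t : T, a • t = 0) : M ⊗[R] T →ₗ[R] M ⊗[A] T :=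
  TensorProduct.lift
    { toFun := fun m =>
        { toFun := fun t => m ⊗ₜ[A] t
          map_add' := fun t₁ t₂ => TensorProduct.tmul_add m t₁ t₂
          map_smul' := fun r t => by
            rw [RingHom.id_apply, TensorProduct.smul_tmul',
              smul_tmul_eq 𝔞 n hsurj hT r m t] }
      map_add' := fun m₁ m₂ => by
        ext t
        exact TensorProduct.add_tmul m₁ m₂ t
      map_smul' := fun r m => by
        ext t
        exact (TensorProduct.smul_tmul' r m t).symm }

@[simp]
theorem dMap_tmul
    (hsurj : ∀ r : R, ∃ a : A, r - algebraMap A R a ∈ (𝔞 ^ n • ⊤ : Submodule A R))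
    (T : Type*) [AddCommGroup T] [Module A T] [Module R T] [IsScalarTower A R T]
    (hT : ∀ a ∈ 𝔞 ^ n, ∀ t : T, a • t = 0) (m : M) (t : T) :
    dMap 𝔞 n hsurj T hT (m ⊗ₜ[R] t) = m ⊗ₜ[A] t := rfl

/-- Flatness over `A` gives `R`-tensor injectivity on modules killed by `𝔞ⁿ`. -/
theorem lTensor_injective_of_flat
    (hsurj : ∀ r : R, ∃ a : A, r - algebraMap A R a ∈ (𝔞 ^ n • ⊤ : Submodule A R))
    [Module.Flat A M]
    {T' T : Type*} [AddCommGroup T'] [Module R T'] [AddCommGroup T] [Module R T]
    (hT' : ∀ a ∈ 𝔞 ^ n, ∀ t : T', algebraMap A R a • t = 0)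
    (hT : ∀ a ∈ 𝔞 ^ n, ∀ t : T, algebraMap A R a • t = 0)
    (i : T' →ₗ[R] T) (hi : Injective i) : Injective (LinearMap.lTensor M i) := by
  let _ : Module A T := Module.compHom T (algebraMap A R)
  let _ : Module A T' := Module.compHom T' (algebraMap A R)
  have : IsScalarTower A R T := ⟨fun a r t => by
    change (a • r) • t = algebraMap A R a • (r • t)
    rw [Algebra.smul_def, mul_smul]⟩
  have : IsScalarTower A R T' := ⟨fun a r t => by
    change (a • r) • t = algebraMap A R a • (r • t)
    rw [Algebra.smul_def, mul_smul]⟩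
  let iA : T' →ₗ[A] T := i.restrictScalars A
  have hiA : Injective (LinearMap.lTensor M iA) :=
    Module.Flat.lTensor_preserves_injective_linearMap iA hi
  have hnat : ∀ x : M ⊗[R] T', dMap 𝔞 n hsurj T hT (LinearMap.lTensor M i x) =
      LinearMap.lTensor M iA (dMap 𝔞 n hsurj T' hT' x) := by
    intro x
    induction x with
    | zero => simp
    | add x y hx hy => simp only [map_add, hx, hy]
    | tmul m t => rfl
  have hcd : ∀ x : M ⊗[R] T', TensorProduct.mapOfCompatibleSMul R A A M T'
      (dMap 𝔞 n hsurj T' hT' x) = x := by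
    intro x
    induction x with
    | zero => simp
    | add x y hx hy => simp only [map_add, hx, hy]
    | tmul m t => rfl
  rw [injective_iff_map_eq_zero]
  intro x hx
  have h1 : LinearMap.lTensor M iA (dMap 𝔞 n hsurj T' hT' x) = 0 := by
    rw [← hnat, hx, map_zero]
  have h2 : dMap 𝔞 n hsurj T' hT' x = 0 := by
    apply hiA
    rw [h1, map_zero]
  rw [← hcd x, h2, map_zero]

end Comparison

section Main

universe u

open Groth.Agent.Lib.Helper83 Groth.Agent.Lib.Helper2

variable {A B : Type u} [CommRing A] [CommRing B] [IsNoetherianRing A] [IsNoetherianRing B]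

theorem exists_sub_of_mem (I : Ideal A) (n : ℕ) (r : AdicCompletion I A) :
    ∃ a : A, r - algebraMap A (AdicCompletion I A) a ∈
      (I ^ n • ⊤ : Submodule A (AdicCompletion I A)) := by
  obtain ⟨a, ha⟩ := Ideal.Quotient.mk_surjective (AdicCompletion.evalₐ I n r)
  refine ⟨a, ?_⟩
  rw [AdicCompletion.pow_smul_top_eq_ker_eval I.fg_of_isNoetherianRing, LinearMap.mem_ker,
    map_sub]
  have h1 : AdicCompletion.eval I A n r =
      Ideal.Quotient.factor (by simp) (AdicCompletion.evalₐ I n r) :=
    (AdicCompletion.factor_evalₐ_eq_eval I r (by simp)).symm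
  rw [h1, ← ha, AdicCompletion.algebraMap_apply, Algebra.algebraMap_self, RingHom.id_apply,
    AdicCompletion.eval_of]
  simp

/-- **Completion preserves flatness**: if `φ : A → B` is a flat map of Noetherian rings with
`φ(I)B ⊆ J`, then any ring map `Â → B̂` (completions along `I`, `J`) compatible with `φ` is flat. -/
theorem flat_of_map_adicCompletion (I : Ideal A) (J : Ideal B) (φ : A →+* B) (hφ : I.map φ ≤ J)
    (hflat : φ.Flat) (ψ : AdicCompletion I A →+* AdicCompletion J B)
    (hψ : ∀ a, ψ (AdicCompletion.of I A a) = AdicCompletion.of J B (φ a)) : ψ.Flat := by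
  let _ : Algebra A B := φ.toAlgebra
  have hAB : Module.Flat A B := hflat
  let _ : Algebra (AdicCompletion I A) (AdicCompletion J B) := ψ.toAlgebra
  have : IsScalarTower A (AdicCompletion I A) (AdicCompletion J B) :=
    IsScalarTower.of_algebraMap_eq (fun a => (hψ a).symm)
  have : IsScalarTower A B (AdicCompletion J B) := IsScalarTower.of_algebraMap_eq (fun a => rfl)
  have : IsNoetherianRing (AdicCompletion I A) := isNoetherianRing_adicCompletion I
  have : IsNoetherianRing (AdicCompletion J B) := isNoetherianRing_adicCompletion J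
  have : Module.Flat B (AdicCompletion J B) := inferInstance
  have : Module.Flat A (AdicCompletion J B) := Module.Flat.trans A B _
  change Module.Flat (AdicCompletion I A) (AdicCompletion J B)
  apply flat_of_forall_lTensor_quotient_injective (S := AdicCompletion J B)
    (I.map (algebraMap A (AdicCompletion I A))) ?_ ?_
  · have := AdicCompletion.isAdicComplete_self J J.fg_of_isNoetherianRing
    refine le_trans ?_ (IsAdicComplete.le_jacobson_bot (J.map (algebraMap B (AdicCompletion J B))))
    rw [Ideal.map_map, ← IsScalarTower.algebraMap_eq,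
      IsScalarTower.algebraMap_eq A B (AdicCompletion J B), ← Ideal.map_map]
    exact Ideal.map_mono hφ
  · intro n K
    have hkill : ∀ a ∈ I ^ n, ∀ t : AdicCompletion I A ⧸ (I.map (algebraMap A (AdicCompletion I A))) ^ n,
        algebraMap A (AdicCompletion I A) a • t = 0 := by
      intro a ha t
      obtain ⟨t, rfl⟩ := Submodule.mkQ_surjective _ t
      rw [← map_smul, Submodule.mkQ_apply, Submodule.Quotient.mk_eq_zero, smul_eq_mul,
        ← Ideal.map_pow]
      exact Ideal.mul_mem_right _ _ (Ideal.mem_map_of_mem _ ha)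
    apply lTensor_injective_of_flat I n (exists_sub_of_mem I n) ?_ hkill _
      (Submodule.subtype_injective _)
    intro a ha t
    apply Subtype.ext
    exact hkill a ha t.1

end Main

end Groth.Agent.Lib.Helper83.FlatCompl
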