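import Mathlib
import Groth.Agent.Lib.Helper83.CompleteNoeth

/-!
# Precompleteness: extensions, finite products, torsion modules
-/

namespace Groth.Agent.Lib.Helper83

universe u

section pi

variable {R : Type*} [CommRing R] (I : Ideal R)

/-- A finite power of a precomplete module is precomplete. -/
theorem isPrecomplete_pi {ι : Type*} [Finite ι] {N : Type*} [AddCommGroup N] [Module R N]
    [hN : IsPrecomplete I N] : IsPrecomplete I (ι → N) := by
  cases nonempty_fintype ι
  classical
  refine ⟨fun {f} hf => ?_⟩
  have hcomp : ∀ i, ∀ {m n}, m ≤ n → (f m i) ≡ (f n i) [SMOD (I ^ m • ⊤ : Submodule R N)] := by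
    intro i m n hmn
    have := (hf hmn).map (LinearMap.proj i : (ι → N) →ₗ[R] N)
    refine this.mono ?_
    rw [Submodule.map_smul'']
    exact Submodule.smul_mono le_rfl le_top
  choose L hL using fun i => IsPrecomplete.prec hN (hcomp i)
  refine ⟨L, fun n => ?_⟩
  rw [SModEq.sub_mem]
  have h0 : f n - L = ∑ i, LinearMap.single R (fun _ => N) i (f n i - L i) := by
    ext j
    simp [Finset.sum_apply, Pi.single_apply]
  rw [h0]
  refine Submodule.sum_mem _ fun i _ => ?_
  have h1 : f n i - L i ∈ (I ^ n • ⊤ : Submodule R N) := SModEq.sub_mem.mp (hL i n)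
  have h2 : (I ^ n • ⊤ : Submodule R N).map (LinearMap.single R (fun _ => N) i) ≤ I ^ n • ⊤ := by
    rw [Submodule.map_smul'']
    exact Submodule.smul_mono le_rfl le_top
  exact h2 (Submodule.mem_map_of_mem h1)

end pi

section ext

variable {R : Type u} [CommRing R] (I : Ideal R)

/-- Over a Noetherian ring, an extension of precomplete modules (middle term finite) is
precomplete. -/
theorem isPrecomplete_of_exact [IsNoetherianRing R] {M N P : Type u} [AddCommGroup M]
    [Module R M] [AddCommGroup N] [Module R N] [AddCommGroup P] [Module R P] [Module.Finite R N]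
    {f : M →ₗ[R] N} {g : N →ₗ[R] P} (hf : Function.Injective f) (hfg : Function.Exact f g)
    (hg : Function.Surjective g) [IsPrecomplete I M] [IsPrecomplete I P] :
    IsPrecomplete I N := by
  rw [← AdicCompletion.of_surjective_iff]
  intro y
  obtain ⟨z'', hz''⟩ := AdicCompletion.of_surjective I P (AdicCompletion.map I g y)
  obtain ⟨z, rfl⟩ := hg z''
  have h1 : AdicCompletion.map I g (y - AdicCompletion.of I N z) = 0 := by
    rw [map_sub, AdicCompletion.map_of, hz'', sub_self]
  obtain ⟨w, hw⟩ := (AdicCompletion.map_exact hf hfg hg _).mp h1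
  obtain ⟨w', rfl⟩ := AdicCompletion.of_surjective I M w
  refine ⟨z + f w', ?_⟩
  rw [map_add, ← AdicCompletion.map_of, hw]
  abel

end ext

section torsion

variable {R : Type u} [CommRing R] (J K : Ideal R)

/-- A finite module killed by `K` is `J`-precomplete as soon as `R ⧸ K` is. -/
theorem isPrecomplete_of_finite_of_smul_top_eq_bot [IsPrecomplete J (R ⧸ K)] {M : Type*}
    [AddCommGroup M] [Module R M] [Module.Finite R M]
    (hK : (K • ⊤ : Submodule R M) = ⊥) : IsPrecomplete J M := by
  classical
  obtain ⟨n, s, hs⟩ := Module.Finite.exists_fin (R := R) (M := M)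
  have hkill : ∀ m : M, K ≤ LinearMap.ker (LinearMap.toSpanSingleton R M m) := by
    intro m a ha
    rw [LinearMap.mem_ker, LinearMap.toSpanSingleton_apply]
    have : a • m ∈ (K • ⊤ : Submodule R M) := Submodule.smul_mem_smul ha Submodule.mem_top
    rwa [hK, Submodule.mem_bot] at this
  let φ : (Fin n → R ⧸ K) →ₗ[R] M :=
    ∑ i, (Submodule.liftQ K (LinearMap.toSpanSingleton R M (s i)) (hkill (s i))).comp
      (LinearMap.proj i)
  have hφ : Function.Surjective φ := by
    rw [← LinearMap.range_eq_top, eq_top_iff, ← hs, Submodule.span_le]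
    rintro _ ⟨i, rfl⟩
    refine ⟨Pi.single i 1, ?_⟩
    simp only [φ, LinearMap.sum_apply, LinearMap.comp_apply, LinearMap.proj_apply]
    rw [Finset.sum_eq_single i]
    · rw [Pi.single_eq_same]
      have h1 : (1 : R ⧸ K) = Submodule.Quotient.mk (1 : R) := rfl
      rw [h1, Submodule.liftQ_apply, LinearMap.toSpanSingleton_apply, one_smul]
    · intro j _ hj
      rw [Pi.single_eq_of_ne hj, map_zero]
    · intro h; exact absurd (Finset.mem_univ i) h
  have : IsPrecomplete J (Fin n → R ⧸ K) := isPrecomplete_pi J
  exact isPrecomplete_of_surjective J φ hφ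

/-- Over a Noetherian ring, a finite module killed by a power of `K` is `J`-precomplete as soon
as `R ⧸ K` is. -/
theorem isPrecomplete_of_finite_of_pow_smul_top_eq_bot [IsNoetherianRing R]
    [IsPrecomplete J (R ⧸ K)] (k : ℕ) :
    ∀ {M : Type u} [AddCommGroup M] [Module R M] [Module.Finite R M],
      (K ^ k • ⊤ : Submodule R M) = ⊥ → IsPrecomplete J M := by
  induction k with
  | zero =>
    intro M _ _ _ h
    rw [pow_zero, Ideal.one_eq_top, Submodule.top_smul] at h
    have : Subsingleton M := by
      refine ⟨fun a b => ?_⟩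
      have ha : a ∈ (⊤ : Submodule R M) := Submodule.mem_top
      have hb : b ∈ (⊤ : Submodule R M) := Submodule.mem_top
      rw [h, Submodule.mem_bot] at ha hb
      rw [ha, hb]
    infer_instance
  | succ k ih =>
    intro M _ _ _ h
    have : IsNoetherian R M := isNoetherian_of_isNoetherianRing_of_finite R M
    let N : Submodule R M := K • ⊤
    have hN : (K ^ k • ⊤ : Submodule R N) = ⊥ := by
      apply Submodule.map_injective_of_injective N.subtype_injective
      rw [Submodule.map_smul'', Submodule.map_top, Submodule.range_subtype, Submodule.map_bot]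
      show K ^ k • K • (⊤ : Submodule R M) = ⊥
      rw [← mul_smul, ← pow_succ, h]
    have hQ : (K • ⊤ : Submodule R (M ⧸ N)) = ⊥ := by
      rw [← Submodule.range_mkQ N, ← Submodule.map_top, ← Submodule.map_smul'']
      exact Submodule.mkQ_map_self N
    have : IsPrecomplete J N := ih hN
    have : IsPrecomplete J (M ⧸ N) := isPrecomplete_of_finite_of_smul_top_eq_bot J K hQ
    exact isPrecomplete_of_exact J (f := N.subtype) (g := N.mkQ) N.subtype_injective
      (LinearMap.exact_subtype_mkQ N) (Submodule.mkQ_surjective N)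

end torsion

end Groth.Agent.Lib.Helper83
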