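import Mathlib
import Groth.Agent.S0558

/-!
# Quotients of regular local rings that are regular

* `spanFinrank_le_of_map_quot_span_singleton` : `μ(I) ≤ μ(I/(x)) + 1` for `x ∈ I`.
* `spanFinrank_maximalIdeal_le_of_le_sq` : if `I ≤ m²` then `μ(m_R) ≤ μ(m_{R/I})`.
* `eq_bot_of_ringKrullDim_quotient_eq` : in a finite-dimensional domain, `dim D/Q = dim D → Q = ⊥`.
* `spanFinrank_le_of_isRegularLocalRing_quotient` : `R`, `R/I` regular local ⇒ `μ(I) + dim R/I ≤ dim R`.
-/

set_option autoImplicit false
universe u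

namespace Groth.Agent.Lib.Helper83.RegQuot

open IsLocalRing

/-- `μ(I) ≤ μ(I/(x)) + 1` for `x ∈ I` (Noetherian ring). -/
theorem spanFinrank_le_of_map_quot_span_singleton {R : Type u} [CommRing R] [IsNoetherianRing R]
    (I : Ideal R) (x : R) (hx : x ∈ I) :
    I.spanFinrank ≤ (I.map (Ideal.Quotient.mk (Ideal.span ({x} : Set R)))).spanFinrank + 1 := by
  classical
  set π := Ideal.Quotient.mk (Ideal.span ({x} : Set R)) with hπ
  have hπs : Function.Surjective π := Ideal.Quotient.mk_surjective
  have hfg : (I.map π).FG := (I.map π).fg_of_isNoetherianRing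
  obtain ⟨s', hcard, hspan⟩ := Submodule.FG.exists_span_finset_card_eq_spanFinrank hfg
  -- choose lifts in `I`
  have hlift : ∀ y : R ⧸ Ideal.span ({x} : Set R), ∃ z : R, (y ∈ I.map π → z ∈ I) ∧ π z = y := by
    intro y
    by_cases hy : y ∈ I.map π
    · obtain ⟨z, hz, hzy⟩ := (Ideal.mem_map_iff_of_surjective π hπs).1 hy
      exact ⟨z, fun _ => hz, hzy⟩
    · obtain ⟨z, hz⟩ := hπs y
      exact ⟨z, fun h => absurd h hy, hz⟩
  choose g hgI hgπ using hlift
  set t : Finset R := insert x (s'.image g) with ht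
  have hs'mem : ∀ y ∈ s', y ∈ I.map π := fun y hy => by
    rw [← hspan]; exact Submodule.subset_span hy
  have htI : Ideal.span (t : Set R) = I := by
    apply le_antisymm
    · rw [Ideal.span_le]
      intro z hz
      rw [ht, Finset.coe_insert, Set.mem_insert_iff] at hz
      rcases hz with rfl | hz
      · exact hx
      · simp only [Finset.coe_image, Set.mem_image, Finset.mem_coe] at hz
        obtain ⟨y, hy, rfl⟩ := hz
        exact hgI y (hs'mem y hy)
    · intro y hy
      have h1 : π y ∈ Ideal.span ((s' : Set (R ⧸ Ideal.span ({x} : Set R)))) := by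
        change π y ∈ Submodule.span _ _
        rw [hspan]; exact Ideal.mem_map_of_mem π hy
      have h2 : (s' : Set (R ⧸ Ideal.span ({x} : Set R))) = π '' ((s'.image g : Finset R) : Set R) := by
        ext w
        simp only [Finset.coe_image, Set.mem_image, Finset.mem_coe]
        constructor
        · intro hw; exact ⟨g w, ⟨w, hw, rfl⟩, hgπ w⟩
        · rintro ⟨_, ⟨v, hv, rfl⟩, rfl⟩; rwa [hgπ v]
      rw [h2, ← Ideal.map_span] at h1
      obtain ⟨z, hz, hzy⟩ := (Ideal.mem_map_iff_of_surjective π hπs).1 h1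
      have h3 : y - z ∈ Ideal.span ({x} : Set R) := by
        rw [← Ideal.Quotient.eq_zero_iff_mem, map_sub, ← hπ, hzy, sub_self]
      have h4 : Ideal.span ({x} : Set R) ≤ Ideal.span (t : Set R) :=
        Ideal.span_mono (by rw [ht, Finset.coe_insert]; exact Set.singleton_subset_iff.2 (Set.mem_insert _ _))
      have h5 : Ideal.span ((s'.image g : Finset R) : Set R) ≤ Ideal.span (t : Set R) :=
        Ideal.span_mono (by rw [ht, Finset.coe_insert]; exact Set.subset_insert _ _)
      have : y = (y - z) + z := by ring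
      rw [this]
      exact Ideal.add_mem _ (h4 h3) (h5 hz)
  have h1 : I.spanFinrank ≤ t.card := by
    conv_lhs => rw [← htI]
    have := Submodule.spanFinrank_span_le_ncard_of_finite (R := R) (Finset.finite_toSet t)
    rwa [Set.ncard_coe_finset] at this
  have h2 : t.card ≤ (s'.image g).card + 1 := Finset.card_insert_le _ _
  have h3 : (s'.image g).card ≤ s'.card := Finset.card_image_le
  omega

/-- If `I ≤ m²` then the maximal ideal of `R` needs no more generators than that of `R ⧸ I`. -/
theorem spanFinrank_maximalIdeal_le_of_le_sq {R : Type u} [CommRing R] [IsLocalRing R]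
    [IsNoetherianRing R] (I : Ideal R) [IsLocalRing (R ⧸ I)] (hI : I ≤ maximalIdeal R ^ 2) :
    (maximalIdeal R).spanFinrank ≤ (maximalIdeal (R ⧸ I)).spanFinrank := by
  classical
  set π := Ideal.Quotient.mk I with hπ
  have hπs : Function.Surjective π := Ideal.Quotient.mk_surjective
  have hfg : (maximalIdeal (R ⧸ I)).FG := (maximalIdeal (R ⧸ I)).fg_of_isNoetherianRing
  obtain ⟨s', hcard, hspan⟩ := Submodule.FG.exists_span_finset_card_eq_spanFinrank hfg
  have hcomap : (maximalIdeal (R ⧸ I)).comap π = maximalIdeal R := by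
    have hloc : IsLocalHom π := IsLocalHom.of_surjective π hπs
    ext y
    simp only [Ideal.mem_comap, mem_maximalIdeal, mem_nonunits_iff]
    exact not_congr (isUnit_map_iff π y)
  choose g hg using hπs
  set t : Finset R := s'.image g with ht
  have htm : Ideal.span (t : Set R) ≤ maximalIdeal R := by
    rw [Ideal.span_le]
    intro z hz
    simp only [ht, Finset.coe_image, Set.mem_image, Finset.mem_coe] at hz
    obtain ⟨y, hy, rfl⟩ := hz
    rw [← hcomap, SetLike.mem_coe, Ideal.mem_comap, hg]
    rw [← hspan]; exact Submodule.subset_span hy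
  have hle : maximalIdeal R ≤ Ideal.span (t : Set R) ⊔ maximalIdeal R • maximalIdeal R := by
    intro y hy
    have h1 : π y ∈ Ideal.span ((s' : Set (R ⧸ I))) := by
      change π y ∈ Submodule.span _ _
      rw [hspan, ← Ideal.mem_comap, hcomap]; exact hy
    have h2 : (s' : Set (R ⧸ I)) = π '' (t : Set R) := by
      ext w
      simp only [ht, Finset.coe_image, Set.mem_image, Finset.mem_coe]
      constructor
      · intro hw; exact ⟨g w, ⟨w, hw, rfl⟩, hg w⟩
      · rintro ⟨_, ⟨v, hv, rfl⟩, rfl⟩; rwa [hg v]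
    rw [h2, ← Ideal.map_span] at h1
    obtain ⟨z, hz, hzy⟩ := (Ideal.mem_map_iff_of_surjective π Ideal.Quotient.mk_surjective).1 h1
    have h3 : y - z ∈ I := by
      rw [← Ideal.Quotient.eq_zero_iff_mem, map_sub, ← hπ, hzy, sub_self]
    have h4 : y - z ∈ maximalIdeal R • maximalIdeal R := by
      have := hI h3
      rwa [pow_two] at this
    have : y = z + (y - z) := by ring
    rw [this]
    exact Submodule.add_mem_sup hz h4
  have hmle : maximalIdeal R ≤ Ideal.span (t : Set R) :=
    Submodule.le_of_le_smul_of_le_jacobson_bot (maximalIdeal R).fg_of_isNoetherianRing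
      (IsLocalRing.maximalIdeal_le_jacobson _) hle
  have heq : Ideal.span (t : Set R) = maximalIdeal R := le_antisymm htm hmle
  have h1 : (maximalIdeal R).spanFinrank ≤ t.card := by
    conv_lhs => rw [← heq]
    have := Submodule.spanFinrank_span_le_ncard_of_finite (R := R) (Finset.finite_toSet t)
    rwa [Set.ncard_coe_finset] at this
  have h3 : t.card ≤ s'.card := Finset.card_image_le
  omega

/-- In a domain of finite Krull dimension, a quotient of the same dimension is by the zero ideal. -/
theorem eq_bot_of_ringKrullDim_quotient_eq {D : Type u} [CommRing D] [IsDomain D]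
    (Q : Ideal D) (n : ℕ) (hD : ringKrullDim D = n) (hQ : ringKrullDim (D ⧸ Q) = n) : Q = ⊥ := by
  by_contra hne
  obtain ⟨r, hrQ, hr0⟩ := Submodule.exists_mem_ne_zero_of_ne_bot hne
  have hr : r ∈ nonZeroDivisors D := mem_nonZeroDivisors_of_ne_zero hr0
  have h1 : ringKrullDim (D ⧸ Ideal.span ({r} : Set D)) + 1 ≤ ringKrullDim D :=
    ringKrullDim_quotient_succ_le_of_nonZeroDivisor hr
  have hle : Ideal.span ({r} : Set D) ≤ Q := (Ideal.span_singleton_le_iff_mem _).2 hrQ
  have h2 : ringKrullDim (D ⧸ Q) ≤ ringKrullDim (D ⧸ Ideal.span ({r} : Set D)) :=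
    ringKrullDim_le_of_surjective (Ideal.Quotient.factor hle) (Ideal.Quotient.factor_surjective hle)
  rw [hQ] at h2
  rw [hD] at h1
  have h3 : ((n : WithBot ℕ∞)) + 1 ≤ n := le_trans (by gcongr) h1
  have : ((n + 1 : ℕ) : WithBot ℕ∞) ≤ (n : ℕ) := by exact_mod_cast h3
  have : n + 1 ≤ n := by exact_mod_cast this
  omega

/-- If `R` and `R ⧸ I` are regular local and `μ(m_R) = μ(m_{R/I}) + d`, then `I` is generated by `d`
elements. -/
theorem spanFinrank_le_aux : ∀ (d : ℕ) (R : Type u) [CommRing R] [IsRegularLocalRing R]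
    (I : Ideal R) [IsRegularLocalRing (R ⧸ I)],
    (maximalIdeal R).spanFinrank = (maximalIdeal (R ⧸ I)).spanFinrank + d → I.spanFinrank ≤ d := by
  intro d
  induction d with
  | zero =>
    intro R _ _ I _ h
    have : IsDomain R := Groth.Agent.S0558.result R
    have h1 : ringKrullDim R = ((maximalIdeal R).spanFinrank : ℕ) :=
      (IsRegularLocalRing.spanFinrank_maximalIdeal (R := R)).symm
    have h2 : ringKrullDim (R ⧸ I) = ((maximalIdeal R).spanFinrank : ℕ) := by
      rw [h, add_zero]
      exact (IsRegularLocalRing.spanFinrank_maximalIdeal (R := R ⧸ I)).symm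
    have := eq_bot_of_ringKrullDim_quotient_eq I _ h1 h2
    rw [this]
    exact le_of_eq Submodule.spanFinrank_bot
  | succ d ih =>
    intro R _ _ I _ h
    have hIne : I ≠ ⊤ := by
      intro hI
      have : Subsingleton (R ⧸ I) := Ideal.Quotient.subsingleton_iff.2 hI
      exact not_subsingleton (R ⧸ I) this
    have hIm : I ≤ maximalIdeal R := IsLocalRing.le_maximalIdeal hIne
    have hnot : ¬ I ≤ maximalIdeal R ^ 2 := by
      intro hle
      have := spanFinrank_maximalIdeal_le_of_le_sq I hle
      omega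
    obtain ⟨x, hxI, hx2⟩ := Set.not_subset.1 hnot
    have hxm : x ∈ maximalIdeal R := hIm hxI
    obtain ⟨hreg, hμ⟩ := Groth.Agent.S0558.isRegularLocalRing_quot R x hxm hx2
    have hle : Ideal.span ({x} : Set R) ≤ I := (Ideal.span_singleton_le_iff_mem _).2 hxI
    let e : ((R ⧸ Ideal.span ({x} : Set R)) ⧸
        I.map (Ideal.Quotient.mk (Ideal.span ({x} : Set R)))) ≃+* R ⧸ I :=
      DoubleQuot.quotQuotEquivQuotOfLE hle
    have hreg' : IsRegularLocalRing ((R ⧸ Ideal.span ({x} : Set R)) ⧸
        I.map (Ideal.Quotient.mk (Ideal.span ({x} : Set R)))) :=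
      IsRegularLocalRing.of_ringEquiv e.symm
    have hμ' : (maximalIdeal ((R ⧸ Ideal.span ({x} : Set R)) ⧸
        I.map (Ideal.Quotient.mk (Ideal.span ({x} : Set R))))).spanFinrank =
          (maximalIdeal (R ⧸ I)).spanFinrank := by
      have h1 : ((maximalIdeal ((R ⧸ Ideal.span ({x} : Set R)) ⧸
        I.map (Ideal.Quotient.mk (Ideal.span ({x} : Set R))))).spanFinrank : WithBot ℕ∞) =
          ringKrullDim ((R ⧸ Ideal.span ({x} : Set R)) ⧸
        I.map (Ideal.Quotient.mk (Ideal.span ({x} : Set R)))) :=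
        IsRegularLocalRing.spanFinrank_maximalIdeal
      have h2 : ((maximalIdeal (R ⧸ I)).spanFinrank : WithBot ℕ∞) = ringKrullDim (R ⧸ I) :=
        IsRegularLocalRing.spanFinrank_maximalIdeal
      rw [ringKrullDim_eq_of_ringEquiv e, ← h2] at h1
      exact_mod_cast h1
    have hih := ih (R ⧸ Ideal.span ({x} : Set R))
      (I.map (Ideal.Quotient.mk (Ideal.span ({x} : Set R)))) (by omega)
    have := spanFinrank_le_of_map_quot_span_singleton I x hxI
    omega

/-- If `R` and `R ⧸ I` are regular local rings then `I` is generated by `dim R - dim R/I`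
elements. -/
theorem spanFinrank_add_le_of_isRegularLocalRing_quotient {R : Type u} [CommRing R]
    [IsRegularLocalRing R] (I : Ideal R) [IsRegularLocalRing (R ⧸ I)] :
    I.spanFinrank + (maximalIdeal (R ⧸ I)).spanFinrank ≤ (maximalIdeal R).spanFinrank := by
  have h1 : ((maximalIdeal R).spanFinrank : WithBot ℕ∞) = ringKrullDim R :=
    IsRegularLocalRing.spanFinrank_maximalIdeal
  have h2 : ((maximalIdeal (R ⧸ I)).spanFinrank : WithBot ℕ∞) = ringKrullDim (R ⧸ I) :=
    IsRegularLocalRing.spanFinrank_maximalIdeal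
  have h3 : ringKrullDim (R ⧸ I) ≤ ringKrullDim R := ringKrullDim_quotient_le I
  rw [← h1, ← h2] at h3
  have h4 : (maximalIdeal (R ⧸ I)).spanFinrank ≤ (maximalIdeal R).spanFinrank := by
    exact_mod_cast h3
  obtain ⟨d, hd⟩ := Nat.exists_eq_add_of_le h4
  have := spanFinrank_le_aux d R I hd
  omega

/-- A subset of `↥m` spans `↥m` iff its image in `R` spans the ideal `m`. -/
theorem span_eq_top_iff_span_image_eq {R : Type u} [CommRing R] (m : Ideal R) (S : Set m) :
    Submodule.span R S = ⊤ ↔ Ideal.span (Subtype.val '' S) = m := by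
  have hinj : Function.Injective (Submodule.map (Submodule.subtype m)) :=
    Submodule.map_injective_of_injective (Submodule.injective_subtype m)
  rw [← hinj.eq_iff, Submodule.map_span, Submodule.map_top, Submodule.range_subtype]
  rfl

/-- If `span t ⊔ J = m`, then the maximal ideal of `R ⧸ J` is generated by `t.card` elements. -/
theorem spanFinrank_maximalIdeal_quotient_le {R : Type u} [CommRing R] [IsLocalRing R]
    (J : Ideal R) [IsLocalRing (R ⧸ J)] (t : Finset R)
    (h : Ideal.span (t : Set R) ⊔ J = maximalIdeal R) :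
    (maximalIdeal (R ⧸ J)).spanFinrank ≤ t.card := by
  classical
  set π := Ideal.Quotient.mk J with hπ
  have hπs : Function.Surjective π := Ideal.Quotient.mk_surjective
  have hcomap : (maximalIdeal (R ⧸ J)).comap π = maximalIdeal R := by
    have hloc : IsLocalHom π := IsLocalHom.of_surjective π hπs
    ext y
    simp only [Ideal.mem_comap, mem_maximalIdeal, mem_nonunits_iff]
    exact not_congr (isUnit_map_iff π y)
  have hmap : maximalIdeal (R ⧸ J) = Ideal.map π (maximalIdeal R) := by
    rw [← hcomap, Ideal.map_comap_of_surjective π hπs]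
  have hgen : maximalIdeal (R ⧸ J) = Ideal.span ((t.image π : Finset (R ⧸ J)) : Set (R ⧸ J)) := by
    rw [hmap, ← h, Ideal.map_sup, Ideal.map_span, hπ, Ideal.map_quotient_self, sup_bot_eq,
      Finset.coe_image]
  have h1 : (maximalIdeal (R ⧸ J)).spanFinrank ≤ (t.image π).card := by
    conv_lhs => rw [hgen]
    have := Submodule.spanFinrank_span_le_ncard_of_finite (R := R ⧸ J)
      (Finset.finite_toSet (t.image π))
    rwa [Set.ncard_coe_finset] at this
  exact h1.trans Finset.card_image_le

/-- Lifting a minimal generating set of the maximal ideal of `R ⧸ J`. -/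
theorem exists_finset_span_sup_eq {R : Type u} [CommRing R] [IsLocalRing R] [IsNoetherianRing R]
    (J : Ideal R) [IsLocalRing (R ⧸ J)] :
    ∃ t : Finset R, t.card ≤ (maximalIdeal (R ⧸ J)).spanFinrank ∧
      (t : Set R) ⊆ maximalIdeal R ∧ Ideal.span (t : Set R) ⊔ J = maximalIdeal R := by
  classical
  set π := Ideal.Quotient.mk J with hπ
  have hπs : Function.Surjective π := Ideal.Quotient.mk_surjective
  have hfg : (maximalIdeal (R ⧸ J)).FG := (maximalIdeal (R ⧸ J)).fg_of_isNoetherianRing
  obtain ⟨s', hcard, hspan⟩ := Submodule.FG.exists_span_finset_card_eq_spanFinrank hfg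
  have hcomap : (maximalIdeal (R ⧸ J)).comap π = maximalIdeal R := by
    have hloc : IsLocalHom π := IsLocalHom.of_surjective π hπs
    ext y
    simp only [Ideal.mem_comap, mem_maximalIdeal, mem_nonunits_iff]
    exact not_congr (isUnit_map_iff π y)
  have hJne : J ≠ ⊤ := by
    intro hJ
    have : Subsingleton (R ⧸ J) := Ideal.Quotient.subsingleton_iff.2 hJ
    exact not_subsingleton (R ⧸ J) this
  have hJm : J ≤ maximalIdeal R := IsLocalRing.le_maximalIdeal hJne
  choose g hg using hπs
  set t : Finset R := s'.image g with ht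
  have htm : (t : Set R) ⊆ maximalIdeal R := by
    intro z hz
    simp only [ht, Finset.coe_image, Set.mem_image, Finset.mem_coe] at hz
    obtain ⟨y, hy, rfl⟩ := hz
    rw [← hcomap, SetLike.mem_coe, Ideal.mem_comap, hg]
    rw [← hspan]; exact Submodule.subset_span hy
  refine ⟨t, by rw [← hcard]; exact Finset.card_image_le, htm, le_antisymm ?_ ?_⟩
  · exact sup_le (Ideal.span_le.2 htm) hJm
  · intro y hy
    have h1 : π y ∈ Ideal.span ((s' : Set (R ⧸ J))) := by
      change π y ∈ Submodule.span _ _
      rw [hspan, ← Ideal.mem_comap, hcomap]; exact hy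
    have h2 : (s' : Set (R ⧸ J)) = π '' (t : Set R) := by
      ext w
      simp only [ht, Finset.coe_image, Set.mem_image, Finset.mem_coe]
      constructor
      · intro hw; exact ⟨g w, ⟨w, hw, rfl⟩, hg w⟩
      · rintro ⟨_, ⟨v, hv, rfl⟩, rfl⟩; rwa [hg v]
    rw [h2, ← Ideal.map_span] at h1
    obtain ⟨z, hz, hzy⟩ := (Ideal.mem_map_iff_of_surjective π Ideal.Quotient.mk_surjective).1 h1
    have h3 : y - z ∈ J := by
      rw [← Ideal.Quotient.eq_zero_iff_mem, map_sub, ← hπ, hzy, sub_self]
    have : y = z + (y - z) := by ring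
    rw [this]
    exact Submodule.add_mem_sup hz h3

section regseq
open RingTheory.Sequence Pointwise

/-- Lifting a regular sequence of `R ⧸ (x)` along a regular element `x`. -/
theorem isRegular_cons_of_isRegular_quotient {R : Type u} [CommRing R] (x : R)
    (hx : IsSMulRegular R x) (rs : List R)
    (h : IsRegular (R ⧸ Ideal.span ({x} : Set R))
      (rs.map (Ideal.Quotient.mk (Ideal.span ({x} : Set R))))) :
    IsRegular R (x :: rs) := by
  rw [isRegular_cons_iff']
  refine ⟨hx, ?_⟩
  have hh : (x • (⊤ : Submodule R R)) = Ideal.span {x} := by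
    simp [← Submodule.ideal_span_singleton_smul]
  let e : QuotSMulTop x R ≃ₗ[R ⧸ Ideal.span {x}] (R ⧸ Ideal.span {x}) :=
    (Submodule.quotEquivOfEq _ _ hh).extendScalarsOfSurjective Ideal.Quotient.mk_surjective
  exact (e.isRegular_congr _).2 h

/-- If `R` and `R ⧸ I` are regular local, then `I` is generated by a regular sequence. -/
theorem exists_isRegular_aux : ∀ (d : ℕ) (R : Type u) [CommRing R] [IsRegularLocalRing R]
    (I : Ideal R) [IsRegularLocalRing (R ⧸ I)],
    (maximalIdeal R).spanFinrank = (maximalIdeal (R ⧸ I)).spanFinrank + d →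
      ∃ rs : List R, IsRegular R rs ∧ Ideal.ofList rs = I ∧ rs.length = d := by
  intro d
  induction d with
  | zero =>
    intro R _ _ I _ h
    have : IsDomain R := Groth.Agent.S0558.result R
    have h1 : ringKrullDim R = ((maximalIdeal R).spanFinrank : ℕ) :=
      (IsRegularLocalRing.spanFinrank_maximalIdeal (R := R)).symm
    have h2 : ringKrullDim (R ⧸ I) = ((maximalIdeal R).spanFinrank : ℕ) := by
      rw [h, add_zero]
      exact (IsRegularLocalRing.spanFinrank_maximalIdeal (R := R ⧸ I)).symm
    have := eq_bot_of_ringKrullDim_quotient_eq I _ h1 h2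
    exact ⟨[], IsRegular.nil R R, by rw [this, Ideal.ofList_nil], rfl⟩
  | succ d ih =>
    intro R _ _ I _ h
    have : IsDomain R := Groth.Agent.S0558.result R
    have hIne : I ≠ ⊤ := by
      intro hI
      have : Subsingleton (R ⧸ I) := Ideal.Quotient.subsingleton_iff.2 hI
      exact not_subsingleton (R ⧸ I) this
    have hIm : I ≤ maximalIdeal R := IsLocalRing.le_maximalIdeal hIne
    have hnot : ¬ I ≤ maximalIdeal R ^ 2 := by
      intro hle
      have := spanFinrank_maximalIdeal_le_of_le_sq I hle
      omega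
    obtain ⟨x, hxI, hx2⟩ := Set.not_subset.1 hnot
    have hxm : x ∈ maximalIdeal R := hIm hxI
    have hx0 : x ≠ 0 := by
      rintro rfl
      exact hx2 (Ideal.zero_mem _)
    obtain ⟨hreg, hμ⟩ := Groth.Agent.S0558.isRegularLocalRing_quot R x hxm hx2
    have hle : Ideal.span ({x} : Set R) ≤ I := (Ideal.span_singleton_le_iff_mem _).2 hxI
    let e : ((R ⧸ Ideal.span ({x} : Set R)) ⧸
        I.map (Ideal.Quotient.mk (Ideal.span ({x} : Set R)))) ≃+* R ⧸ I :=
      DoubleQuot.quotQuotEquivQuotOfLE hle
    have hreg' : IsRegularLocalRing ((R ⧸ Ideal.span ({x} : Set R)) ⧸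
        I.map (Ideal.Quotient.mk (Ideal.span ({x} : Set R)))) :=
      IsRegularLocalRing.of_ringEquiv e.symm
    have hμ' : (maximalIdeal ((R ⧸ Ideal.span ({x} : Set R)) ⧸
        I.map (Ideal.Quotient.mk (Ideal.span ({x} : Set R))))).spanFinrank =
          (maximalIdeal (R ⧸ I)).spanFinrank := by
      have h1 : ((maximalIdeal ((R ⧸ Ideal.span ({x} : Set R)) ⧸
        I.map (Ideal.Quotient.mk (Ideal.span ({x} : Set R))))).spanFinrank : WithBot ℕ∞) =
          ringKrullDim ((R ⧸ Ideal.span ({x} : Set R)) ⧸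
        I.map (Ideal.Quotient.mk (Ideal.span ({x} : Set R)))) :=
        IsRegularLocalRing.spanFinrank_maximalIdeal
      have h2 : ((maximalIdeal (R ⧸ I)).spanFinrank : WithBot ℕ∞) = ringKrullDim (R ⧸ I) :=
        IsRegularLocalRing.spanFinrank_maximalIdeal
      rw [ringKrullDim_eq_of_ringEquiv e, ← h2] at h1
      exact_mod_cast h1
    obtain ⟨rs', hrs', hofList, hlen⟩ := ih (R ⧸ Ideal.span ({x} : Set R))
      (I.map (Ideal.Quotient.mk (Ideal.span ({x} : Set R)))) (by omega)
    -- lift the sequence
    have hπs : Function.Surjective (Ideal.Quotient.mk (Ideal.span ({x} : Set R))) :=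
      Ideal.Quotient.mk_surjective
    obtain ⟨rs, hrs⟩ := List.map_surjective_iff.2 hπs rs'
    subst hrs
    refine ⟨x :: rs, ?_, ?_, by simpa using hlen⟩
    · apply isRegular_cons_of_isRegular_quotient x _ rs hrs'
      intro a b hab
      exact mul_left_cancel₀ hx0 hab
    · rw [Ideal.ofList_cons]
      rw [← Ideal.map_ofList] at hofList
      have h1 := congrArg (Ideal.comap (Ideal.Quotient.mk (Ideal.span ({x} : Set R)))) hofList
      rw [Ideal.comap_map_of_surjective _ hπs, Ideal.comap_map_of_surjective _ hπs,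
        ← RingHom.ker_eq_comap_bot, Ideal.mk_ker] at h1
      rw [sup_comm, h1]
      exact sup_eq_left.2 hle

/-- If `R` and `R ⧸ I` are regular local, then `I` is generated by a regular sequence. -/
theorem exists_isRegular_of_isRegularLocalRing_quotient {R : Type u} [CommRing R]
    [IsRegularLocalRing R] (I : Ideal R) [IsRegularLocalRing (R ⧸ I)] :
    ∃ rs : List R, IsRegular R rs ∧ Ideal.ofList rs = I := by
  have h1 : ((maximalIdeal R).spanFinrank : WithBot ℕ∞) = ringKrullDim R :=
    IsRegularLocalRing.spanFinrank_maximalIdeal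
  have h2 : ((maximalIdeal (R ⧸ I)).spanFinrank : WithBot ℕ∞) = ringKrullDim (R ⧸ I) :=
    IsRegularLocalRing.spanFinrank_maximalIdeal
  have h3 : ringKrullDim (R ⧸ I) ≤ ringKrullDim R := ringKrullDim_quotient_le I
  rw [← h1, ← h2] at h3
  have h4 : (maximalIdeal (R ⧸ I)).spanFinrank ≤ (maximalIdeal R).spanFinrank := by
    exact_mod_cast h3
  obtain ⟨d, hd⟩ := Nat.exists_eq_add_of_le h4
  obtain ⟨rs, h5, h6, _⟩ := exists_isRegular_aux d R I hd
  exact ⟨rs, h5, h6⟩

end regseq

end Groth.Agent.Lib.Helper83.RegQuot
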