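import Mathlib
import Groth.Agent.Lib.Helper2.EW

set_option autoImplicit false
universe u

open Function CategoryTheory CategoryTheory.Abelian

namespace Groth.Agent.Lib.Helper83.HomLenA

open Groth.Agent.Lib.Helper2

variable {R : Type u} [CommRing R] (X : ModuleCat.{u} R) (n : ℕ)

/-- `Ext^n(X, -)` as a functor `ModuleCat R ⥤ ModuleCat R`. -/
noncomputable def extFun : ModuleCat.{u} R ⥤ ModuleCat.{u} R where
  obj N := ModuleCat.of R (Ext.{u} X N n)
  map {N N'} g := ModuleCat.ofHom (Ext.postcompOfLinear (Ext.mk₀ g) R X (add_zero n))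
  map_id N := by
    apply ModuleCat.hom_ext
    ext x
    show x.comp (Ext.mk₀ (𝟙 N)) (add_zero n) = x
    exact Ext.comp_mk₀_id x
  map_comp {N N' N''} f g := by
    apply ModuleCat.hom_ext
    ext x
    show x.comp (Ext.mk₀ (f ≫ g)) (add_zero n) =
      (x.comp (Ext.mk₀ f) (add_zero n)).comp (Ext.mk₀ g) (add_zero n)
    rw [Ext.comp_assoc_of_third_deg_zero, Ext.mk₀_comp_mk₀]

theorem extFun_map_apply {N N' : ModuleCat.{u} R} (g : N ⟶ N') (x : Ext.{u} X N n) :
    ((extFun X n).map g).hom x = x.comp (Ext.mk₀ g) (add_zero n) := rfl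

instance extFun_additive : (extFun X n).Additive where
  map_add := by
    intro N N' f g
    apply ModuleCat.hom_ext
    ext x
    change Ext.{u} X N n at x
    show x.comp (Ext.mk₀ (f + g)) (add_zero n) =
      x.comp (Ext.mk₀ f) (add_zero n) + x.comp (Ext.mk₀ g) (add_zero n)
    rw [Ext.mk₀_add, Ext.comp_add]

instance extFun_linear : (extFun X n).Linear R where
  map_smul := by
    intro N N' f r
    apply ModuleCat.hom_ext
    ext x
    change Ext.{u} X N n at x
    show x.comp (Ext.mk₀ (r • f)) (add_zero n) = r • x.comp (Ext.mk₀ f) (add_zero n)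
    rw [Ext.mk₀_smul, Ext.comp_smul]

theorem extFun_rightExact (h : ∀ N : ModuleCat.{u} R, Subsingleton (Ext.{u} X N (n + 1))) :
    EW.RightExact (extFun X n) := by
  intro S hS
  constructor
  · intro x₃
    obtain ⟨x₂, hx₂⟩ := Ext.covariant_sequence_exact₃ X hS x₃ rfl
      (@Subsingleton.elim _ (h S.X₁) _ _)
    exact ⟨x₂, hx₂⟩
  · intro x₂
    constructor
    · intro hx
      obtain ⟨x₁, hx₁⟩ := Ext.covariant_sequence_exact₂ X hS x₂ hx
      exact ⟨x₁, hx₁⟩
    · rintro ⟨x₁, rfl⟩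
      change Ext.{u} X S.X₁ n at x₁
      show (x₁.comp (Ext.mk₀ S.f) (add_zero n)).comp (Ext.mk₀ S.g) (add_zero n) = 0
      rw [Ext.comp_assoc_of_third_deg_zero, Ext.mk₀_comp_mk₀, S.zero, Ext.mk₀_zero, Ext.comp_zero]

end Groth.Agent.Lib.Helper83.HomLenA
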