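import Mathlib
import Groth.Agent.Lib.Helper83.HomLenA
import Groth.Agent.Lib.Helper2.CanonExt
import Groth.Agent.Lib.Helper2.Matlis4
import Groth.Agent.S0342
import Groth.Agent.S0563
import Groth.Agent.S5170
import Groth.Agent.S6476

set_option autoImplicit false
universe u

open Function CategoryTheory CategoryTheory.Abelian IsLocalRing TensorProduct

namespace Groth.Agent.Lib.Helper83.HomLenB

open Groth.Agent.Lib.Helper2 Groth.Agent.Lib.Helper29

section

variable {R : Type u} [CommRing R] [IsLocalRing R] [IsNoetherianRing R]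

theorem exists_pow_le_annihilator (M : Type u) [AddCommGroup M] [Module R M]
    (hM : IsFiniteLength R M) : ∃ k : ℕ, maximalIdeal R ^ k ≤ Module.annihilator R M := by
  obtain ⟨hN, hA⟩ := isFiniteLength_iff_isNoetherian_isArtinian.mp hM
  haveI := hA
  haveI := hN
  have htors := isPowerTorsion_of_isArtinian (R := R) (M := M)
  obtain ⟨n, s, hs⟩ := Module.Finite.exists_fin (R := R) (M := M)
  choose k hk using fun i => htors (s i)
  refine ⟨∑ i, k i, fun a ha => ?_⟩
  rw [Module.mem_annihilator]
  have key : ∀ x ∈ Submodule.span R (Set.range s), a • x = 0 := by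
    intro x hx
    induction hx using Submodule.span_induction with
    | mem x hx =>
      obtain ⟨i, rfl⟩ := hx
      exact hk i a (Ideal.pow_le_pow_right
        (Finset.single_le_sum (fun _ _ => Nat.zero_le _) (Finset.mem_univ i)) ha)
    | zero => simp
    | add x y _ _ hx hy => rw [smul_add, hx, hy, add_zero]
    | smul r x _ hx => rw [smul_comm, hx, smul_zero]
  intro x
  exact key x (by rw [hs]; trivial)

theorem isFiniteLength_ext (M N : Type u) [AddCommGroup M] [Module R M] [AddCommGroup N]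
    [Module R N] [Module.Finite R N] (hM : IsFiniteLength R M) (i : ℕ) :
    IsFiniteLength R (Ext.{u} (ModuleCat.of R M) (ModuleCat.of R N) i) := by
  obtain ⟨hN, -⟩ := isFiniteLength_iff_isNoetherian_isArtinian.mp hM
  haveI : Module.Finite R M := inferInstance
  obtain ⟨k, hk⟩ := exists_pow_le_annihilator M hM
  haveI : Module.Finite R (Ext.{u} (ModuleCat.of R M) (ModuleCat.of R N) i) :=
    ModuleCat.finite_ext R _ _ i
  refine Groth.Agent.S6476.fl_of_pow_smul (maximalIdeal R) (IsNoetherian.noetherian _) k _ ?_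
  rw [eq_bot_iff, Submodule.smul_le]
  intro a ha e _
  rw [Submodule.mem_bot]
  exact GorCM.smul_ext_eq_zero_of_mem_annihilator M N (hk ha) i e

end

theorem length_ext_two (R : Type u) [CommRing R] [IsRegularLocalRing R]
    (hdim : ringKrullDim R = 2)
    (M N : Type u) [AddCommGroup M] [Module R M] [AddCommGroup N] [Module R N]
    (hM : IsFiniteLength R M) [Module.Finite R N] :
    Module.length R (Ext.{u} (ModuleCat.of R M) (ModuleCat.of R N) 2) =
      Module.length R (N →ₗ[R] M) := by
  haveI : LocCoh.IsGorensteinLocalRing R := Groth.Agent.S0342.result R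
  obtain ⟨n₀, h⟩ := LocCoh.IsGorensteinLocalRing.exists_hasInjectiveDimensionLT (A := R)
  obtain ⟨r, -, -, hdim', hdepth'⟩ := GorCM.exists_top_ext n₀ h
  have hr : r = 2 := by
    have : ((r : ℕ) : WithBot ℕ∞) = ((2 : ℕ) : WithBot ℕ∞) := by rw [← hdim', hdim]; rfl
    exact_mod_cast this
  subst hr
  obtain ⟨g₀, hg₀⟩ := exists_isInjectiveHull_of_gorenstein 2 R hdim'
  let eK' : (R →ₗ[R] LocCoh.H (maximalIdeal R) 2 R) ≃ₗ[R] LocCoh.H (maximalIdeal R) 2 R :=
    LinearMap.ringLmapEquivSelf R R _
  have hdepthle : ((2 : ℕ) : ℕ∞) ≤ LocCoh.depth R R := le_of_eq hdepth'.symm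
  obtain ⟨hNoe, hArt⟩ := isFiniteLength_iff_isNoetherian_isArtinian.mp hM
  haveI : Module.Finite R M := inferInstance
  obtain ⟨ε⟩ := LD.duality_ext (maximalIdeal R) 2 hdim'.le
    (LD.subsingleton_localCohomology_of_lt_depth 2 hdepthle) hg₀.isInjective eK' 2 le_rfl M
  have htors : LocCoh.IsPowerTorsion (maximalIdeal R) M := isPowerTorsion_of_isArtinian
  let e0 : LocCoh.H (maximalIdeal R) 0 M ≃ₗ[R] M :=
    LinearEquiv.ofBijective _ (toMod_bijective_of_isPowerTorsion (maximalIdeal R) M htors)
  have hpd : ∀ N' : ModuleCat.{u} R, Subsingleton (Ext.{u} (ModuleCat.of R M) N' (2 + 1)) := by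
    haveI := Groth.Agent.S0563.result R 2 hdim M
    intro N'
    exact HasProjectiveDimensionLT.subsingleton (ModuleCat.of R M) 3 3 le_rfl N'
  have hΦ := HomLenA.extFun_rightExact (ModuleCat.of R M) 2 hpd
  let ew := EW.ewEquiv hΦ N
  have hfl : IsFiniteLength R (Ext.{u} (ModuleCat.of R M) (ModuleCat.of R N) 2) :=
    isFiniteLength_ext M N hM 2
  rw [← Groth.Agent.S5170.result R _ g₀ hg₀ _ hfl]
  refine LinearEquiv.length_eq ?_
  exact (LinearEquiv.congrLeft _ R ew.symm).trans
    ((TensorProduct.lift.equiv (RingHom.id R) N _ _).symm.trans (LinearEquiv.congrRight (ε.symm.trans e0)))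

end Groth.Agent.Lib.Helper83.HomLenB
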