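import Mathlib

/-!
# Inverse systems indexed by `ℕ` with surjective transition maps
-/

namespace Groth.Agent.Lib.Helper83

/-- A compatible sequence through a prescribed element at level `n`. -/
theorem exists_compatible_through {M : ℕ → Type*} (f : ∀ n, M (n + 1) → M n)
    (hf : ∀ n, Function.Surjective (f n)) (n : ℕ) (m : M n) :
    ∃ x : ∀ k, M k, x n = m ∧ ∀ k, f k (x (k + 1)) = x k := by
  classical
  let up : ∀ {j}, n ≤ j → M j := fun {j} h =>
    Nat.leRec (motive := fun j _ => M j) m (fun k _ xk => Classical.choose (hf k xk)) h
  let down : ∀ {j}, j ≤ n → M j := fun {j} h =>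
    Nat.decreasingInduction (motive := fun j _ => M j) (fun k _ xk1 => f k xk1) m h
  refine ⟨fun j => if h : j ≤ n then down h else up (le_of_not_ge h), ?_, ?_⟩
  · simp [down]
  · intro k
    by_cases h1 : k + 1 ≤ n
    · have h2 : k ≤ n := by omega
      simp only [dif_pos h1, dif_pos h2]
      exact (Nat.decreasingInduction_succ_left _ _ h1 h2).symm
    · by_cases h2 : k ≤ n
      · have hkn : k = n := by omega
        subst hkn
        simp only [dif_neg h1, dif_pos h2]
        have e1 : down (le_refl k) = m := Nat.decreasingInduction_self _ _
        have e2 : up (Nat.le_succ k) = Classical.choose (hf k m) := Nat.leRec_succ' _ _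
        rw [e1, e2]
        exact Classical.choose_spec (hf k m)
      · simp only [dif_neg h1, dif_neg h2]
        have e2 : up (le_of_not_ge h1) =
            Classical.choose (hf k (up (le_of_not_ge h2))) := Nat.leRec_succ _ _ (le_of_not_ge h2)
        rw [e2]
        exact Classical.choose_spec (hf k _)

end Groth.Agent.Lib.Helper83
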