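import Mathlib

/-!
# Extending ring homs killing a power of `I` to the `I`-adic completion

For a finitely generated ideal `I` of `S`:
* `mem_map_pow_of_evalₐ_eq_zero` : `ker (evalₐ I n) ≤ (I Ŝ)^n`.
* `extend I n f hf : Ŝ →+* A` for `f : S →+* A` killing `I^n`, with `extend_of`, `extend_eq_zero`.
* `ringHom_ext_of_pow` : ring homs out of `Ŝ` killing `(I Ŝ)^n` and agreeing on `S` are equal.
-/

set_option autoImplicit false
universe u v

namespace Groth.Agent.Lib.Helper83.AdicExtend

variable {S : Type u} [CommRing S] (I : Ideal S)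

/-- The kernel of `evalₐ I n` is contained in `(I Ŝ)^n` when `I` is finitely generated. -/
theorem mem_map_pow_of_evalₐ_eq_zero (hI : I.FG) (n : ℕ) (x : AdicCompletion I S)
    (hx : AdicCompletion.evalₐ I n x = 0) :
    x ∈ (I.map (algebraMap S (AdicCompletion I S))) ^ n := by
  have h1 : AdicCompletion.eval I S n x = 0 := by
    have hle : I ^ n ≤ I ^ n • (⊤ : Ideal S) := by
      rw [smul_eq_mul, Ideal.mul_top]
    rw [← AdicCompletion.factor_evalₐ_eq_eval I x hle, hx, map_zero]
  have h2 : x ∈ (I ^ n • ⊤ : Submodule S (AdicCompletion I S)) := by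
    rw [AdicCompletion.pow_smul_top_eq_ker_eval hI]
    exact h1
  rw [← Ideal.map_pow]
  refine Submodule.smul_induction_on h2 (fun a ha y _ => ?_) (fun y z hy hz => Ideal.add_mem _ hy hz)
  rw [Algebra.smul_def]
  exact Ideal.mul_mem_right _ _ (Ideal.mem_map_of_mem _ ha)

/-- `evalₐ I n` kills `(I Ŝ)^n`. -/
theorem evalₐ_eq_zero_of_mem_map_pow (n : ℕ) (x : AdicCompletion I S)
    (hx : x ∈ (I.map (algebraMap S (AdicCompletion I S))) ^ n) :
    AdicCompletion.evalₐ I n x = 0 := by
  rw [← Ideal.map_pow] at hx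
  have hle : (I ^ n).map (algebraMap S (AdicCompletion I S)) ≤
      RingHom.ker (AdicCompletion.evalₐ I n).toRingHom := by
    rw [Ideal.map_le_iff_le_comap]
    intro a ha
    rw [Ideal.mem_comap, RingHom.mem_ker]
    change AdicCompletion.evalₐ I n (AdicCompletion.of I S a) = 0
    rw [AdicCompletion.evalₐ_of, Ideal.Quotient.eq_zero_iff_mem]
    exact ha
  exact hle hx

variable {A : Type v} [CommRing A]

/-- Extension to the completion of a ring hom killing `I ^ n`. -/
noncomputable def extend (n : ℕ) (f : S →+* A) (hf : ∀ x ∈ I ^ n, f x = 0) :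
    AdicCompletion I S →+* A :=
  (Ideal.Quotient.lift (I ^ n) f hf).comp (AdicCompletion.evalₐ I n).toRingHom

theorem extend_of (n : ℕ) (f : S →+* A) (hf : ∀ x ∈ I ^ n, f x = 0) (s : S) :
    extend I n f hf (algebraMap S (AdicCompletion I S) s) = f s := by
  change (Ideal.Quotient.lift (I ^ n) f hf) (AdicCompletion.evalₐ I n (AdicCompletion.of I S s)) = _
  rw [AdicCompletion.evalₐ_of, Ideal.Quotient.lift_mk]

theorem extend_eq_zero (n : ℕ) (f : S →+* A) (hf : ∀ x ∈ I ^ n, f x = 0)
    (x : AdicCompletion I S) (hx : x ∈ (I.map (algebraMap S (AdicCompletion I S))) ^ n) :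
    extend I n f hf x = 0 := by
  change (Ideal.Quotient.lift (I ^ n) f hf) (AdicCompletion.evalₐ I n x) = 0
  rw [evalₐ_eq_zero_of_mem_map_pow I n x hx, map_zero]

/-- Ring homs out of the completion that kill `(I Ŝ)^n` and agree on `S` are equal. -/
theorem ringHom_ext_of_pow (hI : I.FG) (n : ℕ) (g₁ g₂ : AdicCompletion I S →+* A)
    (h₁ : ∀ x ∈ (I.map (algebraMap S (AdicCompletion I S))) ^ n, g₁ x = 0)
    (h₂ : ∀ x ∈ (I.map (algebraMap S (AdicCompletion I S))) ^ n, g₂ x = 0)
    (h : ∀ s : S, g₁ (algebraMap S (AdicCompletion I S) s) =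
      g₂ (algebraMap S (AdicCompletion I S) s)) : g₁ = g₂ := by
  ext x
  obtain ⟨s, hs⟩ := Ideal.Quotient.mk_surjective (AdicCompletion.evalₐ I n x)
  have hmem : x - algebraMap S (AdicCompletion I S) s ∈
      (I.map (algebraMap S (AdicCompletion I S))) ^ n := by
    apply mem_map_pow_of_evalₐ_eq_zero I hI
    rw [map_sub]
    change _ - AdicCompletion.evalₐ I n (AdicCompletion.of I S s) = 0
    rw [AdicCompletion.evalₐ_of, hs, sub_self]
  have e1 := h₁ _ hmem
  have e2 := h₂ _ hmem
  rw [map_sub, sub_eq_zero] at e1 e2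
  rw [e1, e2, h]

/-- A ring hom sending `I ^ k` into a square-zero ideal kills `I ^ (2 k)`. -/
theorem eq_zero_of_mem_pow_two_mul {B : Type*} [CommRing B] (K : Ideal B) (k : ℕ) (f : B →+* A)
    (J : Ideal A) (hJ : J ^ 2 = ⊥) (hf : ∀ x ∈ K ^ k, f x ∈ J) :
    ∀ x ∈ K ^ (2 * k), f x = 0 := by
  intro x hx
  have h1 : K ^ (2 * k) = K ^ k * K ^ k := by rw [two_mul, pow_add]
  rw [h1] at hx
  have hle : K ^ k * K ^ k ≤ RingHom.ker f := by
    rw [Ideal.mul_le]
    intro a ha b hb
    rw [RingHom.mem_ker, map_mul]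
    have : f a * f b ∈ J ^ 2 := by
      rw [pow_two]; exact Ideal.mul_mem_mul (hf a ha) (hf b hb)
    rw [hJ] at this
    exact this
  exact hle hx

end Groth.Agent.Lib.Helper83.AdicExtend
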