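import Mathlib

/-!
# Flatness and Nakayama-type statements over Artinian local rings (arbitrary modules)

The basic tool is induction over modules of finite length: if a property of `X ⊗ f` holds for
`X = k` the residue field and is stable under extensions, it holds for all `X` of finite length,
in particular for `X = A` and `X = A ⧸ I`.
-/

namespace Groth.Agent.Lib.Helper83.ArtinFlat

open TensorProduct Function

variable {A : Type*} [CommRing A]

section general

variable {M N : Type*} [AddCommGroup M] [Module A M] [AddCommGroup N] [Module A N]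

theorem lTensor_conj (f : M →ₗ[A] N) {X Y : Type*} [AddCommGroup X] [Module A X]
    [AddCommGroup Y] [Module A Y] (e : X ≃ₗ[A] Y) :
    f.lTensor X = (LinearEquiv.rTensor N e.symm).toLinearMap ∘ₗ (f.lTensor Y) ∘ₗ
      (LinearEquiv.rTensor M e).toLinearMap := by
  apply TensorProduct.ext'
  intro x m
  simp

theorem lTensor_injective_of_linearEquiv (f : M →ₗ[A] N) {X Y : Type*} [AddCommGroup X]
    [Module A X] [AddCommGroup Y] [Module A Y] (e : X ≃ₗ[A] Y)
    (h : Injective (f.lTensor Y)) : Injective (f.lTensor X) := by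
  rw [lTensor_conj f e]
  exact (LinearEquiv.rTensor N e.symm).injective.comp (h.comp (LinearEquiv.rTensor M e).injective)

theorem lTensor_surjective_of_linearEquiv (f : M →ₗ[A] N) {X Y : Type*} [AddCommGroup X]
    [Module A X] [AddCommGroup Y] [Module A Y] (e : X ≃ₗ[A] Y)
    (h : Surjective (f.lTensor Y)) : Surjective (f.lTensor X) := by
  rw [lTensor_conj f e]
  exact (LinearEquiv.rTensor N e.symm).surjective.comp
    (h.comp (LinearEquiv.rTensor M e).surjective)

/-- Extension step for injectivity of `X ⊗ f`, where the target of `f` is flat. -/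
theorem lTensor_injective_of_exact [Module.Flat A N] (f : M →ₗ[A] N)
    {X' X X'' : Type*} [AddCommGroup X'] [Module A X'] [AddCommGroup X] [Module A X]
    [AddCommGroup X''] [Module A X''] (ι : X' →ₗ[A] X) (π : X →ₗ[A] X'')
    (hι : Injective ι) (hex : Exact ι π) (hπ : Surjective π)
    (h' : Injective (f.lTensor X')) (h'' : Injective (f.lTensor X'')) :
    Injective (f.lTensor X) := by
  rw [injective_iff_map_eq_zero]
  intro x hx
  have h1 : (π.rTensor M) x = 0 := by
    apply h''
    rw [map_zero, ← LinearMap.comp_apply, LinearMap.lTensor_comp_rTensor,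
      ← LinearMap.rTensor_comp_lTensor, LinearMap.comp_apply, hx, map_zero]
  obtain ⟨x', rfl⟩ := (rTensor_exact M hex hπ x).mp h1
  have h2 : (f.lTensor X') x' = 0 := by
    apply Module.Flat.rTensor_preserves_injective_linearMap (M := N) ι hι
    rw [map_zero, ← LinearMap.comp_apply, LinearMap.rTensor_comp_lTensor,
      ← LinearMap.lTensor_comp_rTensor, LinearMap.comp_apply, hx]
  rw [(injective_iff_map_eq_zero _).mp h' x' h2, map_zero]

/-- Extension step for surjectivity of `X ⊗ f`. -/
theorem lTensor_surjective_of_exact (f : M →ₗ[A] N)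
    {X' X X'' : Type*} [AddCommGroup X'] [Module A X'] [AddCommGroup X] [Module A X]
    [AddCommGroup X''] [Module A X''] (ι : X' →ₗ[A] X) (π : X →ₗ[A] X'')
    (hex : Exact ι π) (hπ : Surjective π)
    (h' : Surjective (f.lTensor X')) (h'' : Surjective (f.lTensor X'')) :
    Surjective (f.lTensor X) := by
  intro y
  obtain ⟨p'', hp''⟩ := h'' ((π.rTensor N) y)
  obtain ⟨p, rfl⟩ := LinearMap.rTensor_surjective M hπ p''
  have h1 : (π.rTensor N) (y - (f.lTensor X) p) = 0 := by
    rw [map_sub, ← hp'', ← LinearMap.comp_apply, ← LinearMap.comp_apply,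
      LinearMap.lTensor_comp_rTensor, LinearMap.rTensor_comp_lTensor, sub_self]
  obtain ⟨y', hy'⟩ := (rTensor_exact N hex hπ _).mp h1
  obtain ⟨p', rfl⟩ := h' y'
  refine ⟨p + (ι.rTensor M) p', ?_⟩
  rw [map_add, ← LinearMap.comp_apply (f.lTensor X), LinearMap.lTensor_comp_rTensor,
    ← LinearMap.rTensor_comp_lTensor, LinearMap.comp_apply, hy']
  abel

theorem injective_of_lTensor_self (f : M →ₗ[A] N) (h : Injective (f.lTensor A)) :
    Injective f := by
  have h1 : f = (TensorProduct.lid A N).toLinearMap ∘ₗ (f.lTensor A) ∘ₗ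
      (TensorProduct.lid A M).symm.toLinearMap := by
    ext m
    simp
  rw [h1]
  exact (TensorProduct.lid A N).injective.comp (h.comp (TensorProduct.lid A M).symm.injective)

theorem surjective_of_lTensor_self (f : M →ₗ[A] N) (h : Surjective (f.lTensor A)) :
    Surjective f := by
  have h1 : f = (TensorProduct.lid A N).toLinearMap ∘ₗ (f.lTensor A) ∘ₗ
      (TensorProduct.lid A M).symm.toLinearMap := by
    ext m
    simp
  rw [h1]
  exact (TensorProduct.lid A N).surjective.comp (h.comp (TensorProduct.lid A M).symm.surjective)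

end general

section local_

variable [IsLocalRing A]
variable {M N : Type*} [AddCommGroup M] [Module A M] [AddCommGroup N] [Module A N]

/-- Simple modules over a local ring are isomorphic to the residue field. -/
theorem nonempty_linearEquiv_residueField (X : Type*) [AddCommGroup X] [Module A X]
    [IsSimpleModule A X] : Nonempty (X ≃ₗ[A] IsLocalRing.ResidueField A) := by
  obtain ⟨I, hI, ⟨e⟩⟩ := isSimpleModule_iff_quot_maximal.mp ‹IsSimpleModule A X›
  have : I = IsLocalRing.maximalIdeal A := IsLocalRing.eq_maximalIdeal hI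
  subst this
  exact ⟨e⟩

/-- If `k ⊗ f` is injective and the target of `f` is flat, then `X ⊗ f` is injective for all
modules `X` of finite length. -/
theorem lTensor_injective_of_isFiniteLength [Module.Flat A N] (f : M →ₗ[A] N)
    (hk : Injective (f.lTensor (IsLocalRing.ResidueField A)))
    {X : Type*} [AddCommGroup X] [Module A X] (hX : IsFiniteLength A X) :
    Injective (f.lTensor X) := by
  induction hX with
  | of_subsingleton => exact Function.injective_of_subsingleton _
  | @of_simple_quotient X _ _ X' _ _ ih =>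
    obtain ⟨e⟩ := nonempty_linearEquiv_residueField (A := A) (X ⧸ X')
    exact lTensor_injective_of_exact f X'.subtype X'.mkQ X'.subtype_injective
      (LinearMap.exact_subtype_mkQ X') (Submodule.mkQ_surjective X') ih
      (lTensor_injective_of_linearEquiv f e hk)

/-- If `k ⊗ f` is surjective, then `X ⊗ f` is surjective for all modules `X` of finite length. -/
theorem lTensor_surjective_of_isFiniteLength (f : M →ₗ[A] N)
    (hk : Surjective (f.lTensor (IsLocalRing.ResidueField A)))
    {X : Type*} [AddCommGroup X] [Module A X] (hX : IsFiniteLength A X) :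
    Surjective (f.lTensor X) := by
  induction hX with
  | of_subsingleton => exact Function.surjective_to_subsingleton _
  | @of_simple_quotient X _ _ X' _ _ ih =>
    obtain ⟨e⟩ := nonempty_linearEquiv_residueField (A := A) (X ⧸ X')
    exact lTensor_surjective_of_exact f X'.subtype X'.mkQ
      (LinearMap.exact_subtype_mkQ X') (Submodule.mkQ_surjective X') ih
      (lTensor_surjective_of_linearEquiv f e hk)

variable [IsArtinianRing A]

theorem isFiniteLength_of_finite (X : Type*) [AddCommGroup X] [Module A X] [Module.Finite A X] :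
    IsFiniteLength A X :=
  isFiniteLength_iff_isNoetherian_isArtinian.mpr ⟨inferInstance, inferInstance⟩

/-- Over an Artinian local ring: `k ⊗ f` injective and target flat ⇒ `f` injective. -/
theorem injective_of_lTensor_residueField [Module.Flat A N] (f : M →ₗ[A] N)
    (hk : Injective (f.lTensor (IsLocalRing.ResidueField A))) : Injective f :=
  injective_of_lTensor_self f
    (lTensor_injective_of_isFiniteLength f hk (isFiniteLength_of_finite A))

/-- Over an Artinian local ring: `k ⊗ f` surjective ⇒ `f` surjective (Nakayama). -/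
theorem surjective_of_lTensor_residueField (f : M →ₗ[A] N)
    (hk : Surjective (f.lTensor (IsLocalRing.ResidueField A))) : Surjective f :=
  surjective_of_lTensor_self f
    (lTensor_surjective_of_isFiniteLength f hk (isFiniteLength_of_finite A))

end local_

section flat

variable {M N P : Type*} [AddCommGroup M] [Module A M] [AddCommGroup N] [Module A N]
  [AddCommGroup P] [Module A P]

/-- `M → N → P → 0` exact with `N` flat, and `(A ⧸ I) ⊗ M → (A ⧸ I) ⊗ N` injective for all ideals
`I`. Then `P` is flat. -/
theorem flat_of_forall_lTensor_quotient_injective [Module.Flat A N] (f : M →ₗ[A] N)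
    (g : N →ₗ[A] P) (hex : Exact f g) (hg : Surjective g)
    (H : ∀ I : Ideal A, Injective (f.lTensor (A ⧸ I))) : Module.Flat A P := by
  rw [Module.Flat.iff_rTensor_injective']
  intro I
  rw [injective_iff_map_eq_zero]
  intro z hz
  obtain ⟨y, rfl⟩ := LinearMap.lTensor_surjective I hg z
  have hgf : g ∘ₗ f = 0 := by
    ext m
    exact hex.apply_apply_eq_zero m
  have h1 : (g.lTensor A) ((I.subtype.rTensor N) y) = 0 := by
    rw [← LinearMap.comp_apply, LinearMap.lTensor_comp_rTensor, ← LinearMap.rTensor_comp_lTensor,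
      LinearMap.comp_apply, hz]
  obtain ⟨m', hm'⟩ := (lTensor_exact A hex hg _).mp h1
  have hπ : (I.mkQ) ∘ₗ I.subtype = 0 := by
    ext x
    exact (Submodule.Quotient.mk_eq_zero I).mpr x.2
  have h2 : (I.mkQ.rTensor M) m' = 0 := by
    apply H I
    rw [map_zero, ← LinearMap.comp_apply, LinearMap.lTensor_comp_rTensor,
      ← LinearMap.rTensor_comp_lTensor, LinearMap.comp_apply, hm', ← LinearMap.comp_apply,
      ← LinearMap.rTensor_comp, hπ, LinearMap.rTensor_zero, LinearMap.zero_apply]
  obtain ⟨w, rfl⟩ := (rTensor_exact M (LinearMap.exact_subtype_mkQ I)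
    (Submodule.mkQ_surjective I) m').mp h2
  have h3 : (f.lTensor I) w = y := by
    apply Module.Flat.rTensor_preserves_injective_linearMap (M := N) I.subtype
      I.subtype_injective
    rw [← hm', ← LinearMap.comp_apply, ← LinearMap.comp_apply, LinearMap.rTensor_comp_lTensor,
      LinearMap.lTensor_comp_rTensor]
  rw [← h3, ← LinearMap.comp_apply, ← LinearMap.lTensor_comp, hgf, LinearMap.lTensor_zero,
    LinearMap.zero_apply]

/-- In a short exact sequence `0 → M → N → P → 0` with `N` and `P` flat, `M` is flat. -/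
theorem flat_of_exact_of_flat [Module.Flat A N] [Module.Flat A P] (f : M →ₗ[A] N)
    (g : N →ₗ[A] P) (hf : Injective f) (hex : Exact f g) (hg : Surjective g) :
    Module.Flat A M := by
  rw [Module.Flat.iff_rTensor_injective']
  intro I
  rw [injective_iff_map_eq_zero]
  intro w hw
  have h1 : (f.lTensor I) w = 0 := by
    apply Module.Flat.rTensor_preserves_injective_linearMap (M := N) I.subtype
      I.subtype_injective
    rw [map_zero, ← LinearMap.comp_apply, LinearMap.rTensor_comp_lTensor,
      ← LinearMap.lTensor_comp_rTensor, LinearMap.comp_apply, hw, map_zero]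
  exact (injective_iff_map_eq_zero _).mp
    (LinearMap.lTensor_injective_of_exact_of_flat g hg f hf hex I) w h1

/-- Over an Artinian local ring: `M → N → P → 0` exact, `N` flat, `k ⊗ M → k ⊗ N` injective
⇒ `P` flat (local criterion of flatness, arbitrary modules). -/
theorem flat_of_lTensor_residueField_injective [IsLocalRing A] [IsArtinianRing A]
    [Module.Flat A N] (f : M →ₗ[A] N) (g : N →ₗ[A] P) (hex : Exact f g) (hg : Surjective g)
    (hk : Injective (f.lTensor (IsLocalRing.ResidueField A))) : Module.Flat A P :=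
  flat_of_forall_lTensor_quotient_injective f g hex hg
    (fun I => lTensor_injective_of_isFiniteLength f hk (isFiniteLength_of_finite (A ⧸ I)))

end flat

section complex

variable [IsLocalRing A] [IsArtinianRing A]
variable {P Q R M : Type*} [AddCommGroup P] [Module A P] [AddCommGroup Q] [Module A Q]
  [AddCommGroup R] [Module A R] [AddCommGroup M] [Module A M]

/-- `P → Q → R → M → 0` a complex exact at `R` and `M`, with `R` flat, over an Artinian local
ring. If `k ⊗ P → k ⊗ Q → k ⊗ R` is exact then `M` is flat and the complex is exact at `Q`. -/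
theorem flat_and_exact_of_lTensor_exact [Module.Flat A R]
    (f : P →ₗ[A] Q) (g : Q →ₗ[A] R) (h : R →ₗ[A] M)
    (hfg : g ∘ₗ f = 0) (hgh : Function.Exact g h) (hh : Function.Surjective h)
    (hred : Function.Exact (f.lTensor (IsLocalRing.ResidueField A))
      (g.lTensor (IsLocalRing.ResidueField A))) :
    Module.Flat A M ∧ Function.Exact f g := by
  classical
  let Z : Submodule A R := LinearMap.range g
  let gZ : Q →ₗ[A] Z := g.rangeRestrict
  have hgZ : Function.Surjective gZ := LinearMap.surjective_rangeRestrict g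
  have hιZ : Function.Injective Z.subtype := Z.subtype_injective
  have hcomp : Z.subtype ∘ₗ gZ = g := LinearMap.subtype_comp_codRestrict _ _ _
  have hexZ : Function.Exact Z.subtype h := by
    intro r
    rw [hgh r]
    constructor
    · rintro ⟨q, rfl⟩
      exact ⟨⟨g q, q, rfl⟩, rfl⟩
    · rintro ⟨⟨z, q, rfl⟩, rfl⟩
      exact ⟨q, rfl⟩
  have hgZf : gZ ∘ₗ f = 0 := by
    ext p
    change g (f p) = 0
    rw [← LinearMap.comp_apply, hfg, LinearMap.zero_apply]
  have ha : Function.Injective (Z.subtype.lTensor (IsLocalRing.ResidueField A)) := by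
    rw [injective_iff_map_eq_zero]
    intro z hz
    obtain ⟨q, rfl⟩ := LinearMap.lTensor_surjective (IsLocalRing.ResidueField A) hgZ z
    rw [← LinearMap.comp_apply, ← LinearMap.lTensor_comp, hcomp] at hz
    obtain ⟨p, rfl⟩ := (hred q).mp hz
    rw [← LinearMap.comp_apply, ← LinearMap.lTensor_comp, hgZf, LinearMap.lTensor_zero,
      LinearMap.zero_apply]
  have hM : Module.Flat A M :=
    flat_of_lTensor_residueField_injective Z.subtype h hexZ hh ha
  have hZ : Module.Flat A Z := flat_of_exact_of_flat Z.subtype h hιZ hexZ hh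
  refine ⟨hM, ?_⟩
  let K : Submodule A Q := LinearMap.ker g
  have hexK : Function.Exact K.subtype gZ := by
    intro q
    constructor
    · intro hq
      have : g q = 0 := congrArg Subtype.val hq
      exact ⟨⟨q, this⟩, rfl⟩
    · rintro ⟨⟨q, hq⟩, rfl⟩
      apply hιZ
      exact hq
  have hd : Function.Injective (K.subtype.lTensor (IsLocalRing.ResidueField A)) :=
    LinearMap.lTensor_injective_of_exact_of_flat gZ hgZ K.subtype K.subtype_injective hexK _
  let f' : P →ₗ[A] K := f.codRestrict K (fun p => by
    change g (f p) = 0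
    rw [← LinearMap.comp_apply, hfg, LinearMap.zero_apply])
  have hf' : K.subtype ∘ₗ f' = f := LinearMap.subtype_comp_codRestrict _ _ _
  have hgK : g ∘ₗ K.subtype = 0 := by
    ext x
    exact x.2
  have he : Function.Surjective (f'.lTensor (IsLocalRing.ResidueField A)) := by
    intro x
    have h1 : (g.lTensor (IsLocalRing.ResidueField A))
        ((K.subtype.lTensor (IsLocalRing.ResidueField A)) x) = 0 := by
      rw [← LinearMap.comp_apply, ← LinearMap.lTensor_comp, hgK, LinearMap.lTensor_zero,
        LinearMap.zero_apply]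
    obtain ⟨p, hp⟩ := (hred _).mp h1
    refine ⟨p, ?_⟩
    apply hd
    rw [← hp, ← LinearMap.comp_apply, ← LinearMap.lTensor_comp, hf']
  have hsurj : Function.Surjective f' := surjective_of_lTensor_residueField f' he
  intro q
  constructor
  · intro hq
    obtain ⟨p, hp⟩ := hsurj ⟨q, hq⟩
    exact ⟨p, congrArg Subtype.val hp⟩
  · rintro ⟨p, rfl⟩
    rw [← LinearMap.comp_apply, hfg, LinearMap.zero_apply]

end complex

section quotients

variable {M N : Type*} [AddCommGroup M] [Module A M] [AddCommGroup N] [Module A N]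

/-- `(A ⧸ J) ⊗ u` is injective iff `u x ∈ J N → x ∈ J M`. -/
theorem lTensor_quotient_injective_iff (u : M →ₗ[A] N) (J : Ideal A) :
    Injective (u.lTensor (A ⧸ J)) ↔
      ∀ x : M, u x ∈ (J • ⊤ : Submodule A N) → x ∈ (J • ⊤ : Submodule A M) := by
  constructor
  · intro h x hx
    have h1 : (u.lTensor (A ⧸ J)) ((1 : A ⧸ J) ⊗ₜ[A] x) = 0 := by
      rw [LinearMap.lTensor_tmul]
      apply (quotTensorEquivQuotSMul N J).injective
      rw [quotTensorEquivQuotSMul_mk_one_tmul, map_zero]
      exact (Submodule.Quotient.mk_eq_zero _).mpr hx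
    have h2 : ((1 : A ⧸ J) ⊗ₜ[A] x) = 0 := (injective_iff_map_eq_zero _).mp h _ h1
    have h3 := congrArg (quotTensorEquivQuotSMul M J) h2
    rw [quotTensorEquivQuotSMul_mk_one_tmul, map_zero] at h3
    exact (Submodule.Quotient.mk_eq_zero _).mp h3
  · intro h
    rw [injective_iff_map_eq_zero]
    intro y hy
    obtain ⟨x, hx⟩ := Submodule.Quotient.mk_surjective _ (quotTensorEquivQuotSMul M J y)
    have hy' : y = (1 : A ⧸ J) ⊗ₜ[A] x := by
      apply (quotTensorEquivQuotSMul M J).injective
      rw [quotTensorEquivQuotSMul_mk_one_tmul, hx]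
    rw [hy', LinearMap.lTensor_tmul] at hy
    have h3 := congrArg (quotTensorEquivQuotSMul N J) hy
    rw [quotTensorEquivQuotSMul_mk_one_tmul, map_zero] at h3
    have h4 := h x ((Submodule.Quotient.mk_eq_zero _).mp h3)
    rw [hy']
    apply (quotTensorEquivQuotSMul M J).injective
    rw [quotTensorEquivQuotSMul_mk_one_tmul, map_zero]
    exact (Submodule.Quotient.mk_eq_zero _).mpr h4

/-- Socle-type step: if `s ∉ I`, `s 𝔪 ⊆ I` and `M` is flat, then `s x ∈ I M → x ∈ 𝔪 M`. -/
theorem mem_maximalIdeal_smul_top_of_smul_mem [IsLocalRing A] [Module.Flat A M] (I : Ideal A)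
    (s : A) (hs : s ∉ I) (hsm : ∀ a ∈ IsLocalRing.maximalIdeal A, s * a ∈ I) (x : M)
    (hx : s • x ∈ (I • ⊤ : Submodule A M)) :
    x ∈ (IsLocalRing.maximalIdeal A • ⊤ : Submodule A M) := by
  let μ : (A ⧸ IsLocalRing.maximalIdeal A) →ₗ[A] (A ⧸ I) :=
    Submodule.liftQ (IsLocalRing.maximalIdeal A) (I.mkQ ∘ₗ LinearMap.mulLeft A s) (by
      intro a ha
      rw [LinearMap.mem_ker, LinearMap.comp_apply, LinearMap.mulLeft_apply]
      exact (Submodule.Quotient.mk_eq_zero I).mpr (hsm a ha))
  have hμ : Injective μ := by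
    rw [injective_iff_map_eq_zero]
    intro a ha
    obtain ⟨a, rfl⟩ := Submodule.Quotient.mk_surjective _ a
    have h1 : s * a ∈ I := (Submodule.Quotient.mk_eq_zero I).mp ha
    rw [Submodule.Quotient.mk_eq_zero]
    by_contra hnot
    have hu : IsUnit a := by
      by_contra hnu
      exact hnot ((IsLocalRing.mem_maximalIdeal a).mpr hnu)
    obtain ⟨v, rfl⟩ := hu
    apply hs
    have : s = (s * v) * (v⁻¹ : Aˣ) := by
      rw [mul_assoc, Units.mul_inv, mul_one]
    rw [this]
    exact Ideal.mul_mem_right _ _ h1
  have hμM : Injective (μ.rTensor M) :=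
    Module.Flat.rTensor_preserves_injective_linearMap (M := M) μ hμ
  have h1 : (μ.rTensor M) ((1 : A ⧸ IsLocalRing.maximalIdeal A) ⊗ₜ[A] x) = 0 := by
    rw [LinearMap.rTensor_tmul]
    apply (quotTensorEquivQuotSMul M I).injective
    have : μ (1 : A ⧸ IsLocalRing.maximalIdeal A) = Ideal.Quotient.mk I s := by
      change μ (Submodule.Quotient.mk 1) = _
      rw [Submodule.liftQ_apply, LinearMap.comp_apply, LinearMap.mulLeft_apply, mul_one]
      rfl
    rw [this, quotTensorEquivQuotSMul_mk_tmul, map_zero]
    exact (Submodule.Quotient.mk_eq_zero _).mpr hx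
  have h2 := (injective_iff_map_eq_zero _).mp hμM _ h1
  have h3 := congrArg (quotTensorEquivQuotSMul M (IsLocalRing.maximalIdeal A)) h2
  rw [quotTensorEquivQuotSMul_mk_one_tmul, map_zero] at h3
  exact (Submodule.Quotient.mk_eq_zero _).mp h3

/-- Existence of a socle element modulo a proper ideal of an Artinian local ring. -/
theorem exists_socle_element [IsLocalRing A] [IsArtinianRing A] (I : Ideal A) (hI : I ≠ ⊤) :
    ∃ s : A, s ∉ I ∧ ∀ a ∈ IsLocalRing.maximalIdeal A, s * a ∈ I := by
  classical
  have hnil : IsNilpotent (IsLocalRing.maximalIdeal A) := by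
    rw [← IsLocalRing.jacobson_eq_maximalIdeal ⊥ bot_ne_top]
    exact IsArtinianRing.isNilpotent_jacobson_bot
  have hex : ∃ n, IsLocalRing.maximalIdeal A ^ n ≤ I := by
    obtain ⟨n, hn⟩ := hnil
    exact ⟨n, by rw [hn]; exact bot_le⟩
  have hn0 : Nat.find hex ≠ 0 := by
    intro h0
    have := Nat.find_spec hex
    rw [h0, pow_zero, Ideal.one_eq_top, top_le_iff] at this
    exact hI this
  obtain ⟨k, hk⟩ := Nat.exists_eq_succ_of_ne_zero hn0
  have hk' : ¬ IsLocalRing.maximalIdeal A ^ k ≤ I := Nat.find_min hex (by omega)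
  obtain ⟨s, hsk, hsI⟩ := SetLike.not_le_iff_exists.mp hk'
  refine ⟨s, hsI, fun a ha => ?_⟩
  apply Nat.find_spec hex
  rw [hk, pow_succ]
  exact Ideal.mul_mem_mul hsk ha

/-- Over an Artinian local ring with `N` flat: if `u x ∈ I N → x ∈ I M` for a proper ideal `I`
then the same holds for the maximal ideal. -/
theorem mem_maximalIdeal_smul_of_mem_smul [IsLocalRing A] [IsArtinianRing A]
    [Module.Flat A M] (u : M →ₗ[A] N) (I : Ideal A) (hI : I ≠ ⊤)
    (h : ∀ x : M, u x ∈ (I • ⊤ : Submodule A N) → x ∈ (I • ⊤ : Submodule A M)) :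
    ∀ x : M, u x ∈ (IsLocalRing.maximalIdeal A • ⊤ : Submodule A N) →
      x ∈ (IsLocalRing.maximalIdeal A • ⊤ : Submodule A M) := by
  obtain ⟨s, hs, hsm⟩ := exists_socle_element I hI
  intro x hx
  apply mem_maximalIdeal_smul_top_of_smul_mem I s hs hsm
  apply h
  rw [map_smul]
  -- `s • (𝔪 N) ⊆ I N`
  refine Submodule.smul_induction_on hx ?_ ?_
  · intro a ha n _
    rw [smul_smul]
    exact Submodule.smul_mem_smul (hsm a ha) Submodule.mem_top
  · intro y z hy hz
    rw [smul_add]
    exact add_mem hy hz

end quotients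

section nzd

variable [IsLocalRing A] [IsArtinianRing A]
variable {M N P : Type*} [AddCommGroup M] [Module A M] [AddCommGroup N] [Module A N]
  [AddCommGroup P] [Module A P]

theorem lTensor_residueField_injective_of_injective [Module.Flat A M] (u : M →ₗ[A] N)
    (hu : Injective u) : Injective (u.lTensor (IsLocalRing.ResidueField A)) := by
  have h0 : ∀ x : M, u x ∈ ((⊥ : Ideal A) • ⊤ : Submodule A N) →
      x ∈ ((⊥ : Ideal A) • ⊤ : Submodule A M) := by
    intro x hx
    rw [Submodule.bot_smul, Submodule.mem_bot] at hx ⊢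
    exact (injective_iff_map_eq_zero u).mp hu x hx
  exact (lTensor_quotient_injective_iff u (IsLocalRing.maximalIdeal A)).mpr
    (mem_maximalIdeal_smul_of_mem_smul u ⊥ bot_ne_top h0)

/-- Cokernel of an injective map between flat modules over an Artinian local ring is flat. -/
theorem flat_of_injective_of_flat [Module.Flat A M] [Module.Flat A N] (u : M →ₗ[A] N)
    (hu : Injective u) (g : N →ₗ[A] P) (hex : Exact u g) (hg : Surjective g) :
    Module.Flat A P :=
  flat_of_lTensor_residueField_injective u g hex hg
    (lTensor_residueField_injective_of_injective u hu)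

/-- Over an Artinian local ring, a map between flat modules is injective iff it is injective
modulo a proper ideal `I`. -/
theorem injective_iff_of_flat [Module.Flat A M] [Module.Flat A N] (u : M →ₗ[A] N)
    (I : Ideal A) (hI : I ≠ ⊤) :
    Injective u ↔
      ∀ x : M, u x ∈ (I • ⊤ : Submodule A N) → x ∈ (I • ⊤ : Submodule A M) := by
  constructor
  · intro hu
    have hflat : Module.Flat A (N ⧸ LinearMap.range u) :=
      flat_of_injective_of_flat u hu (LinearMap.range u).mkQ (LinearMap.exact_map_mkQ_range u)
        (Submodule.mkQ_surjective _)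
    exact (lTensor_quotient_injective_iff u I).mp
      (LinearMap.lTensor_injective_of_exact_of_flat (LinearMap.range u).mkQ
        (Submodule.mkQ_surjective _) u hu (LinearMap.exact_map_mkQ_range u) _)
  · intro h
    exact injective_of_lTensor_residueField u
      ((lTensor_quotient_injective_iff u (IsLocalRing.maximalIdeal A)).mpr
        (mem_maximalIdeal_smul_of_mem_smul u I hI h))

end nzd

section nakayama

variable {M N : Type*} [AddCommGroup M] [Module A M] [AddCommGroup N] [Module A N]

/-- Nilpotent Nakayama for arbitrary modules: `K ≤ F ⊔ I • K` with `I` nilpotent ⇒ `K ≤ F`. -/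
theorem le_of_le_sup_smul_of_isNilpotent (I : Ideal A) (hI : IsNilpotent I)
    (F K : Submodule A M) (h : K ≤ F ⊔ I • K) : K ≤ F := by
  have key : ∀ j : ℕ, K ≤ F ⊔ I ^ j • K := by
    intro j
    induction j with
    | zero => rw [pow_zero, Ideal.one_eq_top, Submodule.top_smul]; exact le_sup_right
    | succ j ih =>
      refine ih.trans (sup_le le_sup_left ?_)
      calc I ^ j • K ≤ I ^ j • (F ⊔ I • K) := Submodule.smul_mono le_rfl h
        _ = I ^ j • F ⊔ I ^ j • (I • K) := Submodule.smul_sup _ _ _
        _ ≤ F ⊔ I ^ (j + 1) • K := by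
          refine sup_le_sup Submodule.smul_le_right ?_
          rw [← Submodule.mul_smul, ← pow_succ]
  obtain ⟨k, hk⟩ := hI
  have := key k
  rwa [hk, Submodule.zero_eq_bot, Submodule.bot_smul, sup_bot_eq] at this

/-- `K ≤ F ⊔ I • K` implies `K ≤ F ⊔ I ^ j • K` for all `j`. -/
theorem le_sup_pow_smul_of_le_sup_smul (I : Ideal A) (F K : Submodule A M)
    (h : K ≤ F ⊔ I • K) (j : ℕ) : K ≤ F ⊔ I ^ j • K := by
  induction j with
  | zero => rw [pow_zero, Ideal.one_eq_top, Submodule.top_smul]; exact le_sup_right
  | succ j ih =>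
    refine ih.trans (sup_le le_sup_left ?_)
    calc I ^ j • K ≤ I ^ j • (F ⊔ I • K) := Submodule.smul_mono le_rfl h
      _ = I ^ j • F ⊔ I ^ j • (I • K) := Submodule.smul_sup _ _ _
      _ ≤ F ⊔ I ^ (j + 1) • K := by
        refine sup_le_sup Submodule.smul_le_right ?_
        rw [← Submodule.mul_smul, ← pow_succ]

/-- If `0 → K → M → N → 0` is exact with `N` flat then `K ∩ I M = I K`. -/
theorem mem_smul_of_mem_ker_of_flat [Module.Flat A N] (g : M →ₗ[A] N) (hg : Surjective g)
    (I : Ideal A) (x : M) (hx : x ∈ LinearMap.ker g) (hxI : x ∈ (I • ⊤ : Submodule A M)) :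
    x ∈ I • LinearMap.ker g := by
  have hinj := LinearMap.lTensor_injective_of_exact_of_flat g hg (LinearMap.ker g).subtype
    (LinearMap.ker g).subtype_injective (LinearMap.exact_subtype_ker_map g) (A ⧸ I)
  have h1 := (lTensor_quotient_injective_iff (LinearMap.ker g).subtype I).mp hinj ⟨x, hx⟩ hxI
  have h2 : (LinearMap.ker g).subtype ⟨x, hx⟩ ∈
      (I • ⊤ : Submodule A (LinearMap.ker g)).map (LinearMap.ker g).subtype :=
    Submodule.mem_map_of_mem h1
  rwa [Submodule.map_smul'', Submodule.map_subtype_top] at h2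

end nakayama

end Groth.Agent.Lib.Helper83.ArtinFlat
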