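import Mathlib

/-!
# Binary forms: dimension of the space of binary forms of degree `d`

`finrank_homogeneousSubmodule_fin_two : finrank K (homogeneousSubmodule (Fin 2) K d) = d + 1`.
-/

namespace Groth.Agent.Lib.Helper83

open MvPolynomial

/-- Exponent vectors of degree `n` in two variables are determined by the first exponent. -/
noncomputable def degEquivFin (n : ℕ) : {d : Fin 2 →₀ ℕ | d.degree = n} ≃ Fin (n + 1) where
  toFun d := ⟨d.1 0, by
    have := d.2
    simp only [Set.mem_ofPred_eq, Finsupp.degree_eq_sum, Fin.sum_univ_two] at this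
    omega⟩
  invFun i := ⟨Finsupp.single 0 i.1 + Finsupp.single 1 (n - i.1), by
    simp only [Set.mem_ofPred_eq, Finsupp.degree_eq_sum, Fin.sum_univ_two]
    simp
    omega⟩
  left_inv d := by
    have := d.2
    simp only [Set.mem_ofPred_eq, Finsupp.degree_eq_sum, Fin.sum_univ_two] at this
    apply Subtype.ext
    ext i
    fin_cases i
    · simp
    · simp
      omega
  right_inv i := by
    apply Fin.ext
    simp

theorem finrank_homogeneousSubmodule_fin_two (K : Type*) [Field K] (d : ℕ) :
    Module.finrank K (homogeneousSubmodule (Fin 2) K d) = d + 1 := by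
  rw [homogeneousSubmodule_eq_finsupp_supported]
  have b := basisRestrictSupport K {e : Fin 2 →₀ ℕ | e.degree = d}
  have : Module.finrank K (restrictSupport K {e : Fin 2 →₀ ℕ | e.degree = d}) = d + 1 := by
    rw [Module.finrank_eq_nat_card_basis b, Nat.card_congr (degEquivFin d)]
    simp
  exact this

instance (K : Type*) [Field K] (d : ℕ) :
    FiniteDimensional K (homogeneousSubmodule (Fin 2) K d) := by
  apply Module.finite_of_finrank_pos
  rw [finrank_homogeneousSubmodule_fin_two]; omega


/-- Multiplication of forms as a bilinear map. -/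
noncomputable def mulForms (K : Type*) [Field K] (a b : ℕ) :
    homogeneousSubmodule (Fin 2) K a →ₗ[K] homogeneousSubmodule (Fin 2) K b →ₗ[K]
      homogeneousSubmodule (Fin 2) K (a + b) :=
  LinearMap.mk₂ K (fun g h => ⟨g.1 * h.1, IsHomogeneous.mul g.2 h.2⟩)
    (fun g g' h => by apply Subtype.ext; simp [add_mul])
    (fun c g h => by apply Subtype.ext; simp)
    (fun g h h' => by apply Subtype.ext; simp [mul_add])
    (fun c g h => by apply Subtype.ext; simp)

@[simp] theorem mulForms_apply_coe (K : Type*) [Field K] (a b : ℕ)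
    (g : homogeneousSubmodule (Fin 2) K a) (h : homogeneousSubmodule (Fin 2) K b) :
    ((mulForms K a b g h : homogeneousSubmodule (Fin 2) K (a + b)) : MvPolynomial (Fin 2) K) =
      g.1 * h.1 := rfl

/-- The subspace `U ∩ N_d` seen inside `N_d`. -/
noncomputable abbrev restrictTo (K : Type*) [Field K] (d : ℕ) (U : Submodule K (MvPolynomial (Fin 2) K)) :
    Submodule K (homogeneousSubmodule (Fin 2) K d) :=
  U.comap (homogeneousSubmodule (Fin 2) K d).subtype

theorem finrank_quotient_restrictTo (K : Type*) [Field K] (d : ℕ)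
    (U : Submodule K (MvPolynomial (Fin 2) K)) (hU : U ≤ homogeneousSubmodule (Fin 2) K d) :
    Module.finrank K (homogeneousSubmodule (Fin 2) K d ⧸ restrictTo K d U) + Module.finrank K U
      = d + 1 := by
  have h1 := Submodule.finrank_quotient_add_finrank (restrictTo K d U)
  rw [finrank_homogeneousSubmodule_fin_two] at h1
  have h2 : Module.finrank K (restrictTo K d U) = Module.finrank K U :=
    (Submodule.comapSubtypeEquivOfLe hU).finrank_eq
  rw [h2] at h1
  exact h1

/-- The map `g ↦ (h ↦ [g h])` from forms of degree `a` to `Hom (N_b, N_{a+b} / U)`. -/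
noncomputable def mulModForms (K : Type*) [Field K] (a b : ℕ)
    (U : Submodule K (MvPolynomial (Fin 2) K)) :
    homogeneousSubmodule (Fin 2) K a →ₗ[K] homogeneousSubmodule (Fin 2) K b →ₗ[K]
      (homogeneousSubmodule (Fin 2) K (a + b) ⧸ restrictTo K (a + b) U) :=
  (LinearMap.compRight K (restrictTo K (a + b) U).mkQ) ∘ₗ (mulForms K a b)

theorem mulModForms_apply_eq_zero_iff (K : Type*) [Field K] (a b : ℕ)
    (U : Submodule K (MvPolynomial (Fin 2) K))
    (g : homogeneousSubmodule (Fin 2) K a) (h : homogeneousSubmodule (Fin 2) K b) :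
    mulModForms K a b U g h = 0 ↔ g.1 * h.1 ∈ U := by
  simp [mulModForms]

theorem mem_ker_mulModForms_iff (K : Type*) [Field K] (a b : ℕ)
    (U : Submodule K (MvPolynomial (Fin 2) K))
    (g : homogeneousSubmodule (Fin 2) K a) :
    g ∈ LinearMap.ker (mulModForms K a b U) ↔
      ∀ h ∈ homogeneousSubmodule (Fin 2) K b, g.1 * h ∈ U := by
  rw [LinearMap.mem_ker]
  constructor
  · intro hg h hh
    have := congrArg (fun f => f ⟨h, hh⟩) hg
    simpa [mulModForms_apply_eq_zero_iff] using this
  · intro hg
    ext h
    simpa [mulModForms_apply_eq_zero_iff] using hg h.1 h.2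

/-- Dimension count: if `U ⊆ N_{a+b}` has codimension `c` and `c (b+1) < a+1` then some nonzero
form `g` of degree `a` has `g · N_b ⊆ U`. -/
theorem exists_ne_zero_mul_mem (K : Type*) [Field K] (a b c : ℕ)
    (U : Submodule K (MvPolynomial (Fin 2) K)) (hU : U ≤ homogeneousSubmodule (Fin 2) K (a + b))
    (hcodim : Module.finrank K U + c = a + b + 1) (hlt : c * (b + 1) < a + 1) :
    ∃ g ∈ homogeneousSubmodule (Fin 2) K a, g ≠ 0 ∧
      ∀ h ∈ homogeneousSubmodule (Fin 2) K b, g * h ∈ U := by
  have hq := finrank_quotient_restrictTo K (a + b) U hU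
  have hker : LinearMap.ker (mulModForms K a b U) ≠ ⊥ := by
    apply LinearMap.ker_ne_bot_of_finrank_lt
    rw [Module.finrank_linearMap, finrank_homogeneousSubmodule_fin_two,
      finrank_homogeneousSubmodule_fin_two]
    have : Module.finrank K (homogeneousSubmodule (Fin 2) K (a + b) ⧸ restrictTo K (a + b) U) = c := by
      omega
    rw [this, mul_comm]
    exact hlt
  obtain ⟨g, hg, hg0⟩ := Submodule.exists_mem_ne_zero_of_ne_bot hker
  refine ⟨g.1, g.2, fun h => hg0 (Subtype.ext h), ?_⟩
  exact (mem_ker_mulModForms_iff K a b U g).1 hg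


/-- The transposed map `e ↦ (g ↦ [g e])`, which factors through `N_a / ker`. -/
noncomputable def mulModFormsFlipQ (K : Type*) [Field K] (a b : ℕ)
    (U : Submodule K (MvPolynomial (Fin 2) K)) :
    homogeneousSubmodule (Fin 2) K b →ₗ[K]
      ((homogeneousSubmodule (Fin 2) K a ⧸ LinearMap.ker (mulModForms K a b U)) →ₗ[K]
        (homogeneousSubmodule (Fin 2) K (a + b) ⧸ restrictTo K (a + b) U)) where
  toFun e := (LinearMap.ker (mulModForms K a b U)).liftQ ((mulModForms K a b U).flip e)
    (fun g hg => by
      rw [LinearMap.mem_ker] at hg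
      rw [LinearMap.mem_ker, LinearMap.flip_apply, hg]; rfl)
  map_add' e e' := by
    apply Submodule.linearMap_qext
    ext g
    simp
  map_smul' c e := by
    apply Submodule.linearMap_qext
    ext g
    simp

theorem mulModFormsFlipQ_apply_mk (K : Type*) [Field K] (a b : ℕ)
    (U : Submodule K (MvPolynomial (Fin 2) K)) (e : homogeneousSubmodule (Fin 2) K b)
    (g : homogeneousSubmodule (Fin 2) K a) :
    mulModFormsFlipQ K a b U e (Submodule.Quotient.mk g) = mulModForms K a b U g e := rfl

/-- If no nonzero form `e` of degree `b` has `e · N_a ⊆ U` (with `U ⊆ N_{a+b}` of codimension `c`),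
then the space of `g ∈ N_a` with `g · N_b ⊆ U` has dimension at most `a + 1 - (b+1)/c`. -/
theorem finrank_ker_mulModForms_le (K : Type*) [Field K] (a b c : ℕ)
    (U : Submodule K (MvPolynomial (Fin 2) K)) (hU : U ≤ homogeneousSubmodule (Fin 2) K (a + b))
    (hcodim : Module.finrank K U + c = a + b + 1)
    (hsep : ∀ e ∈ homogeneousSubmodule (Fin 2) K b, e ≠ 0 →
      ∃ g ∈ homogeneousSubmodule (Fin 2) K a, g * e ∉ U) :
    b + 1 ≤ (a + 1 - Module.finrank K (LinearMap.ker (mulModForms K a b U))) * c := by
  have hq := finrank_quotient_restrictTo K (a + b) U hU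
  have hQ : Module.finrank K (homogeneousSubmodule (Fin 2) K (a + b) ⧸ restrictTo K (a + b) U) = c := by
    omega
  have hinj : Function.Injective (mulModFormsFlipQ K a b U) := by
    rw [← LinearMap.ker_eq_bot, LinearMap.ker_eq_bot']
    intro e he
    by_contra hne
    obtain ⟨g, hg, hgU⟩ := hsep e.1 e.2 (fun h => hne (Subtype.ext h))
    apply hgU
    have := congrArg (fun f => f (Submodule.Quotient.mk ⟨g, hg⟩)) he
    simp only [mulModFormsFlipQ_apply_mk, LinearMap.zero_apply] at this
    exact (mulModForms_apply_eq_zero_iff K a b U ⟨g, hg⟩ e).1 this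
  have h1 := LinearMap.finrank_le_finrank_of_injective hinj
  rw [Module.finrank_linearMap, finrank_homogeneousSubmodule_fin_two, hQ] at h1
  have h2 := Submodule.finrank_quotient_add_finrank (LinearMap.ker (mulModForms K a b U))
  rw [finrank_homogeneousSubmodule_fin_two] at h2
  have : Module.finrank K (homogeneousSubmodule (Fin 2) K a ⧸ LinearMap.ker (mulModForms K a b U))
      = a + 1 - Module.finrank K (LinearMap.ker (mulModForms K a b U)) := by omega
  rw [this] at h1
  exact h1


/-- Over an algebraically closed field every binary form of degree `d + 1` has a linear factor. -/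
theorem exists_linear_factor (K : Type*) [Field K] [IsAlgClosed K] (d : ℕ)
    (g : MvPolynomial (Fin 2) K) (hg : g ∈ homogeneousSubmodule (Fin 2) K (d + 1)) :
    ∃ l ∈ homogeneousSubmodule (Fin 2) K 1, ∃ e ∈ homogeneousSubmodule (Fin 2) K d, g = l * e := by
  rw [mem_homogeneousSubmodule] at hg
  set p : Polynomial K := MvPolynomial.aeval ![Polynomial.X, 1] g with hp
  have hgp : p.homogenize (d + 1) = g := Polynomial.homogenize_eq_of_isHomogeneous hg rfl
  have hdeg : p.natDegree ≤ d + 1 := by
    have := MvPolynomial.aeval_natDegree_le (m := d + 1) (n := 1) g hg.totalDegree_le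
      ![Polynomial.X, 1] (by
        intro i
        fin_cases i
        · simp
        · simp)
    simpa using this
  by_cases h : p.natDegree ≤ d
  · refine ⟨X 1, isHomogeneous_X _ 1, p.homogenize d, Polynomial.isHomogeneous_homogenize p, ?_⟩
    have := Polynomial.homogenize_mul (1 : Polynomial K) p (m := 1) (n := d) (by simp) h
    rw [one_mul, Polynomial.homogenize_one, pow_one, add_comm] at this
    rw [← hgp, this]
  · have hnd : p.natDegree = d + 1 := by omega
    have hdeg0 : p.degree ≠ 0 := by
      intro h0
      have := Polynomial.natDegree_eq_zero_iff_degree_le_zero.2 h0.le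
      omega
    obtain ⟨r, hr⟩ := IsAlgClosed.exists_root p hdeg0
    have hfac := Polynomial.mul_divByMonic_eq_iff_isRoot.2 hr
    have hq : (p /ₘ (Polynomial.X - Polynomial.C r)).natDegree ≤ d := by
      rw [Polynomial.natDegree_divByMonic _ (Polynomial.monic_X_sub_C r), hnd,
        Polynomial.natDegree_X_sub_C]
      omega
    refine ⟨(Polynomial.X - Polynomial.C r).homogenize 1, Polynomial.isHomogeneous_homogenize _,
      (p /ₘ (Polynomial.X - Polynomial.C r)).homogenize d, Polynomial.isHomogeneous_homogenize _, ?_⟩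
    have := Polynomial.homogenize_mul (Polynomial.X - Polynomial.C r)
      (p /ₘ (Polynomial.X - Polynomial.C r)) (m := 1) (n := d)
      (Polynomial.natDegree_X_sub_C_le r) hq
    rw [hfac, add_comm] at this
    rw [← hgp, this]

/-- The space `g · N_b` has dimension `b + 1` for `g ≠ 0`. -/
theorem finrank_map_mulLeft (K : Type*) [Field K] (b : ℕ) (g : MvPolynomial (Fin 2) K)
    (hg : g ≠ 0) :
    Module.finrank K ((homogeneousSubmodule (Fin 2) K b).map (LinearMap.mulLeft K g)) = b + 1 := by
  have hinj : Function.Injective (LinearMap.mulLeft K g) := mul_right_injective₀ hg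
  rw [← (Submodule.equivMapOfInjective _ hinj (homogeneousSubmodule (Fin 2) K b)).finrank_eq,
    finrank_homogeneousSubmodule_fin_two]

theorem map_mulLeft_le (K : Type*) [Field K] (a b : ℕ) (g : MvPolynomial (Fin 2) K)
    (hg : g ∈ homogeneousSubmodule (Fin 2) K a) :
    (homogeneousSubmodule (Fin 2) K b).map (LinearMap.mulLeft K g) ≤
      homogeneousSubmodule (Fin 2) K (a + b) := by
  rintro _ ⟨h, hh, rfl⟩
  exact IsHomogeneous.mul hg hh

end Groth.Agent.Lib.Helper83
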