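import Mathlib
import Groth.Prelude.Def_Disc
import Groth.Agent.Lib.Helper33.GorInjDim
import Groth.Agent.Lib.Helper93.NormDifferent
import Groth.Agent.Lib.Helper16.InvRank

/-!
# Gorenstein fibres of a finite free algebra and invertibility of `Hom_A(B, A)` (helper83)

Gram-determinant criterion: for a finite free `A`-algebra `B` with basis `b` and `λ ∈ ω = Hom_A(B,A)`,
`G b λ = (λ(b_i b_j))`.
* field case: `F` finite-dimensional over `κ` is Gorenstein iff some `μ` has `det G ≠ 0`
  (`isGorensteinRing_of_det_ne_zero`, `exists_injective_smul`, `det_ne_zero_of_injective_smul`);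
* `ω` is invertible iff every prime avoids some Gram determinant
  (`invertible_of_det`, `exists_det_notMem_of_invertible`);
* fibres: `isGorensteinRing_fiber_of_det`, `exists_det_notMem_of_isGorensteinRing_fiber`.
-/

set_option autoImplicit false
universe u

namespace Groth.Agent.Lib.Helper83.GorFrob

open Disc CategoryTheory TensorProduct
open Groth.Agent.Lib.Helper93.NormDifferent (G)

section Field

variable {κ F : Type u} [Field κ] [CommRing F] [Algebra κ F]

/-- `Hom_κ(F, κ)` is an injective `F`-module (Baer form). -/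
theorem baer_omega : Module.Baer F (Omega κ F) := by
  intro I g
  -- the functional `x ↦ g(x)(1)` on `I`
  let θ : (I.restrictScalars κ) →ₗ[κ] κ :=
    { toFun := fun x => (g ⟨x.1, x.2⟩).toLinearMap 1
      map_add' := fun x y => by
        have : g (⟨x.1 + y.1, I.add_mem x.2 y.2⟩ : I) = g ⟨x.1, x.2⟩ + g ⟨y.1, y.2⟩ := by
          rw [← map_add]; rfl
        show (g ⟨x.1 + y.1, _⟩).toLinearMap 1 = _
        rw [this]; rfl
      map_smul' := fun c x => by
        have h1 : g (⟨c • x.1, I.smul_of_tower_mem c x.2⟩ : I) =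
            (algebraMap κ F c) • g ⟨x.1, x.2⟩ := by
          rw [← map_smul]
          congr 1
          apply Subtype.ext
          show c • x.1 = algebraMap κ F c • x.1
          rw [Algebra.smul_def, smul_eq_mul]
        show (g ⟨c • x.1, _⟩).toLinearMap 1 = _
        rw [h1, Omega.smul_toLinearMap_apply, mul_one, ← mul_one (algebraMap κ F c),
          ← Algebra.smul_def, map_smul]
        rfl }
  obtain ⟨ν₀, hν₀⟩ := LinearMap.exists_extend θ
  refine ⟨LinearMap.toSpanSingleton F (Omega κ F) ⟨ν₀⟩, ?_⟩
  intro x hx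
  rw [LinearMap.toSpanSingleton_apply]
  apply Omega.ext
  ext y
  rw [Omega.smul_toLinearMap_apply]
  have hxy : x * y ∈ I := I.mul_mem_right y hx
  have h1 : ν₀ (x * y) = θ ⟨x * y, hxy⟩ := by
    rw [← hν₀]; rfl
  rw [h1]
  show (g ⟨x * y, hxy⟩).toLinearMap 1 = _
  have h2 : (⟨x * y, hxy⟩ : I) = y • (⟨x, hx⟩ : I) := by
    apply Subtype.ext
    show x * y = y • x
    rw [smul_eq_mul, mul_comm]
  rw [h2, map_smul, Omega.smul_toLinearMap_apply, mul_one]

variable {ι : Type} [Fintype ι] [DecidableEq ι] (e : Module.Basis ι κ F)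

theorem smul_apply_basis_field (μ : Omega κ F) (v : ι → κ) (i : ι) :
    ((∑ j, v j • e j) • μ).toLinearMap (e i) = ((G e μ).mulVec v) i := by
  rw [Omega.smul_toLinearMap_apply, Finset.sum_mul, map_sum, Matrix.mulVec, dotProduct]
  refine Finset.sum_congr rfl fun j _ => ?_
  rw [smul_mul_assoc, map_smul, smul_eq_mul, G, Matrix.of_apply, mul_comm (e j) (e i), mul_comm]

/-- nondegenerate Gram matrix ⇒ `x ↦ x • μ` is bijective -/
theorem bijective_smul_of_det_ne_zero (μ : Omega κ F) (h : (G e μ).det ≠ 0) :
    Function.Bijective (fun x : F => x • μ) := by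
  have hu : IsUnit (G e μ).det := isUnit_iff_ne_zero.2 h
  constructor
  · intro x y hxy
    have h0 : (x - y) • μ = 0 := by
      rw [sub_smul]; exact sub_eq_zero.2 hxy
    have hv : (G e μ).mulVec (e.repr (x - y)) = 0 := by
      ext i
      have := smul_apply_basis_field e μ (e.repr (x - y)) i
      rw [← this]
      have hs : ∑ j, (e.repr (x - y)) j • e j = x - y := e.sum_repr (x - y)
      rw [hs, h0]; rfl
    have hz : (e.repr (x - y) : ι → κ) = 0 :=
      Matrix.eq_zero_of_mulVec_eq_zero h hv
    have : x - y = 0 := by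
      rw [← e.sum_repr (x - y)]
      simp only [show ∀ j, (e.repr (x - y)) j = 0 from fun j => congrFun hz j, zero_smul,
        Finset.sum_const_zero]
    exact sub_eq_zero.1 this
  · intro ν
    let v : ι → κ := (G e μ)⁻¹.mulVec (fun i => ν.toLinearMap (e i))
    refine ⟨∑ j, v j • e j, ?_⟩
    apply Omega.ext
    apply e.ext
    intro i
    show ((∑ j, v j • e j) • μ).toLinearMap (e i) = _
    rw [smul_apply_basis_field, Matrix.mulVec_mulVec, Matrix.mul_nonsing_inv _ hu, Matrix.one_mulVec]

/-- `x ↦ x • μ` injective ⇒ nondegenerate Gram matrix -/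
theorem det_ne_zero_of_injective_smul (μ : Omega κ F)
    (h : Function.Injective (fun x : F => x • μ)) : (G e μ).det ≠ 0 := by
  intro hdet
  obtain ⟨v, hv0, hv⟩ := Matrix.exists_mulVec_eq_zero_iff.2 hdet
  have h0 : (∑ j, v j • e j) • μ = 0 := by
    apply Omega.ext
    apply e.ext
    intro i
    rw [smul_apply_basis_field, hv]; rfl
  have h1 : (∑ j, v j • e j) = 0 := h (by simpa using h0)
  apply hv0
  ext j
  have := congrArg (fun x => e.repr x j) h1
  simp only [map_zero, Finsupp.zero_apply] at this
  rw [e.repr_sum_self] at this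
  exact this

end Field


section Socle

variable {F : Type u} [CommRing F]

/-- in a self-injective ring, the elements killed by a maximal ideal form a cyclic module -/
theorem socle_cyclic (hB : Module.Baer F F) (m : Ideal F) [hm : m.IsMaximal] (u v : F) (hu : u ≠ 0)
    (hum : ∀ a ∈ m, a * u = 0) (hvm : ∀ a ∈ m, a * v = 0) : ∃ c : F, v = c * u := by
  set Tu : F →ₗ[F] F := LinearMap.toSpanSingleton F F u with hTu
  set Tv : F →ₗ[F] F := LinearMap.toSpanSingleton F F v with hTv
  have hker : LinearMap.ker Tu = m := by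
    symm
    apply hm.eq_of_le
    · intro h
      have : (1 : F) ∈ LinearMap.ker Tu := by rw [h]; trivial
      rw [LinearMap.mem_ker, hTu, LinearMap.toSpanSingleton_apply, one_smul] at this
      exact hu this
    · intro a ha
      rw [LinearMap.mem_ker, hTu, LinearMap.toSpanSingleton_apply, smul_eq_mul]
      exact hum a ha
  have hle : LinearMap.ker Tu ≤ LinearMap.ker Tv := by
    rw [hker]
    intro a ha
    rw [LinearMap.mem_ker, hTv, LinearMap.toSpanSingleton_apply, smul_eq_mul]
    exact hvm a ha
  let g : (LinearMap.range Tu : Ideal F) →ₗ[F] F :=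
    (Submodule.liftQ (LinearMap.ker Tu) Tv hle) ∘ₗ (Tu.quotKerEquivRange).symm.toLinearMap
  obtain ⟨g', hg'⟩ := hB (LinearMap.range Tu) g
  have hu1 : Tu 1 = u := by rw [hTu, LinearMap.toSpanSingleton_apply, one_smul]
  have hmem : u ∈ (LinearMap.range Tu : Ideal F) := ⟨1, hu1⟩
  have h1 : g ⟨u, hmem⟩ = v := by
    have h2 : (⟨u, hmem⟩ : (LinearMap.range Tu : Ideal F)) =
        ⟨Tu 1, LinearMap.mem_range_self Tu 1⟩ := by
      apply Subtype.ext; exact hu1.symm
    rw [h2]
    show (Submodule.liftQ (LinearMap.ker Tu) Tv hle)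
      ((Tu.quotKerEquivRange).symm ⟨Tu 1, LinearMap.mem_range_self Tu 1⟩) = v
    rw [LinearMap.quotKerEquivRange_symm_apply_image, Submodule.mkQ_apply, Submodule.liftQ_apply,
      hTv, LinearMap.toSpanSingleton_apply, one_smul]
  refine ⟨g' 1, ?_⟩
  rw [← h1, ← hg' u hmem]
  have : u = u • (1 : F) := by rw [smul_eq_mul, mul_one]
  conv_lhs => rw [this]
  rw [map_smul, smul_eq_mul, mul_comm]

end Socle

section Field2

variable {κ F : Type u} [Field κ] [CommRing F] [Algebra κ F]
variable {ι : Type} [Fintype ι] [DecidableEq ι] (e : Module.Basis ι κ F)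

theorem isNoetherianRing_of_finite (κ : Type u) [Field κ] [Algebra κ F] [Module.Finite κ F] :
    IsNoetherianRing F := by
  haveI : IsNoetherian κ F := isNoetherian_of_isNoetherianRing_of_finite κ F
  exact isNoetherian_of_tower κ ‹_›

/-- a nondegenerate functional makes `F` Gorenstein -/
theorem isGorensteinRing_of_det_ne_zero (μ : Omega κ F) (h : (G e μ).det ≠ 0) :
    LocCoh.IsGorensteinRing F := by
  haveI : Module.Finite κ F := Module.Finite.of_basis e
  haveI : IsNoetherianRing F := isNoetherianRing_of_finite κ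
  have hb := bijective_smul_of_det_ne_zero e μ h
  let E : F ≃ₗ[F] Omega κ F :=
    LinearEquiv.ofBijective (LinearMap.toSpanSingleton F (Omega κ F) μ) hb
  have hB : Module.Baer F F := Module.Baer.of_equiv E.symm baer_omega
  haveI hI : Module.Injective F F := hB.injective
  haveI : Injective (ModuleCat.of F F) := Module.injective_object_of_injective_module F F
  have h1 : HasInjectiveDimensionLT (ModuleCat.of F F) 1 :=
    injective_iff_hasInjectiveDimensionLT_one.mp inferInstance
  exact ((Groth.Agent.S0345.result F).1 ⟨1, h1⟩).1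

/-- a Gorenstein finite-dimensional algebra has a functional `μ` with `x ↦ x • μ` injective -/
theorem exists_injective_smul [Module.Finite κ F] [hG : LocCoh.IsGorensteinRing F] :
    ∃ μ : Omega κ F, Function.Injective (fun x : F => x • μ) := by
  classical
  haveI : IsArtinianRing F := IsArtinianRing.of_finite κ F
  haveI : IsNoetherianRing F := isNoetherianRing_of_finite κ
  -- self-injectivity
  have hd : ringKrullDim F ≤ (0 : ℕ) := by
    have : Ring.KrullDimLE 0 F := inferInstance
    exact_mod_cast (Ring.krullDimLE_iff.1 this)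
  have h1 : HasInjectiveDimensionLT (ModuleCat.of F F) 1 :=
    Groth.Agent.Lib.Helper33.GorInjDim.hasInjectiveDimensionLT_of_isGorensteinRing F 0 hd
  haveI : Injective (ModuleCat.of F F) := injective_iff_hasInjectiveDimensionLT_one.mpr h1
  haveI hI : Module.Injective F F := Module.injective_module_of_injective_object F F
  have hB : Module.Baer F F := Module.Baer.of_injective hI
  -- the maximal ideals
  haveI : Fintype (MaximalSpectrum F) := Fintype.ofFinite _
  -- socle generators
  have hu : ∀ m : MaximalSpectrum F, ∃ u : F, (∀ a ∈ m.asIdeal, a * u = 0) ∧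
      (u = 0 → ∀ x : F, (∀ a ∈ m.asIdeal, a * x = 0) → x = 0) := by
    intro m
    by_cases hex : ∃ x : F, x ≠ 0 ∧ ∀ a ∈ m.asIdeal, a * x = 0
    · obtain ⟨x, hx0, hx⟩ := hex
      exact ⟨x, hx, fun h => absurd h hx0⟩
    · push_neg at hex
      refine ⟨0, fun a _ => mul_zero a, fun _ x hx => ?_⟩
      by_contra hx0
      obtain ⟨a, ha, ha'⟩ := hex x hx0
      exact ha' (hx a ha)
  choose u hu1 hu2 using hu
  -- functionals
  have hμ : ∀ m : MaximalSpectrum F, ∃ φ : Omega κ F, u m ≠ 0 → φ.toLinearMap (u m) ≠ 0 := by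
    intro m
    by_cases h0 : u m = 0
    · exact ⟨0, fun h => absurd h0 h⟩
    · have := (Module.forall_dual_apply_eq_zero_iff κ (u m)).not.2 h0
      push_neg at this
      obtain ⟨φ, hφ⟩ := this
      exact ⟨⟨φ⟩, fun _ => hφ⟩
  choose μ' hμ' using hμ
  -- CRT elements
  have hcop : Pairwise (Function.onFun IsCoprime fun m : MaximalSpectrum F => m.asIdeal) := by
    intro m m' hne
    haveI := m.isMaximal
    haveI := m'.isMaximal
    exact Ideal.isCoprime_of_isMaximal (MaximalSpectrum.ext_iff.ne.mp hne)
  have hcrt : ∀ m₀ : MaximalSpectrum F, ∃ r : F, r - 1 ∈ m₀.asIdeal ∧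
      ∀ m : MaximalSpectrum F, m ≠ m₀ → r ∈ m.asIdeal := by
    intro m₀
    obtain ⟨r, hr⟩ := Ideal.exists_forall_sub_mem_ideal hcop (fun m => if m = m₀ then 1 else 0)
    refine ⟨r, by simpa using hr m₀, fun m hm => ?_⟩
    have := hr m
    simpa [hm] using this
  choose ε hε1 hε2 using hcrt
  let μ : Omega κ F := ∑ m, ε m • μ' m
  have hμu : ∀ m : MaximalSpectrum F, μ.toLinearMap (u m) = (μ' m).toLinearMap (u m) := by
    intro m
    have hsum : μ.toLinearMap (u m) = ∑ m', (ε m' • μ' m').toLinearMap (u m) := by
      show (∑ m', ε m' • μ' m').toLinearMap (u m) = _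
      rw [Groth.Agent.Lib.Helper93.NoetherDiffFree.sum_toLinearMap, LinearMap.sum_apply]
    rw [hsum, Finset.sum_eq_single m]
    · rw [Omega.smul_toLinearMap_apply]
      have : ε m * u m = u m := by
        have h := hu1 m (ε m - 1) (hε1 m)
        rw [sub_mul, one_mul, sub_eq_zero] at h
        exact h
      rw [this]
    · intro m' _ hne
      rw [Omega.smul_toLinearMap_apply, hu1 m (ε m') (hε2 m' m (Ne.symm hne)), map_zero]
    · intro h; exact absurd (Finset.mem_univ m) h
  refine ⟨μ, ?_⟩
  intro x y hxy
  by_contra hne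
  set z := x - y with hz
  have hz0 : z ≠ 0 := sub_ne_zero.2 hne
  have hzμ : z • μ = 0 := by rw [hz, sub_smul]; exact sub_eq_zero.2 hxy
  haveI : Nontrivial ↥(Ideal.span {z}) :=
    ⟨⟨⟨z, Ideal.subset_span rfl⟩, 0, fun h => hz0 (congrArg Subtype.val h)⟩⟩
  obtain ⟨P, hP⟩ := associatedPrimes.nonempty F ↥(Ideal.span {z})
  obtain ⟨hPprime, w, hw⟩ := isAssociatedPrime_iff.1 hP
  have hPmax : P.IsMaximal := (IsArtinianRing.isPrime_iff_isMaximal P).1 hPprime
  let m : MaximalSpectrum F := ⟨P, hPmax⟩
  obtain ⟨y', hy'⟩ := Ideal.mem_span_singleton'.1 w.2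
  have hmemP : ∀ a : F, a ∈ P ↔ a * (w : F) = 0 := by
    intro a
    rw [hw, Submodule.mem_colon_singleton, Submodule.mem_bot]
    constructor
    · intro h
      have := congrArg Subtype.val h
      simpa using this
    · intro h
      apply Subtype.ext
      simpa using h
  have hw0 : (w : F) ≠ 0 := by
    intro h0
    apply hPprime.ne_top
    rw [Ideal.eq_top_iff_one, hmemP, h0, mul_zero]
  have hkill : ∀ a ∈ m.asIdeal, a * (w : F) = 0 := fun a ha => (hmemP a).1 ha
  have hum0 : u m ≠ 0 := fun h => hw0 (hu2 m h w hkill)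
  obtain ⟨c, hc⟩ := socle_cyclic hB P (u m) w hum0 (hu1 m) hkill
  have hcP : c ∉ P := by
    intro hcP
    apply hw0
    rw [hc]
    exact hu1 m c hcP
  obtain ⟨c', i, hi, hci⟩ := hPmax.exists_inv hcP
  have hum : u m = c' * w := by
    calc u m = (c' * c + i) * u m := by rw [hci, one_mul]
      _ = c' * (c * u m) + i * u m := by ring
      _ = c' * w := by rw [← hc, hu1 m i hi, add_zero]
  have hfin : μ.toLinearMap (u m) = 0 := by
    rw [hum, ← hy']
    have h3 : c' * (y' * z) = z * (c' * y') := by ring
    rw [h3, ← Omega.smul_toLinearMap_apply, hzμ]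
    rfl
  exact hμ' m hum0 (by rw [← hμu m]; exact hfin)

end Field2


section Gen
variable {A B : Type u} [CommRing A] [CommRing B] [Algebra A B]
variable {ι : Type} [Fintype ι] [DecidableEq ι] (b : Module.Basis ι A B)

theorem smul_apply_basis (μ : Omega A B) (v : ι → A) (i : ι) :
    ((∑ j, v j • b j) • μ).toLinearMap (b i) = ((G b μ).mulVec v) i := by
  rw [Omega.smul_toLinearMap_apply, Finset.sum_mul, map_sum, Matrix.mulVec, dotProduct]
  refine Finset.sum_congr rfl fun j _ => ?_
  rw [smul_mul_assoc, map_smul, smul_eq_mul, G, Matrix.of_apply, mul_comm (b j) (b i), mul_comm]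

/-- adjugate "inverse" of `x ↦ x • lam` -/
noncomputable def adj (lam : Omega A B) (ω : Omega A B) : B :=
  ∑ i, ((G b lam).adjugate.mulVec (fun j => ω.toLinearMap (b j))) i • b i

theorem adj_smul (lam : Omega A B) (x : B) :
    adj b lam (x • lam) = (G b lam).det • x := by
  have hx : x = ∑ j, (b.repr x) j • b j := (b.sum_repr x).symm
  have h1 : (fun j => (x • lam).toLinearMap (b j)) = (G b lam).mulVec (b.repr x) := by
    funext j
    conv_lhs => rw [hx]
    exact smul_apply_basis b lam _ j
  rw [adj, h1, Matrix.mulVec_mulVec, Matrix.adjugate_mul]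
  conv_rhs => rw [hx, Finset.smul_sum]
  refine Finset.sum_congr rfl fun i _ => ?_
  rw [Matrix.smul_mulVec, Matrix.one_mulVec, Pi.smul_apply, smul_eq_mul, mul_smul]

theorem smul_adj (lam : Omega A B) (ω : Omega A B) :
    adj b lam ω • lam = algebraMap A B (G b lam).det • ω := by
  apply Omega.ext
  apply b.ext
  intro j
  rw [adj, smul_apply_basis, Matrix.mulVec_mulVec, Matrix.mul_adjugate, Matrix.smul_mulVec,
    Matrix.one_mulVec, Pi.smul_apply, smul_eq_mul, Omega.smul_toLinearMap_apply,
    ← Algebra.smul_def, map_smul, smul_eq_mul]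

include b in
theorem finite_omega : Module.Finite B (Omega A B) := by
  classical
  refine ⟨⟨Finset.univ.image (fun i => (⟨b.coord i⟩ : Omega A B)), ?_⟩⟩
  rw [eq_top_iff]
  rintro ψ -
  have hψ : ψ = ∑ i, algebraMap A B (ψ.toLinearMap (b i)) • (⟨b.coord i⟩ : Omega A B) :=
    (Groth.Agent.Lib.Helper93.NoetherDiffFree.sum_eval_smul_coord b ψ.toLinearMap).symm
  rw [hψ]
  refine Submodule.sum_mem _ fun i _ => ?_
  refine Submodule.smul_mem _ _ (Submodule.subset_span ?_)
  simp

/-- local freeness of `ω` at a prime not containing the Gram determinant -/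
theorem exists_equiv_localized (lam : Omega A B) (q : Ideal B) [q.IsPrime]
    (hd : algebraMap A B (G b lam).det ∉ q) :
    Nonempty (Localization.AtPrime q ≃ₗ[Localization.AtPrime q]
      LocalizedModule q.primeCompl (Omega A B)) := by
  set d := (G b lam).det with hdd
  let T : Localization.AtPrime q →ₗ[Localization.AtPrime q]
      LocalizedModule q.primeCompl (Omega A B) :=
    LinearMap.toSpanSingleton _ _
      (LocalizedModule.mk lam (1 : q.primeCompl) : LocalizedModule q.primeCompl (Omega A B))
  refine ⟨LinearEquiv.ofBijective T ⟨?_, ?_⟩⟩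
  · rw [injective_iff_map_eq_zero]
    intro r hr
    induction r using Localization.induction_on with
    | H xt =>
    obtain ⟨x, t⟩ := xt
    have h1 : T (Localization.mk x t) = LocalizedModule.mk (x • lam) t := by
      show Localization.mk x t •
        (LocalizedModule.mk lam (1 : q.primeCompl) : LocalizedModule q.primeCompl (Omega A B)) = _
      rw [LocalizedModule.mk_smul_mk, mul_one]
    rw [h1, ← LocalizedModule.zero_mk (1 : q.primeCompl), LocalizedModule.mk_eq] at hr
    obtain ⟨t', ht'⟩ := hr
    have h2 : ((t' : B) * x) • lam = 0 := by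
      rw [mul_smul]
      simpa [Submonoid.smul_def] using ht'
    have h3 := adj_smul b lam ((t' : B) * x)
    rw [h2] at h3
    have h4 : adj b lam (0 : Omega A B) = 0 := by
      have h5 : (fun j => (0 : Omega A B).toLinearMap (b j)) = 0 := by funext j; rfl
      rw [adj, h5, Matrix.mulVec_zero]
      simp
    rw [h4] at h3
    rw [Localization.mk_eq_mk', IsLocalization.mk'_eq_zero_iff]
    refine ⟨⟨algebraMap A B d * t', q.primeCompl.mul_mem hd t'.2⟩, ?_⟩
    show algebraMap A B d * t' * x = 0
    rw [mul_assoc, ← Algebra.smul_def]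
    exact h3.symm
  · intro z
    induction z using LocalizedModule.induction_on with
    | h ω t =>
      refine ⟨Localization.mk (adj b lam ω)
        (⟨algebraMap A B d * t, q.primeCompl.mul_mem hd t.2⟩ : q.primeCompl), ?_⟩
      show Localization.mk (adj b lam ω)
          (⟨algebraMap A B d * t, q.primeCompl.mul_mem hd t.2⟩ : q.primeCompl) •
        (LocalizedModule.mk lam (1 : q.primeCompl) : LocalizedModule q.primeCompl (Omega A B)) = _
      rw [LocalizedModule.mk_smul_mk, mul_one, smul_adj, LocalizedModule.mk_eq]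
      refine ⟨1, ?_⟩
      simp only [one_smul, Submonoid.smul_def]
      rw [smul_smul, mul_comm]

end Gen


section Gen2
variable {A B : Type u} [CommRing A] [CommRing B] [Algebra A B]
variable {ι : Type} [Fintype ι] [DecidableEq ι] (b : Module.Basis ι A B)

include b in
/-- `ω` is invertible as soon as every prime of `B` avoids some Gram determinant -/
theorem invertible_of_det [IsNoetherianRing A]
    (h : ∀ (q : Ideal B) [q.IsPrime], ∃ lam : Omega A B, algebraMap A B (G b lam).det ∉ q) :
    Module.Invertible B (Omega A B) := by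
  haveI : Module.Finite A B := Module.Finite.of_basis b
  haveI : IsNoetherian A B := isNoetherian_of_isNoetherianRing_of_finite A B
  haveI : IsNoetherianRing B := isNoetherian_of_tower A ‹_›
  haveI : Module.Finite B (Omega A B) := finite_omega b
  haveI : Module.FinitePresentation B (Omega A B) := Module.finitePresentation_of_finite B _
  have hequiv : ∀ (q : Ideal B) [q.IsPrime], Nonempty (Localization.AtPrime q ≃ₗ[Localization.AtPrime q]
      LocalizedModule q.primeCompl (Omega A B)) := by
    intro q _
    obtain ⟨lam, hlam⟩ := h q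
    exact exists_equiv_localized b lam q hlam
  haveI : Module.Projective B (Omega A B) := by
    apply Module.projective_of_localization_maximal
    intro I hI
    obtain ⟨e⟩ := hequiv I
    exact Module.Projective.of_equiv e
  apply Groth.Agent.Lib.Helper16.InvRank.invertible_of_rankAtStalk_eq_one
  intro q
  obtain ⟨e⟩ := hequiv q.asIdeal
  rw [Module.rankAtStalk, ← LinearEquiv.finrank_eq e, Module.finrank_self]

/-- the Gram determinant of a local generator divides a power of the denominator -/
theorem det_G_dvd (lam : Omega A B) (s : A)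
    (hs : ∀ ψ : Omega A B, ∃ c : B, algebraMap A B s • ψ = c • lam) :
    ∃ t : A, t * (G b lam).det = s ^ Fintype.card ι := by
  choose c hc using hs
  refine ⟨(Matrix.of fun i k => b.repr (c ⟨b.coord i⟩) k).det, ?_⟩
  rw [← Matrix.det_mul]
  have : (Matrix.of fun i k => b.repr (c ⟨b.coord i⟩) k) * G b lam = s • (1 : Matrix ι ι A) := by
    ext i j
    rw [Matrix.mul_apply]
    have h3 := congrArg (fun ω : Omega A B => ω.toLinearMap (b j)) (hc ⟨b.coord i⟩)
    simp only [Omega.smul_toLinearMap_apply] at h3
    rw [← Algebra.smul_def, map_smul, Module.Basis.coord_apply, Module.Basis.repr_self,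
      Finsupp.single_apply] at h3
    simp only [Matrix.smul_apply, Matrix.one_apply, smul_eq_mul]
    have h4 : s * (if i = j then (1 : A) else 0) = s • (if j = i then (1 : A) else 0) := by
      rw [smul_eq_mul]; congr 1; simp [eq_comm]
    rw [h4, h3]
    conv_rhs => rw [← b.sum_repr (c ⟨b.coord i⟩), Finset.sum_mul, map_sum]
    refine Finset.sum_congr rfl fun k _ => ?_
    rw [smul_mul_assoc, map_smul, smul_eq_mul]
    rfl
  rw [this, Matrix.det_smul, Matrix.det_one, mul_one]

/-- if `ω` is invertible, every prime of `A` avoids some Gram determinant -/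
theorem exists_det_notMem_of_invertible [Module.Invertible B (Omega A B)] (p : Ideal A)
    [hp : p.IsPrime] : ∃ lam : Omega A B, (G b lam).det ∉ p := by
  obtain ⟨P, hP, hpP⟩ := Ideal.exists_le_maximal p hp.ne_top
  obtain ⟨lam, s, hsP, hs⟩ := Groth.Agent.Lib.Helper93.NormDifferent.exists_generator P b
  obtain ⟨t, ht⟩ := det_G_dvd b lam s hs
  refine ⟨lam, fun hmem => hsP ?_⟩
  have : s ^ Fintype.card ι ∈ P := by
    rw [← ht]
    exact Ideal.mul_mem_left _ _ (hpP hmem)
  exact hP.isPrime.mem_of_pow_mem _ this

end Gen2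


section Fibre
variable {A B : Type u} [CommRing A] [CommRing B] [Algebra A B]
variable {ι : Type} [Fintype ι] [DecidableEq ι] (b : Module.Basis ι A B)
variable (p : Ideal A) [p.IsPrime]

/-- reduction of a functional to the fibre over `p` -/
noncomputable def red (lam : Omega A B) : Omega p.ResidueField (p.Fiber B) :=
  ⟨(TensorProduct.AlgebraTensorModule.rid A p.ResidueField p.ResidueField).toLinearMap ∘ₗ
    (lam.toLinearMap.baseChange p.ResidueField)⟩

theorem red_tmul (lam : Omega A B) (c : p.ResidueField) (x : B) :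
    (red p lam).toLinearMap (c ⊗ₜ[A] x) =
      algebraMap A p.ResidueField (lam.toLinearMap x) * c := by
  simp [red, Algebra.smul_def]

/-- the basis of the fibre -/
noncomputable abbrev fb : Module.Basis ι p.ResidueField (p.Fiber B) :=
  Algebra.TensorProduct.basis p.ResidueField b

theorem G_red (lam : Omega A B) :
    G (fb b p) (red p lam) = (G b lam).map (algebraMap A p.ResidueField) := by
  ext i j
  simp only [G, Matrix.of_apply, Matrix.map_apply, fb, Algebra.TensorProduct.basis_apply,
    Algebra.TensorProduct.tmul_mul_tmul, mul_one, red_tmul]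

theorem det_G_red (lam : Omega A B) :
    (G (fb b p) (red p lam)).det = algebraMap A p.ResidueField (G b lam).det := by
  rw [G_red, RingHom.map_det, RingHom.mapMatrix_apply]

theorem isGorensteinRing_fiber_of_det (lam : Omega A B) (h : (G b lam).det ∉ p) :
    LocCoh.IsGorensteinRing (p.Fiber B) := by
  refine isGorensteinRing_of_det_ne_zero (fb b p) (red p lam) ?_
  rw [det_G_red, Ne, Ideal.algebraMap_residueField_eq_zero]
  exact h

theorem exists_det_notMem_of_isGorensteinRing_fiber [LocCoh.IsGorensteinRing (p.Fiber B)] :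
    ∃ lam : Omega A B, (G b lam).det ∉ p := by
  haveI : Module.Finite p.ResidueField (p.Fiber B) := Module.Finite.of_basis (fb b p)
  obtain ⟨μ, hμ⟩ := exists_injective_smul (κ := p.ResidueField) (F := p.Fiber B)
  have hdet := det_ne_zero_of_injective_smul (fb b p) μ hμ
  -- clear denominators
  obtain ⟨s₀, hs₀⟩ := IsLocalization.exist_integer_multiples_of_finite
    (nonZeroDivisors (A ⧸ p)) (fun i => μ.toLinearMap (fb b p i))
  choose a₀ ha₀ using hs₀
  obtain ⟨s, hs⟩ := Ideal.Quotient.mk_surjective (s₀ : A ⧸ p)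
  choose a ha using fun i => Ideal.Quotient.mk_surjective (a₀ i)
  have hsp : s ∉ p := by
    intro h
    have h0 : (s₀ : A ⧸ p) = 0 := by rw [← hs]; exact Ideal.Quotient.eq_zero_iff_mem.2 h
    exact nonZeroDivisors.coe_ne_zero s₀ h0
  have hkey : ∀ i, algebraMap A p.ResidueField (a i) =
      algebraMap A p.ResidueField s * μ.toLinearMap (fb b p i) := by
    intro i
    have h1 := ha₀ i
    rw [← ha i, ← hs, Algebra.smul_def] at h1
    rw [IsScalarTower.algebraMap_apply A (A ⧸ p) p.ResidueField,
      IsScalarTower.algebraMap_apply A (A ⧸ p) p.ResidueField s]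
    exact h1
  let lam : Omega A B := ⟨∑ i, a i • b.coord i⟩
  have hlam : ∀ j, lam.toLinearMap (b j) = a j := by
    intro j
    show (∑ i, a i • b.coord i) (b j) = a j
    rw [LinearMap.sum_apply, Finset.sum_eq_single j]
    · simp
    · intro i _ hij
      simp [Finsupp.single_apply, hij]
    · intro h; exact absurd (Finset.mem_univ j) h
  have hred : (red p lam).toLinearMap =
      algebraMap A p.ResidueField s • μ.toLinearMap := by
    apply (fb b p).ext
    intro j
    rw [fb, Algebra.TensorProduct.basis_apply, red_tmul, mul_one, hlam, hkey,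
      LinearMap.smul_apply, smul_eq_mul, fb, Algebra.TensorProduct.basis_apply]
  have hG : G (fb b p) (red p lam) = algebraMap A p.ResidueField s • G (fb b p) μ := by
    ext i j
    simp only [G, Matrix.of_apply, Matrix.smul_apply, hred, LinearMap.smul_apply]
  refine ⟨lam, fun hmem => ?_⟩
  have h1 := det_G_red b p lam
  rw [hG, Matrix.det_smul, Ideal.algebraMap_residueField_eq_zero.2 hmem] at h1
  have hs0 : algebraMap A p.ResidueField s ≠ 0 := by
    rw [Ne, Ideal.algebraMap_residueField_eq_zero]; exact hsp
  exact mul_ne_zero (pow_ne_zero _ hs0) hdet h1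

end Fibre


end Groth.Agent.Lib.Helper83.GorFrob
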