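import Mathlib
import Groth.Agent.S9154
import Groth.Agent.S0341
import Groth.Agent.Lib.Helper33.GorLCI
import Groth.Agent.Lib.Helper29.Linkage4
import Groth.Agent.Lib.Helper83.GorFrob

set_option autoImplicit false
universe u

open CategoryTheory IsLocalRing

namespace Groth.Agent.Lib.Helper83.CIGor

open Groth.Agent.Lib.Helper33.GorLCI Groth.Agent.Lib.Helper33.GorRing
  Groth.Agent.Lib.Helper33.GorTransfer Groth.Agent.Lib.Helper29.Linkage

theorem isGorensteinRing_field (k : Type u) [Field k] : LocCoh.IsGorensteinRing k := by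
  refine ⟨fun p hp => ?_⟩
  have hle : p.primeCompl ≤ IsUnit.submonoid k := by
    intro x hx
    have hx0 : x ≠ 0 := fun h => hx (by rw [h]; exact zero_mem _)
    exact isUnit_iff_ne_zero.mpr hx0
  exact gorenstein_of_ringEquiv
    (IsLocalization.atUnits k p.primeCompl (S := Localization.AtPrime p) hle).toRingEquiv
    (gorenstein_of_field k)

theorem isCohenMacaulayRing_of_isGorensteinRing (P : Type u) [CommRing P]
    [hP : LocCoh.IsGorensteinRing P] : LocCoh.IsCohenMacaulayRing P := by
  haveI : IsNoetherianRing P := hP.1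
  refine ⟨fun p hp => ?_⟩
  haveI := hP.isGorensteinLocalRing_localization p
  exact Groth.Agent.S0341.result _

theorem ofList_ofFn {R : Type u} [CommRing R] {r : ℕ} (f : Fin r → R) :
    Ideal.ofList (List.ofFn f) = Ideal.span (Set.range f) := by
  show Ideal.span {x | x ∈ List.ofFn f} = _
  congr 1
  ext x
  simp [List.mem_ofFn]

/-- A zero-dimensional global complete intersection over a field is Gorenstein. -/
theorem isGorensteinRing_ci (k : Type u) [Field k] (n : ℕ) (f : Fin n → MvPolynomial (Fin n) k)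
    (h0 : ringKrullDim (MvPolynomial (Fin n) k ⧸ Ideal.span (Set.range f)) = 0) :
    LocCoh.IsGorensteinRing (MvPolynomial (Fin n) k ⧸ Ideal.span (Set.range f)) := by
  haveI := isGorensteinRing_field k
  haveI hP : LocCoh.IsGorensteinRing (MvPolynomial (Fin n) k) := isGorensteinRing_mvPolynomial k n
  haveI hCM := isCohenMacaulayRing_of_isGorensteinRing (MvPolynomial (Fin n) k)
  haveI : IsNoetherianRing (MvPolynomial (Fin n) k) := hP.1
  set I := Ideal.span (Set.range f) with hI
  have hIl : Ideal.ofList (List.ofFn f) = I := ofList_ofFn f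
  have hdimP : ringKrullDim (MvPolynomial (Fin n) k) = n := by
    rw [MvPolynomial.ringKrullDim_of_isNoetherianRing, ringKrullDim_eq_zero_of_field, zero_add]
    simp
  have heq : ∀ p ∈ minimalPrimes (MvPolynomial (Fin n) k),
      ringKrullDim (MvPolynomial (Fin n) k ⧸ p) = n := by
    intro p hp
    rw [IsDomain.minimalPrimes_eq_singleton_bot, Set.mem_singleton_iff] at hp
    subst hp
    rw [← hdimP]
    exact ringKrullDim_eq_of_ringEquiv (RingEquiv.quotientBot _)
  refine ⟨fun Pb hPb => ?_⟩
  obtain ⟨hp, ⟨e⟩⟩ := exists_ringEquiv_localization_quotient I Pb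
  set 𝔭 := Pb.comap (Ideal.Quotient.mk I) with h𝔭
  have hI𝔭 : I ≤ 𝔭 := fun x hx => by
    rw [h𝔭, Ideal.mem_comap, Ideal.Quotient.eq_zero_iff_mem.2 hx]; exact zero_mem _
  have hle : ringKrullDim (MvPolynomial (Fin n) k ⧸ Ideal.ofList (List.ofFn f)) ≤
      ((n - (List.ofFn f).length : ℕ) : WithBot ℕ∞) := by
    rw [hIl, h0, List.length_ofFn, Nat.sub_self]
    rfl
  obtain ⟨hreg, -⟩ := Groth.Agent.S9154.key k (MvPolynomial (Fin n) k) n heq (List.ofFn f)
    (by rw [List.length_ofFn]) hle 𝔭 (by rw [hIl]; exact hI𝔭)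
  set l := (List.ofFn f).map (algebraMap (MvPolynomial (Fin n) k) (Localization.AtPrime 𝔭)) with hl
  have hid : Ideal.ofList l = I.map (algebraMap _ (Localization.AtPrime 𝔭)) := by
    rw [hl, ← Ideal.map_ofList, hIl]
  have hmem : ∀ a ∈ l, a ∈ maximalIdeal (Localization.AtPrime 𝔭) := by
    intro a ha
    have h1 : a ∈ Ideal.ofList l := Ideal.subset_span ha
    rw [hid] at h1
    have h2 : I.map (algebraMap _ (Localization.AtPrime 𝔭)) ≤
        maximalIdeal (Localization.AtPrime 𝔭) := by
      rw [← Localization.AtPrime.map_eq_maximalIdeal]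
      exact Ideal.map_mono hI𝔭
    exact h2 h1
  have hGorR := hP.isGorensteinLocalRing_localization 𝔭
  have hQ := (gorenstein_iff_quotient_ofList l.length (Localization.AtPrime 𝔭) l rfl
    hreg.toIsWeaklyRegular hmem).mp hGorR
  exact gorenstein_of_ringEquiv ((Ideal.quotEquivOfEq hid).trans e) hQ

end Groth.Agent.Lib.Helper83.CIGor
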