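import Mathlib
import Groth.Agent.Lib.Helper56.LocalPair
import Groth.Agent.Lib.Helper4.HensSections
import Groth.Agent.Lib.Helper4.FinHensel
import Groth.Agent.Lib.Helper37.HenselLocal
import Groth.Agent.Lib.Helper37.HenselGabber

/-!
# Modulus pairs local for étale coverings (helper83; S19343)

ns `Groth.Agent.Lib.Helper83.EtLocalPair`. Builds on helper56 `LocalPair` (Zariski/blow-up local
pairs), helper4 `HensSections` (sections of étale maps over strictly henselian stalks), helper37
`HenselLocal`/`HenselGabber` (henselian via étale retractions; Gabber's criterion).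

* `henselianLocalRing_of_range_or_isUnit` : a local ring all of whose non-units come from a
  henselian local ring is henselian.
* `EtLocal`, `zarLocal_of_etLocal`, `etLocal_of_strictlyHenselian`.
* `exists_retraction_of_etLocal`, `isSepClosed_of_retractions`, `isStrictlyHenselian_of_etLocal`.
-/

set_option autoImplicit false
universe u
open CategoryTheory CategoryTheory.Limits AlgebraicGeometry TopologicalSpace
open ModPair Polynomial

namespace Groth.Agent.Lib.Helper83.EtLocalPair

open Groth.Agent.Lib.Helper56.LocalPair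

/-- a local ring `B` receiving a map from a henselian local ring `A` whose image contains all
non-units of `B` is henselian (Gabber: henselianity of a pair depends only on the ideal) -/
theorem henselianLocalRing_of_range_or_isUnit {A B : Type*} [CommRing A] [CommRing B]
    [HenselianLocalRing A] [IsLocalRing B] (ρ : A →+* B)
    (hρ : ∀ b : B, b ∈ Set.range ρ ∨ IsUnit b) : HenselianLocalRing B := by
  have hG : HenselianRing B (IsLocalRing.maximalIdeal B) := by
    apply Groth.Agent.Lib.Helper37.henselianRing_of_gabber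
    · exact IsLocalRing.maximalIdeal_le_jacobson ⊥
    · intro n hn p hpn hpI
      have hlift : p ∈ Polynomial.lifts ρ := by
        rw [Polynomial.lifts_iff_coeff_lifts]
        intro i
        rcases hρ (p.coeff i) with h | hu
        · exact h
        · exact absurd hu ((IsLocalRing.mem_maximalIdeal _).mp (hpI i))
      obtain ⟨q, hq, hqdeg⟩ := Polynomial.mem_lifts_and_degree_eq hlift
      have hqn : q.natDegree ≤ n := by
        rw [Polynomial.natDegree_eq_of_degree_eq hqdeg]; exact hpn
      have hqI : ∀ i, q.coeff i ∈ IsLocalRing.maximalIdeal A := by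
        intro i
        rw [IsLocalRing.mem_maximalIdeal]
        intro hu
        have h1 : ρ (q.coeff i) = p.coeff i := by rw [← hq, Polynomial.coeff_map]
        have h2 := hpI i
        rw [← h1, IsLocalRing.mem_maximalIdeal] at h2
        exact h2 (hu.map ρ)
      obtain ⟨α, ⟨hα1, hα2⟩, -⟩ :=
        Groth.Agent.Lib.Helper37.gabber_of_henselianRing (IsLocalRing.maximalIdeal A) n q hqn hqI
      have hαu : IsUnit α := by
        have h1 : α = 1 + (α - 1) := by ring
        by_contra hnu
        have h2 : α ∈ IsLocalRing.maximalIdeal A := (IsLocalRing.mem_maximalIdeal _).mpr hnu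
        have h3 : (1 : A) ∈ IsLocalRing.maximalIdeal A := by
          have : (1 : A) = α - (α - 1) := by ring
          rw [this]
          exact Ideal.sub_mem _ h2 hα1
        exact (Ideal.ne_top_iff_one _).mp (IsLocalRing.maximalIdeal.isMaximal A).ne_top h3
      have hroot : IsRoot (X ^ n * (X - 1) + p) (ρ α) := by
        have := hα2.map (f := ρ)
        simpa [hq] using this
      refine ⟨ρ α, ?_, hroot⟩
      have hev : (ρ α) ^ n * (ρ α - 1) + p.eval (ρ α) = 0 := by
        have := hroot
        simpa [Polynomial.IsRoot.def] using this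
      have hpe : p.eval (ρ α) ∈ IsLocalRing.maximalIdeal B := by
        rw [Polynomial.eval_eq_sum_range]
        exact Ideal.sum_mem _ (fun i _ => Ideal.mul_mem_right _ _ (hpI i))
      have h4 : (ρ α) ^ n * (ρ α - 1) ∈ IsLocalRing.maximalIdeal B := by
        have : (ρ α) ^ n * (ρ α - 1) = - p.eval (ρ α) := by linear_combination hev
        rw [this]
        exact neg_mem hpe
      exact (Ideal.unit_mul_mem_iff_mem _ ((hαu.map ρ).pow n)).mp h4
  exact { is_henselian := fun f hf a₀ h₁ h₂ => hG.is_henselian f hf a₀ h₁ (h₂.map _) }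

variable (P : ModPair.Pair.{u})

/-- locality for étale coverings of modulus pairs -/
def EtLocal : Prop :=
  ∀ (X : ModPair.Pair.{u}) (ι : Type u) (U : ι → ModPair.Pair.{u}) (v : ∀ i, U i ⟶ X),
    (∀ i, ModPair.IsMinimal (U i).mod X.mod (v i).hom ∧ Etale (v i).hom ∧
      QuasiCompact (v i).hom ∧ QuasiSeparated (v i).hom) →
    (∀ x : X.total, ∃ (i : ι) (y : (U i).total), (v i).hom.base y = x) →
    ∀ g : P ⟶ X, ∃ (i : ι) (h : P ⟶ U i), h ≫ v i = g

variable {P}

theorem zarLocal_of_etLocal (h : EtLocal P) : ZarLocal P := by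
  intro X ι U v hv hsurj g
  refine h X ι U v (fun i => ?_) hsurj g
  obtain ⟨h1, h2, h3⟩ := hv i
  exact ⟨h1, inferInstance, h3, inferInstance⟩

/-- the stalk of `Spec A` at the closed point of a local ring is `A` -/
theorem nonempty_stalkEquiv (A : Type u) [CommRing A] [IsLocalRing A]
    (y : Spec (CommRingCat.of A)) (hy : y = IsLocalRing.closedPoint A) :
    Nonempty (A ≃+* (Spec (CommRingCat.of A)).presheaf.stalk y) := by
  subst hy
  letI : Algebra A ((Spec (CommRingCat.of A)).presheaf.stalk (IsLocalRing.closedPoint A)) :=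
    StructureSheaf.stalkAlgebra (R := A) (IsLocalRing.closedPoint A)
  haveI : IsLocalization.AtPrime
      ((Spec (CommRingCat.of A)).presheaf.stalk (IsLocalRing.closedPoint A))
      (IsLocalRing.closedPoint A).asIdeal :=
    StructureSheaf.IsLocalization.to_stalk (R := A) (IsLocalRing.closedPoint A)
  have hM : (IsLocalRing.closedPoint A).asIdeal.primeCompl ≤ IsUnit.submonoid A := by
    intro a ha
    by_contra hu
    exact ha ((IsLocalRing.mem_maximalIdeal a).mpr hu)
  exact ⟨(IsLocalization.atUnits A (IsLocalRing.closedPoint A).asIdeal.primeCompl hM).toRingEquiv⟩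

theorem etLocal_of_strictlyHenselian [IsAffine P.total] [IsLocalRing Γ(P.total, ⊤)]
    (hH : EtCoh.IsStrictlyHenselianLocalRing Γ(P.total, ⊤)) : EtLocal P := by
  intro X ι U v hv hsurj g
  obtain ⟨i, y, hy⟩ := hsurj (g.hom (closedPt P.total))
  obtain ⟨hmin, het, -, -⟩ := hv i
  let A : Type u := Γ(P.total, ⊤)
  let e : P.total ≅ Spec (CommRingCat.of A) := P.total.isoSpec
  let g' : Spec (CommRingCat.of A) ⟶ X.total := e.inv ≫ g.hom
  have hg' : g' (IsLocalRing.closedPoint A) = (v i).hom y := by
    rw [hy]; rfl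
  obtain ⟨z, hz1, hz2⟩ := Scheme.Pullback.exists_preimage_pullback
    (f := g') (g := (v i).hom) (IsLocalRing.closedPoint A) y hg'
  let f : pullback g' (v i).hom ⟶ Spec (CommRingCat.of A) := pullback.fst g' (v i).hom
  haveI := het
  haveI : Etale f := by show Etale (pullback.fst g' (v i).hom); infer_instance
  obtain ⟨eq⟩ := nonempty_stalkEquiv A (f z) hz1
  have hS : EtCoh.IsStrictlyHenselianLocalRing
      ((Spec (CommRingCat.of A)).presheaf.stalk (f z)) :=
    Groth.Agent.Lib.Helper4.AlgRes.isStrictlyHenselianLocalRing_of_ringEquiv eq hH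
  obtain ⟨W, hxW, h, hfac, -⟩ :=
    Groth.Agent.Lib.Helper4.HensSections.exists_section_of_strictlyHenselian f z hS
  have hW : W = ⊤ := by
    rw [eq_top_iff]
    intro x _
    have hsp : x ⤳ IsLocalRing.closedPoint A := IsLocalRing.specializes_closedPoint x
    exact hsp.mem_open W.isOpen (hz1 ▸ hxW)
  subst hW
  let s : Spec (CommRingCat.of A) ⟶ pullback g' (v i).hom := (Scheme.topIso _).inv ≫ h
  have hs : s ≫ f = 𝟙 _ := by
    show ((Scheme.topIso _).inv ≫ h) ≫ f = 𝟙 _
    rw [Category.assoc, hfac, ← Scheme.topIso_hom, Iso.inv_hom_id]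
  let h₀ : P.total ⟶ (U i).total := e.hom ≫ s ≫ pullback.snd g' (v i).hom
  have hfac' : h₀ ≫ (v i).hom = g.hom := by
    show (e.hom ≫ s ≫ pullback.snd g' (v i).hom) ≫ (v i).hom = g.hom
    rw [Category.assoc, Category.assoc, ← pullback.condition]
    show e.hom ≫ s ≫ f ≫ g' = g.hom
    rw [reassoc_of% hs]
    show e.hom ≫ e.inv ≫ g.hom = g.hom
    rw [Iso.hom_inv_id_assoc]
  refine ⟨i, ⟨h₀, ?_⟩, ModPair.Pair.Hom.ext hfac'⟩
  show P.mod ≤ (U i).mod.comap h₀
  have hmin' : (U i).mod = X.mod.comap (v i).hom := hmin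
  rw [hmin', ← Scheme.IdealSheafData.comap_comp, hfac']
  exact g.cond


section retraction

variable [IsAffine P.total] [IsLocalRing Γ(P.total, ⊤)]

theorem exists_retraction_of_etLocal (hE : EtLocal P) (S : Type u) [CommRing S]
    [Algebra Γ(P.total, ⊤) S] [Algebra.Etale Γ(P.total, ⊤) S] (q : Ideal S) [q.IsPrime]
    (hq : q.LiesOver (IsLocalRing.maximalIdeal Γ(P.total, ⊤))) :
    Nonempty (S →ₐ[Γ(P.total, ⊤)] Γ(P.total, ⊤)) := by
  let A : Type u := Γ(P.total, ⊤)
  let e : P.total ≅ Spec (CommRingCat.of A) := P.total.isoSpec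
  let φ : CommRingCat.of A ⟶ CommRingCat.of S := CommRingCat.ofHom (algebraMap A S)
  let v₀ : Spec (CommRingCat.of S) ⟶ P.total := Spec.map φ ≫ e.inv
  haveI hφet : Etale (Spec.map φ) := by
    rw [HasRingHomProperty.Spec_iff (P := @Etale)]
    exact RingHom.etale_algebraMap.mpr inferInstance
  haveI : Etale v₀ := by show Etale (Spec.map φ ≫ e.inv); infer_instance
  haveI : Flat v₀ := inferInstance
  haveI : QuasiCompact v₀ := by show QuasiCompact (Spec.map φ ≫ e.inv); infer_instance
  haveI : QuasiSeparated v₀ := by show QuasiSeparated (Spec.map φ ≫ e.inv); infer_instance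
  let U₀ : ModPair.Pair.{u} := ⟨Spec (CommRingCat.of S), P.mod.comap v₀,
    Groth.Agent.Lib.BlowUp.isEffCartierIdeal_comap_of_flat v₀ P.mod P.isEffCartier⟩
  let I : Type u := Option {W : P.total.affineOpens // closedPt P.total ∉ W.1}
  let U : I → ModPair.Pair.{u} := fun i => match i with
    | none => U₀
    | some W => restrict P W.1.1
  let v : ∀ i, U i ⟶ P := fun i => match i with
    | none => ⟨v₀, le_rfl⟩
    | some W => restrictι P W.1.1
  obtain ⟨i, h, hw⟩ := hE P I U v
    (fun i => by
      match i with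
      | none => exact ⟨rfl, ‹Etale v₀›, ‹QuasiCompact v₀›, ‹QuasiSeparated v₀›⟩
      | some W =>
        have : IsAffine ((W.1.1 : P.total.Opens) : Scheme.{u}) := W.1.2
        exact ⟨rfl, (inferInstance : Etale W.1.1.ι), (inferInstance : QuasiCompact W.1.1.ι),
          (inferInstance : QuasiSeparated W.1.1.ι)⟩)
    (fun x => by
      by_cases hx : x = closedPt P.total
      · let y₀ : Spec (CommRingCat.of S) := (⟨q, inferInstance⟩ : PrimeSpectrum S)
        refine ⟨none, y₀, ?_⟩
        have h1 : Spec.map φ y₀ = IsLocalRing.closedPoint A := by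
          apply PrimeSpectrum.ext
          show Ideal.comap (algebraMap A S) q = IsLocalRing.maximalIdeal A
          exact hq.over.symm
        show (Spec.map φ ≫ e.inv) y₀ = x
        rw [hx]
        show e.inv (Spec.map φ y₀) = e.inv (IsLocalRing.closedPoint A)
        rw [h1]
      · have hopen : IsOpen ({closedPt P.total}ᶜ : Set P.total) :=
          (isClosed_singleton_closedPt P.total).isOpen_compl
        obtain ⟨_, ⟨W, hW, rfl⟩, hxW, hsub⟩ :=
          (Scheme.isBasis_affineOpens P.total).exists_subset_of_mem_open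
            (show x ∈ ({closedPt P.total}ᶜ : Set P.total) from hx) hopen
        exact ⟨some ⟨⟨W, hW⟩, fun hc => hsub hc rfl⟩, ⟨x, hxW⟩, rfl⟩)
    (𝟙 P)
  rcases i with _ | W
  rotate_left
  · exfalso
    let h' : P.total ⟶ ((W.1.1 : P.total.Opens) : Scheme.{u}) := h.hom
    have hw' : h' ≫ W.1.1.ι = 𝟙 P.total := congrArg ModPair.Pair.Hom.hom hw
    have h1 : closedPt P.total = W.1.1.ι (h' (closedPt P.total)) := by
      rw [← Scheme.Hom.comp_apply, hw']
      rfl
    have hmem : W.1.1.ι (h' (closedPt P.total)) ∈ W.1.1 := (h' (closedPt P.total)).2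
    rw [← h1] at hmem
    exact W.2 hmem
  · have hw' : h.hom ≫ v₀ = 𝟙 P.total := congrArg ModPair.Pair.Hom.hom hw
    let σ : P.total ⟶ Spec (CommRingCat.of S) := h.hom
    let ψ : CommRingCat.of S ⟶ CommRingCat.of A := Spec.preimage (e.inv ≫ σ)
    have hψ : Spec.map ψ = e.inv ≫ σ := Spec.map_preimage _
    have hcomp : φ ≫ ψ = 𝟙 _ := by
      apply Spec.map_injective
      rw [Spec.map_comp, hψ, Spec.map_id, Category.assoc]
      have h2 : σ ≫ Spec.map φ = e.hom := by
        have h3 : (σ ≫ Spec.map φ) ≫ e.inv = 𝟙 P.total := by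
          rw [Category.assoc]; exact hw'
        rw [← cancel_mono e.inv, h3, Iso.hom_inv_id]
      rw [h2, Iso.inv_hom_id]
    refine ⟨{ toRingHom := ψ.hom, commutes' := fun a => ?_ }⟩
    have := congrArg (fun k => k.hom a) hcomp
    exact this

end retraction


section strict

variable [IsAffine P.total] [IsLocalRing Γ(P.total, ⊤)]

theorem isSepClosed_of_retractions (A : Type u) [CommRing A] [IsLocalRing A]
    (hret : ∀ (S : Type u) [CommRing S] [Algebra A S] [Algebra.Etale A S] (q : Ideal S) [q.IsPrime],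
      q.LiesOver (IsLocalRing.maximalIdeal A) → Nonempty (S →ₐ[A] A)) :
    IsSepClosed (IsLocalRing.ResidueField A) := by
  apply IsSepClosed.of_exists_root
  intro p hpm hpi hps
  have hlifts : p ∈ Polynomial.lifts (IsLocalRing.residue A) :=
    Polynomial.map_surjective _ IsLocalRing.residue_surjective p |>.elim
      (fun F hF => (Polynomial.mem_lifts p).mpr ⟨F, hF⟩)
  obtain ⟨F, hF, -, hFm⟩ := Polynomial.lifts_and_degree_eq_and_monic hlifts hpm
  let E : StandardEtalePair A := ⟨F, hFm, derivative F, ⟨1, 0, 1, by simp⟩⟩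
  haveI : Fact (Irreducible p) := ⟨hpi⟩
  let k := IsLocalRing.ResidueField A
  let K := AdjoinRoot p
  haveI : IsScalarTower A k K := inferInstance
  let x : K := AdjoinRoot.root p
  have hFk : F.map (algebraMap A k) = p := hF
  have hx0 : aeval x p = 0 := by
    rw [AdjoinRoot.aeval_eq, AdjoinRoot.mk_self]
  have hx1 : aeval x (derivative p) ≠ 0 := by
    obtain ⟨a, b, hab⟩ := hps
    intro h0
    have := congrArg (aeval x) hab
    simp only [map_add, map_mul, hx0, h0, mul_zero, add_zero, map_one] at this
    exact zero_ne_one this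
  have hmap : E.HasMap x := by
    refine ⟨?_, ?_⟩
    · show aeval x F = 0
      rw [← Polynomial.aeval_map_algebraMap k, hFk]
      exact hx0
    · show IsUnit (aeval x (derivative F))
      rw [← Polynomial.aeval_map_algebraMap k, ← Polynomial.derivative_map, hFk]
      exact isUnit_iff_ne_zero.mpr hx1
  let θ : E.Ring →ₐ[A] K := E.lift x hmap
  let q : Ideal E.Ring := RingHom.ker θ.toRingHom
  haveI : q.IsPrime := RingHom.ker_isPrime θ.toRingHom
  have hq : q.LiesOver (IsLocalRing.maximalIdeal A) := by
    constructor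
    ext a
    show a ∈ IsLocalRing.maximalIdeal A ↔ θ (algebraMap A E.Ring a) = 0
    rw [θ.commutes]
    show _ ↔ algebraMap k K (algebraMap A k a) = 0
    rw [map_eq_zero_iff _ (algebraMap k K).injective]
    exact (IsLocalRing.residue_eq_zero_iff a).symm
  obtain ⟨r⟩ := hret E.Ring q hq
  have hr := E.hasMap_X.map r
  refine ⟨IsLocalRing.residue A (r E.X), ?_⟩
  have h1 : aeval (r E.X) F = 0 := hr.1
  have h2 : F.eval (r E.X) = 0 := by
    rw [← h1]; exact (Polynomial.coe_aeval_eq_eval (r E.X) ▸ rfl)
  rw [← hF, Polynomial.eval_map, Polynomial.eval₂_at_apply, h2, map_zero]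

theorem isStrictlyHenselian_of_etLocal (hE : EtLocal P) :
    EtCoh.IsStrictlyHenselianLocalRing Γ(P.total, ⊤) := by
  have hH : HenselianLocalRing Γ(P.total, ⊤) :=
    Groth.Agent.Lib.Helper37.henselianLocalRing_of_etale_retraction _
      (fun S _ _ _ q _ hq _ => exists_retraction_of_etLocal hE S q hq)
  exact ⟨hH, isSepClosed_of_retractions _
    (fun S _ _ _ q _ hq => exists_retraction_of_etLocal hE S q hq)⟩

end strict

end Groth.Agent.Lib.Helper83.EtLocalPair
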