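import Mathlib

set_option autoImplicit false
universe u

namespace Groth.Agent.Lib.Helper83.ExtPowQuot

open Module Set

variable {A : Type u} [CommRing A]

/-- positive exterior powers are killed by anything that kills the module -/
theorem smul_eq_zero_of_kills (M : Type u) [AddCommGroup M] [Module A M] (a : A)
    (ha : ∀ x : M, a • x = 0) (k : ℕ) (z : ⋀[A]^(k + 1) M) : a • z = 0 := by
  have h : (a • LinearMap.id : ⋀[A]^(k + 1) M →ₗ[A] ⋀[A]^(k + 1) M) = 0 := by
    apply exteriorPower.linearMap_ext
    ext v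
    simp only [LinearMap.compAlternatingMap_apply, LinearMap.smul_apply, LinearMap.id_coe, id_eq,
      LinearMap.zero_apply]
    have h1 : a • exteriorPower.ιMulti A (k + 1) v =
        exteriorPower.ιMulti A (k + 1) (Function.update v 0 (a • v 0)) := by
      rw [AlternatingMap.map_update_smul, Function.update_eq_self]
    rw [h1, ha]
    exact AlternatingMap.map_update_zero _ _ _
  exact LinearMap.congr_fun h z

variable (c : Ideal A) (m k : ℕ)

/-- the `s`-minor as an alternating map -/
noncomputable def minorAlt (s : powersetCard (Fin m) (k + 1)) :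
    (Fin m → A ⧸ c) [⋀^Fin (k + 1)]→ₗ[A] (A ⧸ c) :=
  { (((exteriorPower.ιMultiDual (A ⧸ c) (k + 1) (Pi.basisFun (A ⧸ c) (Fin m)) s).compAlternatingMap
      (exteriorPower.ιMulti (A ⧸ c) (k + 1))).toMultilinearMap.restrictScalars A) with
    map_eq_zero_of_eq' := ((exteriorPower.ιMultiDual (A ⧸ c) (k + 1)
      (Pi.basisFun (A ⧸ c) (Fin m)) s).compAlternatingMap
      (exteriorPower.ιMulti (A ⧸ c) (k + 1))).map_eq_zero_of_eq' }

/-- the `s`-minor as a linear form on `⋀_A^i ((A/c)^m)` -/
noncomputable def minor (s : powersetCard (Fin m) (k + 1)) :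
    ⋀[A]^(k + 1) (Fin m → A ⧸ c) →ₗ[A] A ⧸ c :=
  exteriorPower.alternatingMapLinearEquiv (minorAlt c m k s)

theorem minor_ιMulti (s : powersetCard (Fin m) (k + 1)) (v : Fin (k + 1) → (Fin m → A ⧸ c)) :
    minor c m k s (exteriorPower.ιMulti A (k + 1) v) =
      exteriorPower.ιMultiDual (A ⧸ c) (k + 1) (Pi.basisFun (A ⧸ c) (Fin m)) s
        (exteriorPower.ιMulti (A ⧸ c) (k + 1) v) := by
  unfold minor
  rw [exteriorPower.alternatingMapLinearEquiv_apply_ιMulti]
  rfl

/-- all minors -/
noncomputable def minors :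
    ⋀[A]^(k + 1) (Fin m → A ⧸ c) →ₗ[A] (powersetCard (Fin m) (k + 1) → A ⧸ c) :=
  LinearMap.pi (minor c m k)

/-- the reduction map `A^m → (A/c)^m` -/
noncomputable def red : (Fin m → A) →ₗ[A] (Fin m → A ⧸ c) := (Submodule.mkQ c).compLeft (Fin m)

theorem red_basisFun (j : Fin m) : red c m (Pi.basisFun A (Fin m) j) = Pi.basisFun (A ⧸ c) (Fin m) j := by
  ext l
  simp only [red, LinearMap.compLeft_apply, Function.comp_apply, Pi.basisFun_apply, Pi.single_apply]
  split_ifs <;> simp

theorem minors_map_basis (t : powersetCard (Fin m) (k + 1)) :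
    minors c m k (exteriorPower.map (k + 1) (red c m) ((Pi.basisFun A (Fin m)).exteriorPower (k + 1) t)) =
      Pi.single t 1 := by
  ext s
  rw [exteriorPower.basis_apply, exteriorPower.map_apply_ιMulti_family]
  simp only [minors, LinearMap.pi_apply]
  rw [exteriorPower.ιMulti_family, minor_ιMulti]
  have h1 : (fun i => (red c m ∘ (Pi.basisFun A (Fin m))) ((powersetCard.ofFinEmbEquiv.symm t) i)) =
      fun i => (Pi.basisFun (A ⧸ c) (Fin m)) ((powersetCard.ofFinEmbEquiv.symm t) i) := by
    ext i : 1
    exact red_basisFun c m _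
  by_cases hst : s = t
  · subst hst
    rw [Pi.single_eq_same]
    have := exteriorPower.ιMultiDual_apply_diag (A ⧸ c) (k + 1) (Pi.basisFun (A ⧸ c) (Fin m)) s
    rw [exteriorPower.ιMulti_family] at this
    rw [← this]
    congr 1
    exact congrArg _ h1
  · rw [Pi.single_eq_of_ne hst]
    have := exteriorPower.ιMultiDual_apply_nondiag (A ⧸ c) (k + 1) (Pi.basisFun (A ⧸ c) (Fin m)) s t hst
    rw [exteriorPower.ιMulti_family] at this
    rw [← this]
    congr 1
    exact congrArg _ h1

theorem minors_comp_map :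
    minors c m k ∘ₗ exteriorPower.map (k + 1) (red c m) =
      ((Submodule.mkQ c).compLeft (powersetCard (Fin m) (k + 1))) ∘ₗ
        ((Pi.basisFun A (Fin m)).exteriorPower (k + 1)).equivFun.toLinearMap := by
  apply ((Pi.basisFun A (Fin m)).exteriorPower (k + 1)).ext
  intro t
  rw [LinearMap.comp_apply, minors_map_basis, LinearMap.comp_apply, LinearEquiv.coe_coe]
  ext s
  classical
  rw [LinearMap.compLeft_apply, Function.comp_apply, Basis.equivFun_self, Pi.single_apply]
  by_cases hst : s = t
  · subst hst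
    rw [if_pos rfl, if_pos rfl]
    rfl
  · rw [if_neg hst, if_neg (fun h => hst h.symm), map_zero]

theorem smul_pi_eq_zero {a : A} (ha : a ∈ c) (v : Fin m → A ⧸ c) : a • v = 0 := by
  ext j
  obtain ⟨y, hy⟩ := Ideal.Quotient.mk_surjective (v j)
  rw [Pi.smul_apply, Pi.zero_apply, ← hy, ← Ideal.Quotient.mk_eq_mk, ← Submodule.Quotient.mk_smul,
    Submodule.Quotient.mk_eq_zero]
  exact c.mul_mem_right y ha

theorem minors_bijective : Function.Bijective (minors c m k) := by
  have hcomp := minors_comp_map c m k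
  constructor
  · rw [← LinearMap.ker_eq_bot, LinearMap.ker_eq_bot']
    intro x hx
    obtain ⟨y, rfl⟩ := exteriorPower.map_surjective (n := k + 1) (f := red c m) (by
      intro v
      choose w hw using fun j => Ideal.Quotient.mk_surjective (v j)
      exact ⟨w, funext hw⟩) x
    have h1 := LinearMap.congr_fun hcomp y
    rw [LinearMap.comp_apply, hx, LinearMap.comp_apply] at h1
    have h2 : ∀ s, ((Pi.basisFun A (Fin m)).exteriorPower (k + 1)).repr y s ∈ c := by
      intro s
      have := congrFun h1 s
      rw [LinearMap.compLeft_apply, Function.comp_apply, Pi.zero_apply] at this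
      rw [← Submodule.Quotient.mk_eq_zero]
      exact this.symm
    rw [← ((Pi.basisFun A (Fin m)).exteriorPower (k + 1)).sum_repr y, map_sum]
    apply Finset.sum_eq_zero
    intro s _
    rw [map_smul]
    exact smul_eq_zero_of_kills _ _ (smul_pi_eq_zero c m (h2 s)) k _
  · have h2 : Function.Surjective (minors c m k ∘ₗ exteriorPower.map (k + 1) (red c m)) := by
      rw [hcomp, LinearMap.coe_comp]
      refine Function.Surjective.comp ?_ (LinearEquiv.surjective _)
      intro v
      choose w hw using fun j => Submodule.mkQ_surjective c (v j)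
      exact ⟨w, funext hw⟩
    rw [LinearMap.coe_comp] at h2
    exact Function.Surjective.of_comp h2

/-- **Exterior powers of a free module over a cyclic module.** -/
theorem nonempty_equiv :
    Nonempty (⋀[A]^(k + 1) (Fin m → A ⧸ c) ≃ₗ[A] (Fin (Nat.choose m (k + 1)) → A ⧸ c)) := by
  have hcard : Nat.card (powersetCard (Fin m) (k + 1)) = Nat.choose m (k + 1) := by
    rw [Set.powersetCard.card, Nat.card_fin]
  exact ⟨LinearEquiv.ofBijective (minors c m k) (minors_bijective c m k) ≪≫ₗ
    LinearEquiv.funCongrLeft A (A ⧸ c) (Finite.equivFinOfCardEq hcard).symm⟩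

/-- exterior powers of linearly equivalent modules -/
noncomputable def mapEquiv {M N : Type u} [AddCommGroup M] [Module A M] [AddCommGroup N] [Module A N]
    (n : ℕ) (e : M ≃ₗ[A] N) : ⋀[A]^n M ≃ₗ[A] ⋀[A]^n N :=
  LinearEquiv.ofLinear (exteriorPower.map n e.toLinearMap) (exteriorPower.map n e.symm.toLinearMap)
    (by rw [← exteriorPower.map_comp, LinearEquiv.comp_symm, exteriorPower.map_id])
    (by rw [← exteriorPower.map_comp, LinearEquiv.symm_comp, exteriorPower.map_id])

end Groth.Agent.Lib.Helper83.ExtPowQuot
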