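import Mathlib
import Groth.Agent.Lib.Helper2.LocalCriterion

/-!
# Flatness over an extension ring from flatness over the base (helper83)

* `rTensor_map_subtype_injective`: if `M` is an `R'`-module which is flat over `R` (`R → R'` any
  ring map), then for every ideal `J` of `R` the map `JR' ⊗[R'] M → R' ⊗[R'] M` is injective.
* `flat_of_flat_of_map_eq_maximalIdeal`: local criterion consequence: `R → S` local homomorphism of
  Noetherian local rings, `S` flat over `A`, and `m_R = J R` for an ideal `J` of `A` ⇒ `S` flat
  over `R`.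
-/

set_option autoImplicit false

namespace Groth.Agent.Lib.Helper83.FlatExt

open TensorProduct Function

section Tensor

variable {R R' M : Type*} [CommRing R] [CommRing R'] [Algebra R R'] [AddCommGroup M]
  [Module R M] [Module R' M] [IsScalarTower R R' M]

/-- The inclusion `J → JR'` as an `R`-linear map. -/
noncomputable def inclMap (J : Ideal R) : J →ₗ[R] ↥(J.map (algebraMap R R')) where
  toFun j := ⟨algebraMap R R' j, Ideal.mem_map_of_mem _ j.2⟩
  map_add' x y := by
    apply Subtype.ext
    simp
  map_smul' r x := by
    apply Subtype.ext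
    simp [Algebra.smul_def]

/-- The comparison map `J ⊗[R] M → JR' ⊗[R'] M`. -/
noncomputable def compMap (J : Ideal R) :
    (J ⊗[R] M) →ₗ[R] (↥(J.map (algebraMap R R')) ⊗[R'] M) :=
  (TensorProduct.mapOfCompatibleSMul R' R R ↥(J.map (algebraMap R R')) M) ∘ₗ
    (LinearMap.rTensor M (inclMap (R' := R') J))

theorem compMap_tmul (J : Ideal R) (j : J) (m : M) :
    compMap (R' := R') (M := M) J (j ⊗ₜ[R] m) =
      (⟨algebraMap R R' j, Ideal.mem_map_of_mem _ j.2⟩ : ↥(J.map (algebraMap R R'))) ⊗ₜ[R'] m :=
  rfl

theorem compMap_surjective (J : Ideal R) : Surjective (compMap (R' := R') (M := M) J) := by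
  have key : ∀ (a : R') (ha : a ∈ J.map (algebraMap R R')) (m : M),
      (⟨a, ha⟩ : ↥(J.map (algebraMap R R'))) ⊗ₜ[R'] m ∈
        LinearMap.range (compMap (R' := R') (M := M) J) := by
    intro a ha
    refine Submodule.span_induction
      (p := fun a ha => ∀ m : M, (⟨a, ha⟩ : ↥(J.map (algebraMap R R'))) ⊗ₜ[R'] m ∈
        LinearMap.range (compMap (R' := R') (M := M) J)) ?_ ?_ ?_ ?_ ha
    · rintro _ ⟨j, hj, rfl⟩ m
      exact ⟨(⟨j, hj⟩ : J) ⊗ₜ[R] m, rfl⟩
    · intro m
      have : (⟨0, Submodule.zero_mem _⟩ : ↥(J.map (algebraMap R R'))) = 0 := rfl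
      rw [this, TensorProduct.zero_tmul]
      exact Submodule.zero_mem _
    · intro x y hx hy h1 h2 m
      have : (⟨x + y, Submodule.add_mem _ hx hy⟩ : ↥(J.map (algebraMap R R'))) =
          ⟨x, hx⟩ + ⟨y, hy⟩ := rfl
      rw [this, TensorProduct.add_tmul]
      exact Submodule.add_mem _ (h1 m) (h2 m)
    · intro r x hx h1 m
      have : (⟨r • x, Submodule.smul_mem _ r hx⟩ : ↥(J.map (algebraMap R R'))) =
          r • ⟨x, hx⟩ := rfl
      rw [this, TensorProduct.smul_tmul]
      exact h1 (r • m)
  intro x
  induction x with
  | zero => exact ⟨0, map_zero _⟩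
  | add x y hx hy =>
    obtain ⟨x', rfl⟩ := hx
    obtain ⟨y', rfl⟩ := hy
    exact ⟨x' + y', map_add _ _ _⟩
  | tmul a m => exact key a.1 a.2 m

/-- If `M` is an `R'`-module which is flat over `R`, then for every ideal `J` of `R` the map
`JR' ⊗[R'] M → R' ⊗[R'] M` is injective (no flatness of `R'` over `R` is needed). -/
theorem rTensor_map_subtype_injective [Module.Flat R M] (J : Ideal R) :
    Injective (LinearMap.rTensor M (J.map (algebraMap R R')).subtype) := by
  rw [injective_iff_map_eq_zero]
  intro x hx
  obtain ⟨y, rfl⟩ := compMap_surjective (R' := R') (M := M) J x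
  have hflat : Injective (LinearMap.rTensor M J.subtype) :=
    Module.Flat.rTensor_preserves_injective_linearMap _ J.subtype_injective
  -- compare the two composites to `M`
  have hcomm : ∀ y : J ⊗[R] M,
      TensorProduct.lid R' M (LinearMap.rTensor M (J.map (algebraMap R R')).subtype
        (compMap (R' := R') (M := M) J y)) =
      TensorProduct.lid R M (LinearMap.rTensor M J.subtype y) := by
    intro y
    induction y with
    | zero => simp
    | add x y hx hy => simp only [map_add, hx, hy]
    | tmul j m =>
      rw [compMap_tmul]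
      simp
  have h0 : LinearMap.rTensor M J.subtype y = 0 := by
    apply (TensorProduct.lid R M).injective
    rw [← hcomm, hx, map_zero, map_zero]
  have : y = 0 := hflat (by rw [h0, map_zero])
  rw [this, map_zero]

end Tensor

section Local

universe u

variable {A R S : Type u} [CommRing A] [CommRing R] [CommRing S] [Algebra A R] [Algebra A S]
  [Algebra R S] [IsScalarTower A R S]

/-- `R → S` a local homomorphism of Noetherian local rings, `S` flat over `A` and the maximal ideal
of `R` extended from an ideal of `A`: then `S` is flat over `R`. -/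
theorem flat_of_flat_of_map_eq_maximalIdeal [IsNoetherianRing R] [IsNoetherianRing S]
    [IsLocalRing R] [IsLocalRing S] [IsLocalHom (algebraMap R S)] [Module.Flat A S]
    (J : Ideal A) (hJ : J.map (algebraMap A R) = IsLocalRing.maximalIdeal R) :
    Module.Flat R S := by
  have hmax : (J.map (algebraMap A R)).IsMaximal := hJ ▸ IsLocalRing.maximalIdeal.isMaximal R
  apply Groth.Agent.Lib.Helper2.flat_of_rTensor_injective_of_flat_quotient (S := S)
    (J.map (algebraMap A R))
  · rw [hJ, IsLocalRing.jacobson_eq_maximalIdeal ⊥ bot_ne_top]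
    exact ((IsLocalRing.local_hom_TFAE (algebraMap R S)).out 0 2).mp ‹IsLocalHom (algebraMap R S)›
  · exact rTensor_map_subtype_injective (R := A) (R' := R) (M := S) J
  · let _ := Ideal.Quotient.field (J.map (algebraMap A R))
    infer_instance

end Local

end Groth.Agent.Lib.Helper83.FlatExt
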