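import Mathlib.RingTheory.Flat.Localization
import Mathlib.RingTheory.Localization.BaseChange
import Mathlib.RingTheory.IsTensorProduct

/-!
Flatness and localization at a submonoid of an algebra.
-/

set_option autoImplicit false

namespace Groth.Agent.Lib.Helper83

open TensorProduct

section L1
variable {R A : Type*} [CommRing R] [CommRing A] [Algebra R A]
  {P P' : Type*} [AddCommGroup P] [AddCommGroup P'] [Module A P] [Module A P'] [Module R P]
  [Module R P'] [IsScalarTower R A P] [IsScalarTower R A P']

/-- If `P` is an `A`-module flat over `R` and `P'` is a localization of `P` at a submonoid of `A`,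
then `P'` is flat over `R`. -/
theorem flat_of_isLocalizedModule_tower (T : Submonoid A) (g : P →ₗ[A] P') [IsLocalizedModule T g]
    [Module.Flat R P] : Module.Flat R P' := by
  have H := (Module.Flat.iff_lTensor_injectiveₛ (R := R) (M := P)).mp inferInstance
  rw [Module.Flat.iff_lTensor_injectiveₛ]
  intro N _ _ N'
  have h1 := H N'
  rw [← AlgebraTensorModule.coe_lTensor (A := A)] at h1 ⊢
  rw [← IsLocalizedModule.map_lTensor A T N'.subtype g]
  exact IsLocalizedModule.map_injective T _ _ _ h1

end L1

section BaseChangeLoc
variable {S S' : Type*} [CommRing S] [CommRing S'] [Algebra S S']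
  {M Mq : Type*} [AddCommGroup M] [AddCommGroup Mq] [Module S M] [Module S Mq]

/-- The base change of a localization map is a localization map at the image submonoid. -/
theorem isLocalizedModule_baseChange (T : Submonoid S) (g : M →ₗ[S] Mq) [IsLocalizedModule T g] :
    IsLocalizedModule (Algebra.algebraMapSubmonoid S' T) (g.baseChange S') := by
  have h1 : IsLocalizedModule T (AlgebraTensorModule.rTensor S S' g) := inferInstance
  have h2 : (g.baseChange S').restrictScalars S =
      (TensorProduct.comm S Mq S').toLinearMap ∘ₗ (AlgebraTensorModule.rTensor S S' g) ∘ₗ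
        (TensorProduct.comm S S' M).toLinearMap := by
    ext s m
    simp
  have h3 : IsLocalizedModule T ((g.baseChange S').restrictScalars S) := by
    rw [h2]
    infer_instance
  exact IsLocalizedModule.of_restrictScalars T (g.baseChange S')

end BaseChangeLoc

end Groth.Agent.Lib.Helper83
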