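import Groth.Prelude.Def_GrMap

/-!
Degreewise criteria for injectivity / surjectivity of the induced map of associated graded rings.
-/

set_option autoImplicit false
universe u v

noncomputable section

open Polynomial

namespace Groth.Agent.Lib.Helper83

open AssocGr

variable {A : Type u} {B : Type v} [CommRing A] [CommRing B]
  {φ : A →+* B} {𝓕 : FiltBl.IdealFiltration A} {𝓖 : FiltBl.IdealFiltration B}

/-- Degreewise criterion for injectivity of the map of associated graded rings. -/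
theorem grMap_injective_of_degreewise (h : IsFiltHom φ 𝓕 𝓖)
    (hinj : ∀ n : ℕ, ∀ a ∈ 𝓕.F n, φ a ∈ 𝓖.F (n + 1) → a ∈ 𝓕.F (n + 1)) :
    Function.Injective (AssocGr.map h) := by
  rw [injective_iff_map_eq_zero]
  intro x hx
  obtain ⟨f, rfl⟩ := mkG_surjective 𝓕 x
  rw [map_mkG, mkG_eq_zero_iff, mem_succIdeal_iff] at hx
  rw [mkG_eq_zero_iff, mem_succIdeal_iff]
  intro n
  have h1 := hx n
  rw [coe_reesMap, Polynomial.coeff_map] at h1
  exact hinj n _ (f.2 n) h1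

/-- Converse: injectivity of the graded map gives the degreewise statement. -/
theorem degreewise_of_grMap_injective (h : IsFiltHom φ 𝓕 𝓖)
    (hinj : Function.Injective (AssocGr.map h)) :
    ∀ n : ℕ, ∀ a ∈ 𝓕.F n, φ a ∈ 𝓖.F (n + 1) → a ∈ 𝓕.F (n + 1) := by
  intro n a ha hφ
  have h1 : AssocGr.map h (inDeg 𝓕 n ⟨a, ha⟩ : GrRing 𝓕) = 0 := by
    rw [map_inDeg]
    have : inDeg 𝓖 n ⟨φ a, h.apply_mem ha⟩ = 0 := (inDeg_eq_zero_iff 𝓖 n _).mpr hφ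
    rw [this]; rfl
  have h2 : (inDeg 𝓕 n ⟨a, ha⟩ : GrRing 𝓕) = 0 := hinj (by rw [h1, map_zero])
  have h3 : inDeg 𝓕 n ⟨a, ha⟩ = 0 := Subtype.ext h2
  exact (inDeg_eq_zero_iff 𝓕 n _).mp h3

/-- Degreewise criterion for surjectivity of the map of associated graded rings. -/
theorem grMap_surjective_of_degreewise (h : IsFiltHom φ 𝓕 𝓖)
    (hsurj : ∀ n : ℕ, ∀ b ∈ 𝓖.F n, ∃ a ∈ 𝓕.F n, φ a - b ∈ 𝓖.F (n + 1)) :
    Function.Surjective (AssocGr.map h) := by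
  intro y
  obtain ⟨g, rfl⟩ := mkG_surjective 𝓖 y
  rw [← sum_term 𝓖 g, map_sum]
  have hr : ∀ n : ℕ, mkG 𝓖 (term 𝓖 g n) ∈ (AssocGr.map h).range := by
    intro n
    rw [mkG_term]
    obtain ⟨a, ha, hab⟩ := hsurj n _ (g.2 n)
    refine ⟨(inDeg 𝓕 n ⟨a, ha⟩ : GrRing 𝓕), ?_⟩
    rw [map_inDeg]
    have : inDeg 𝓖 n ⟨φ a, h.apply_mem ha⟩ - inDeg 𝓖 n ⟨(g : B[X]).coeff n, g.2 n⟩ = 0 := by
      rw [← map_sub]
      exact (inDeg_eq_zero_iff 𝓖 n _).mpr hab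
    rw [sub_eq_zero] at this
    rw [this]
  exact Subring.sum_mem _ fun n _ => hr n

/-- Converse: surjectivity of the graded map gives the degreewise statement. -/
theorem degreewise_of_grMap_surjective (h : IsFiltHom φ 𝓕 𝓖)
    (hsurj : Function.Surjective (AssocGr.map h)) :
    ∀ n : ℕ, ∀ b ∈ 𝓖.F n, ∃ a ∈ 𝓕.F n, φ a - b ∈ 𝓖.F (n + 1) := by
  intro n b hb
  obtain ⟨x, hx⟩ := hsurj (inDeg 𝓖 n ⟨b, hb⟩ : GrRing 𝓖)
  obtain ⟨f, rfl⟩ := mkG_surjective 𝓕 x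
  rw [map_mkG, coe_inDeg, ← sub_eq_zero, ← map_sub, mkG_eq_zero_iff, mem_succIdeal_iff] at hx
  have h1 := hx n
  rw [Subalgebra.coe_sub, coeff_sub, coe_reesMap, Polynomial.coeff_map, coe_coe_monom,
    coeff_monomial, if_pos rfl] at h1
  exact ⟨(f : A[X]).coeff n, f.2 n, h1⟩

theorem grMap_bijective_of_degreewise (h : IsFiltHom φ 𝓕 𝓖)
    (hinj : ∀ n : ℕ, ∀ a ∈ 𝓕.F n, φ a ∈ 𝓖.F (n + 1) → a ∈ 𝓕.F (n + 1))
    (hsurj : ∀ n : ℕ, ∀ b ∈ 𝓖.F n, ∃ a ∈ 𝓕.F n, φ a - b ∈ 𝓖.F (n + 1)) :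
    Function.Bijective (AssocGr.map h) :=
  ⟨grMap_injective_of_degreewise h hinj, grMap_surjective_of_degreewise h hsurj⟩

end Groth.Agent.Lib.Helper83

end
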