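import Groth.Prelude.Def_AssocGrMod
import Groth.Agent.Lib.Helper83.AdicConv

/-!
Approximation step for the associated graded module: from membership of a class in a span over the
associated graded ring to an approximation modulo the next step of the filtration.
-/

set_option autoImplicit false
universe u w

noncomputable section

open Polynomial

namespace Groth.Agent.Lib.Helper83

open AssocGr

variable {A : Type u} [CommRing A] {I : Ideal A} {M : Type u} [AddCommGroup M] [Module A M]
  (F : I.Filtration M)

/-- coefficient of `f • (x Xᵈ)` in degree `n`. -/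
theorem coeff_smul_monomM (f : ↥(FiltBl.IdealFiltration.adic I).rees) (d : ℕ) (x : F.N d) (n : ℕ) :
    ReesM.coeff F (f • monomM F d x) n =
      (if d ≤ n then (f : A[X]).coeff (n - d) else 0) • (x : M) := by
  rw [ReesM.coeff_smul]
  simp only [ReesM.coeff_monomM, smul_ite, smul_zero]
  by_cases hd : d ≤ n
  · rw [if_pos hd, Finset.sum_eq_single (n - d, d)]
    · rw [if_pos rfl]
    · rintro ⟨i, j⟩ hij hne
      rw [Finset.mem_antidiagonal] at hij
      have hj : ¬ d = j := by
        rintro rfl
        apply hne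
        have : i = n - d := by omega
        rw [this]
      rw [if_neg hj]
    · intro h
      exact (h (Finset.mem_antidiagonal.mpr (by omega))).elim
  · rw [if_neg hd, zero_smul]
    refine Finset.sum_eq_zero fun p hp => ?_
    rw [Finset.mem_antidiagonal] at hp
    rw [if_neg (by omega)]

theorem coeff_sum {ι : Type*} (s : Finset ι) (y : ι → ReesM F) (n : ℕ) :
    ReesM.coeff F (∑ i ∈ s, y i) n = ∑ i ∈ s, ReesM.coeff F (y i) n := by
  rw [← ReesM.coeffHom_apply, map_sum]
  rfl

theorem coeff_sub (y y' : ReesM F) (n : ℕ) :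
    ReesM.coeff F (y - y') n = ReesM.coeff F y n - ReesM.coeff F y' n := by
  rw [← ReesM.coeffHom_apply, map_sub]
  rfl

/-- The approximation step. -/
theorem exists_approx_of_mem_span {ι : Type w} [Fintype ι] (d : ι → ℕ) (x : (i : ι) → ↥(F.N (d i)))
    (n : ℕ) (m : F.N n)
    (h : (inDegM F n m : GrMod F) ∈ Submodule.span (GrRing (FiltBl.IdealFiltration.adic I))
      (Set.range fun i => (inDegM F (d i) (x i) : GrMod F))) :
    ∃ a : ι → A, (∀ i, a i ∈ I ^ (n - d i)) ∧
      (m : M) - ∑ i, a i • (x i : M) ∈ F.N (n + 1) := by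
  rw [Submodule.mem_span_range_iff_exists_fun] at h
  obtain ⟨g, hg⟩ := h
  have hf : ∀ i, ∃ f : ↥(FiltBl.IdealFiltration.adic I).rees,
      mkG (FiltBl.IdealFiltration.adic I) f = g i := fun i => mkG_surjective _ (g i)
  choose f hf using hf
  have h1 : mkGM F (monomM F n m - ∑ i, f i • monomM F (d i) (x i)) = 0 := by
    rw [map_sub, map_sum, sub_eq_zero, ← coe_inDegM, ← hg]
    refine Finset.sum_congr rfl fun i _ => ?_
    rw [← hf i, coe_inDegM, mkG_smul_mkGM]
  rw [mkGM_eq_zero_iff, mem_succMod_iff] at h1
  have h2 := h1 n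
  rw [coeff_sub, coeff_sum, ReesM.coeff_monomM, if_pos rfl] at h2
  simp only [coeff_smul_monomM] at h2
  refine ⟨fun i => if d i ≤ n then ((f i : A[X])).coeff (n - d i) else 0, fun i => ?_, h2⟩
  dsimp only
  by_cases hd : d i ≤ n
  · rw [if_pos hd]
    exact (f i).2 (n - d i)
  · rw [if_neg hd]
    exact Ideal.zero_mem _

/-- Strong generation: if the classes of the `x i` generate the associated graded module, every
element of `N n` is a combination of the `x i` with coefficients in `I ^ (n - d i)`. -/
theorem exists_eq_sum_of_span_eq_top [IsPrecomplete I A] (hsep : ⨅ n, F.N n = ⊥)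
    {ι : Type w} [Fintype ι] (d : ι → ℕ) (x : (i : ι) → ↥(F.N (d i)))
    (hgen : Submodule.span (GrRing (FiltBl.IdealFiltration.adic I))
      (Set.range fun i => (inDegM F (d i) (x i) : GrMod F)) = ⊤) :
    ∀ n, ∀ m ∈ F.N n, ∃ a : ι → A, (∀ i, a i ∈ I ^ (n - d i)) ∧
      m = ∑ i, a i • (x i : M) := by
  intro n m hm
  refine exists_eq_sum_of_step F hsep d (fun i => (x i : M)) (fun i => (x i).2) (fun _ => True)
    (fun n m _ hm => ?_) n m trivial hm
  obtain ⟨a, ha, ham⟩ := exists_approx_of_mem_span F d x n ⟨m, hm⟩ (by rw [hgen]; trivial)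
  exact ⟨a, ha, trivial, ham⟩

end Groth.Agent.Lib.Helper83

end
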