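import Mathlib
import Groth.Agent.Lib.Helper2.LDCM

set_option autoImplicit false
universe u

open Function CategoryTheory CategoryTheory.Abelian

namespace Groth.Agent.Lib.Helper83.HomLenC

open Groth.Agent.Lib.Helper2 Groth.Agent.Lib.Helper2.LD

variable {R : Type u} [CommRing R]

/-- Length count from `0 → Hom(Q,N) → Hom(F,N) → Hom(K,N) → Ext¹(Q,N) → 0` for a presentation
`0 → K → F → Q → 0` with `F` projective. -/
theorem length_hom_add_length_ext_one (F Q N : Type u) [AddCommGroup F] [Module R F]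
    [AddCommGroup Q] [Module R Q] [AddCommGroup N] [Module R N] [Module.Projective R F]
    (f : F →ₗ[R] Q) (hf : Surjective f) :
    Module.length R (F →ₗ[R] N) + Module.length R (Ext.{u} (ModuleCat.of R Q) (ModuleCat.of R N) 1) =
      Module.length R (Q →ₗ[R] N) + Module.length R (LinearMap.ker f →ₗ[R] N) := by
  let K : Submodule R F := LinearMap.ker f
  have hfg : Function.Exact K.subtype f := LinearMap.exact_subtype_ker_map f
  let S : ShortComplex (ModuleCat.{u} R) :=
    ModuleCat.shortComplexOfCompEqZero K.subtype f hfg.linearMap_comp_eq_zero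
  have hS : S.ShortExact :=
    { exact := ModuleCat.shortComplex_exact _ hfg
      mono_f := (ModuleCat.mono_iff_injective _).mpr K.injective_subtype
      epi_g := (ModuleCat.epi_iff_surjective _).mpr hf }
  haveI : Projective (ModuleCat.of R F) :=
    (IsProjective.iff_projective (R := R) (P := F)).mp inferInstance
  have hExtF : Subsingleton (Ext.{u} (ModuleCat.of R F) (ModuleCat.of R N) (0 + 1)) :=
    Ext.subsingleton_of_projective _ _ 0
  let ιs : (F →ₗ[R] N) →ₗ[R] (K →ₗ[R] N) := LinearMap.lcomp R N K.subtype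
  let fs : (Q →ₗ[R] N) →ₗ[R] (F →ₗ[R] N) := LinearMap.lcomp R N f
  let p : (K →ₗ[R] N) →ₗ[R] Ext.{u} (ModuleCat.of R Q) (ModuleCat.of R N) (0 + 1) :=
    (extδ hS (ModuleCat.of R N) 0 (0 + 1) (by omega)) ∘ₗ (e0 K N).toLinearMap
  have hp : Surjective p := by
    refine (extδ_surjective hS (ModuleCat.of R N) 0 (0 + 1) (by omega) hExtF).comp ?_
    exact (e0 K N).surjective
  have hbp : Function.Exact ιs p := by
    intro χ
    constructor
    · intro hχ
      obtain ⟨x₂, hx₂⟩ := (extδ_exact hS (ModuleCat.of R N) 0 (0 + 1) (by omega) _).mp hχ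
      obtain ⟨φ, rfl⟩ := (e0 F N).surjective x₂
      refine ⟨φ, ?_⟩
      apply (e0 K N).injective
      have hx₂' : (e0 K N) χ = extf S (ModuleCat.of R N) 0 (e0 F N φ) := hx₂.symm
      rw [hx₂', extf_apply, e0_apply, e0_apply, Ext.mk₀_comp_mk₀]
      rfl
    · rintro ⟨φ, rfl⟩
      show extδ hS (ModuleCat.of R N) 0 (0 + 1) (by omega) (e0 K N (φ ∘ₗ K.subtype)) = 0
      apply (extδ_exact hS (ModuleCat.of R N) 0 (0 + 1) (by omega) _).mpr
      refine ⟨e0 F N φ, ?_⟩
      rw [extf_apply, e0_apply, e0_apply, Ext.mk₀_comp_mk₀]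
      rfl
  -- (a)
  have hfs : Injective fs := by
    intro ψ ψ' h
    refine LinearMap.ext fun q => ?_
    obtain ⟨x, rfl⟩ := hf q
    exact LinearMap.congr_fun h x
  have hex1 : Function.Exact fs ιs.rangeRestrict := by
    intro χ
    constructor
    · intro hχ
      have hχ' : χ ∘ₗ K.subtype = 0 := by
        have := congrArg Subtype.val hχ
        exact this
      obtain ⟨φ, hφ⟩ := exists_factor_of_exact K.subtype f hf hfg χ hχ'
      exact ⟨φ, hφ⟩
    · rintro ⟨ψ, rfl⟩
      apply Subtype.ext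
      show (ψ ∘ₗ f) ∘ₗ K.subtype = 0
      rw [LinearMap.comp_assoc, hfg.linearMap_comp_eq_zero, LinearMap.comp_zero]
  have ha := Module.length_eq_add_of_exact fs ιs.rangeRestrict hfs
    (LinearMap.surjective_rangeRestrict ιs) hex1
  -- (b)
  have hex2 : Function.Exact (LinearMap.range ιs).subtype p := by
    intro χ
    rw [hbp χ]
    constructor
    · rintro ⟨φ, rfl⟩
      exact ⟨⟨ιs φ, ⟨φ, rfl⟩⟩, rfl⟩
    · rintro ⟨⟨_, ⟨φ, rfl⟩⟩, rfl⟩
      exact ⟨φ, rfl⟩
  have hb := Module.length_eq_add_of_exact (LinearMap.range ιs).subtype p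
    (Submodule.injective_subtype _) hp hex2
  rw [ha, hb]
  abel

/-- `Ext¹(I,N) ≅ Ext²(R/I,N)`. -/
theorem length_ext_one_ideal (I : Ideal R) (N : Type u) [AddCommGroup N] [Module R N] :
    Module.length R (Ext.{u} (ModuleCat.of R I) (ModuleCat.of R N) 1) =
      Module.length R (Ext.{u} (ModuleCat.of R (R ⧸ I)) (ModuleCat.of R N) 2) := by
  have hfg : Function.Exact (Submodule.subtype I) (Submodule.mkQ I) :=
    LinearMap.exact_subtype_mkQ I
  let S : ShortComplex (ModuleCat.{u} R) :=
    ModuleCat.shortComplexOfCompEqZero (Submodule.subtype I) (Submodule.mkQ I)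
      hfg.linearMap_comp_eq_zero
  have hS : S.ShortExact :=
    { exact := ModuleCat.shortComplex_exact _ hfg
      mono_f := (ModuleCat.mono_iff_injective _).mpr (Submodule.injective_subtype I)
      epi_g := (ModuleCat.epi_iff_surjective _).mpr (Submodule.mkQ_surjective I) }
  haveI : Projective (ModuleCat.of R R) :=
    (IsProjective.iff_projective (R := R) (P := R)).mp inferInstance
  have h2 : Subsingleton (Ext.{u} (ModuleCat.of R R) (ModuleCat.of R N) (1 + 1)) :=
    Ext.subsingleton_of_projective _ _ 1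
  have h1 : Subsingleton (Ext.{u} (ModuleCat.of R R) (ModuleCat.of R N) (0 + 1)) :=
    Ext.subsingleton_of_projective _ _ 0
  have hδ : Bijective (extδ hS (ModuleCat.of R N) 1 2 (by omega)) :=
    extδ_bijective hS _ _ _ _ h2 h1
  exact (LinearEquiv.ofBijective _ hδ).length_eq

end Groth.Agent.Lib.Helper83.HomLenC
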