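import Mathlib
import Groth.Agent.Lib.Helper29.HilbertBurch2
import Groth.Agent.S0563
import Groth.Agent.S0558

set_option autoImplicit false
universe u

open Function CategoryTheory IsLocalRing

namespace Groth.Agent.Lib.Helper83.HomLenD

open Groth.Agent.Lib.Helper29.HilbertBurch


theorem rank_ideal_eq_one {R : Type u} [CommRing R] [IsDomain R] (I : Ideal R) (hI : I ≠ ⊥) :
    Module.rank R I = 1 := by
  have h := rank_quotient_add_rank_of_isDomain (R := R) (M := R) I
  have h0 : Module.rank R (R ⧸ I) = 0 := by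
    rw [rank_eq_zero_iff]
    obtain ⟨a, haI, ha0⟩ := Submodule.exists_mem_ne_zero_of_ne_bot hI
    intro x
    refine ⟨a, ha0, ?_⟩
    obtain ⟨y, rfl⟩ := Ideal.Quotient.mk_surjective x
    rw [← Ideal.Quotient.mk_eq_mk, Algebra.smul_def]
    show Ideal.Quotient.mk I a * Ideal.Quotient.mk I y = 0
    rw [Ideal.Quotient.eq_zero_iff_mem.mpr haI, zero_mul]
  rw [h0, zero_add, Module.rank_self] at h
  exact h

theorem ne_bot_of_length (R : Type u) [CommRing R] [IsRegularLocalRing R]
    (hdim : ringKrullDim R = 2) (I : Ideal R) (hI : Module.length R (R ⧸ I) < ⊤) : I ≠ ⊥ := by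
  rintro rfl
  have hfl : IsFiniteLength R (R ⧸ (⊥ : Ideal R)) := Module.length_ne_top_iff.mp hI.ne
  have hfl' : IsFiniteLength R R :=
    (Submodule.quotEquivOfEqBot (⊥ : Ideal R) rfl).isFiniteLength hfl
  obtain ⟨-, hA⟩ := isFiniteLength_iff_isNoetherian_isArtinian.mp hfl'
  haveI : IsArtinianRing R := hA
  have : ringKrullDim R ≤ 0 := Ring.krullDimLE_iff.mp inferInstance
  rw [hdim] at this
  exact absurd this (by decide)

theorem exists_presentation (R : Type u) [CommRing R] [IsRegularLocalRing R]
    (hdim : ringKrullDim R = 2) (I : Ideal R) (hI : I ≠ ⊥) :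
    ∃ (r : ℕ) (f : (Fin (r + 1) → R) →ₗ[R] I), Surjective f ∧
      Nonempty (LinearMap.ker f ≃ₗ[R] (Fin r → R)) := by
  haveI : IsDomain R := Groth.Agent.S0558.result R
  obtain ⟨n, f, hf⟩ := Module.Finite.exists_fin' R I
  have hpd : HasProjectiveDimensionLT (ModuleCat.of R (R ⧸ I)) 3 :=
    Groth.Agent.S0563.result R 2 hdim (R ⧸ I)
  have h1 : HasProjectiveDimensionLT (ModuleCat.of R I) 2 :=
    (hasProjectiveDimensionLT_step R (Submodule.subtype I) (Submodule.mkQ I)
      (Submodule.injective_subtype I) (LinearMap.exact_subtype_mkQ I)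
      (Submodule.mkQ_surjective I) 1).mp hpd
  have h2 : HasProjectiveDimensionLT (ModuleCat.of R (LinearMap.ker f)) 1 :=
    (hasProjectiveDimensionLT_step R (LinearMap.ker f).subtype f
      (Submodule.injective_subtype _) (LinearMap.exact_subtype_ker_map f) hf 0).mp h1
  haveI h3 : Module.Projective R (LinearMap.ker f) := by
    rw [IsProjective.iff_projective, projective_iff_hasProjectiveDimensionLT_one]
    exact h2
  haveI : Module.Finite R (LinearMap.ker f) := Module.IsNoetherian.finite R _
  haveI : Module.Free R (LinearMap.ker f) := Module.free_of_flat_of_isLocalRing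
  -- ranks
  have hrk := rank_quotient_add_rank_of_isDomain (R := R) (LinearMap.ker f)
  rw [(f.quotKerEquivOfSurjective hf).rank_eq, rank_ideal_eq_one I hI, rank_fin_fun] at hrk
  have hfr : Module.rank R (LinearMap.ker f) = (Module.finrank R (LinearMap.ker f) : Cardinal) :=
    (Module.finrank_eq_rank R _).symm
  rw [hfr] at hrk
  have hn : 1 + Module.finrank R (LinearMap.ker f) = n := by exact_mod_cast hrk
  obtain ⟨r, hr⟩ : ∃ r, r = Module.finrank R (LinearMap.ker f) := ⟨_, rfl⟩
  have hn' : n = r + 1 := by omega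
  subst hn'
  refine ⟨r, f, hf, ⟨?_⟩⟩
  exact (Module.finBasis R (LinearMap.ker f)).equivFun.trans
    (LinearEquiv.funCongrLeft R R (finCongr hr))

end Groth.Agent.Lib.Helper83.HomLenD
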