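import Mathlib

set_option autoImplicit false
universe u

open Function

namespace Groth.Agent.Lib.Helper83.HomLenE

variable {R : Type u} [CommRing R]

theorem le_colon (I J : Ideal R) : I ≤ I.colon (J : Set R) := by
  intro x hx
  rw [Submodule.mem_colon]
  intro p _
  exact I.mul_mem_right p hx

/-- `0 → Hom(R/J, R/I) → R/I → R/(I:J) → 0`. -/
theorem length_hom_quot_add (I J : Ideal R) :
    Module.length R ((R ⧸ J) →ₗ[R] (R ⧸ I)) + Module.length R (R ⧸ I.colon (J : Set R)) =
      Module.length R (R ⧸ I) := by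
  let ev : ((R ⧸ J) →ₗ[R] (R ⧸ I)) →ₗ[R] (R ⧸ I) := LinearMap.applyₗ (Submodule.Quotient.mk (1 : R))
  let π : (R ⧸ I) →ₗ[R] (R ⧸ I.colon (J : Set R)) :=
    Submodule.mapQ I (I.colon (J : Set R)) LinearMap.id (le_colon I J)
  have hev : Injective ev := by
    intro h h' hh
    refine LinearMap.ext fun y => ?_
    obtain ⟨r, rfl⟩ := Submodule.Quotient.mk_surjective J y
    have h1 : (Submodule.Quotient.mk r : R ⧸ J) = r • Submodule.Quotient.mk (1 : R) := by
      rw [← Submodule.Quotient.mk_smul, smul_eq_mul, mul_one]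
    rw [h1, map_smul, map_smul]
    exact congrArg (r • ·) hh
  have hπ : Surjective π := by
    intro y
    obtain ⟨r, rfl⟩ := Submodule.Quotient.mk_surjective _ y
    exact ⟨Submodule.Quotient.mk r, rfl⟩
  have hex : Function.Exact ev π := by
    intro y
    obtain ⟨x, rfl⟩ := Submodule.Quotient.mk_surjective I y
    have hπx : π (Submodule.Quotient.mk x) = 0 ↔ x ∈ I.colon (J : Set R) := by
      show (Submodule.Quotient.mk x : R ⧸ I.colon (J : Set R)) = 0 ↔ _
      exact Submodule.Quotient.mk_eq_zero _
    rw [hπx, Submodule.mem_colon]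
    constructor
    · intro hx
      have hle : J ≤ LinearMap.ker (LinearMap.toSpanSingleton R (R ⧸ I) (Submodule.Quotient.mk x)) := by
        intro p hp
        rw [LinearMap.mem_ker, LinearMap.toSpanSingleton_apply, ← Submodule.Quotient.mk_smul,
          Submodule.Quotient.mk_eq_zero, smul_eq_mul, mul_comm]
        exact hx p hp
      refine ⟨Submodule.liftQ J _ hle, ?_⟩
      show Submodule.liftQ J _ hle (Submodule.Quotient.mk (1 : R)) = _
      rw [Submodule.liftQ_apply, LinearMap.toSpanSingleton_apply, one_smul]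
    · rintro ⟨h, hh⟩ p hp
      have hh' : h (Submodule.Quotient.mk (1 : R)) = Submodule.Quotient.mk x := hh
      have h1 : (Submodule.Quotient.mk (x • p) : R ⧸ I) = 0 := by
        rw [smul_eq_mul, mul_comm, ← smul_eq_mul, Submodule.Quotient.mk_smul, ← hh', ← map_smul,
          ← Submodule.Quotient.mk_smul, smul_eq_mul, mul_one,
          (Submodule.Quotient.mk_eq_zero J).mpr hp, map_zero]
      exact (Submodule.Quotient.mk_eq_zero I).mp h1
  rw [Module.length_eq_add_of_exact ev π hev hπ hex]

theorem length_hom_pi (n : ℕ) (N : Type u) [AddCommGroup N] [Module R N] :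
    Module.length R ((Fin n → R) →ₗ[R] N) = (n : ℕ∞) * Module.length R N := by
  rw [(LinearEquiv.piRing R N (Fin n) R).length_eq, Module.length_pi]
  simp

end Groth.Agent.Lib.Helper83.HomLenE
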