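import Mathlib

/-!
# When does `Spec φ` land in a quasi-compact open of `Spec A`?

`range_specMap_subset_iff`: if `U = V(I)ᶜ` then `Spec B → Spec A` lands in `U` iff `I B = B`.
-/

namespace Groth.Agent.Lib.Helper83

open AlgebraicGeometry CategoryTheory

universe u

theorem range_specMap_subset_iff {A B : Type u} [CommRing A] [CommRing B] (φ : A →+* B)
    (U : Set (PrimeSpectrum A)) (I : Ideal A)
    (hUI : U = (PrimeSpectrum.zeroLocus (I : Set A))ᶜ) :
    Set.range (Spec.map (CommRingCat.ofHom φ)).base ⊆ U ↔ I.map φ = ⊤ := by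
  subst hUI
  constructor
  · intro h
    by_contra hne
    obtain ⟨M, hM, hle⟩ := Ideal.exists_le_maximal _ hne
    have hmem : (Spec.map (CommRingCat.ofHom φ)).base ⟨M, hM.isPrime⟩ ∈
        (PrimeSpectrum.zeroLocus (I : Set A))ᶜ := h ⟨_, rfl⟩
    apply hmem
    rw [PrimeSpectrum.mem_zeroLocus]
    exact Ideal.map_le_iff_le_comap.1 hle
  · intro h
    rintro _ ⟨q, rfl⟩ hq
    rw [PrimeSpectrum.mem_zeroLocus] at hq
    have hle : I.map φ ≤ q.asIdeal := Ideal.map_le_iff_le_comap.2 hq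
    rw [h] at hle
    exact q.2.ne_top (top_le_iff.1 hle)

/-- A quasi-compact open of `Spec A` is the complement of `V(f_1, …, f_k)`. -/
theorem exists_fin_generators_of_isCompact {A : Type u} [CommRing A]
    (U : (Spec (CommRingCat.of A)).Opens) (hU : IsCompact (U : Set ↥(Spec (CommRingCat.of A)))) :
    ∃ (k : ℕ) (f : Fin k → A),
      ((U : Set ↥(Spec (CommRingCat.of A))) : Set (PrimeSpectrum A)) =
        (PrimeSpectrum.zeroLocus ((Ideal.span (Set.range f) : Ideal A) : Set A))ᶜ := by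
  obtain ⟨I, hIfg, hI⟩ := PrimeSpectrum.isCompact_isOpen_iff_ideal.1 ⟨hU, U.2⟩
  obtain ⟨k, f, hf⟩ := Submodule.fg_iff_exists_fin_generating_family.1 hIfg
  refine ⟨k, f, ?_⟩
  rw [← hI]
  congr 2
  exact congrArg _ hf.symm

end Groth.Agent.Lib.Helper83
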