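import Groth.Agent.Lib.Helper98.LGRing
import Groth.Agent.Lib.Helper83.SpecRange

/-!
# LG-rings: points of quasi-compact opens of affine space

`exists_span_eval_eq_top`: over an LG-ring `R`, if polynomials `f_1, …, f_k` in finitely many variables
have, for every maximal ideal `m`, a point `x` over `R` at which some `f_i(x) ∉ m`, then there is a point
`x` over `R` with `(f_1(x), …, f_k(x)) = R`.
-/

namespace Groth.Agent.Lib.Helper83

open MvPolynomial

universe u

theorem exists_span_eval_eq_top {R : Type u} [CommRing R] (hR : LGRing.IsLGRing R)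
    {σ : Type} [Finite σ] {k : ℕ} (f : Fin k → MvPolynomial σ R)
    (h : ∀ (m : Ideal R) [m.IsMaximal], ∃ x : σ → R, ∃ i, eval x (f i) ∉ m) :
    ∃ x : σ → R, Ideal.span (Set.range fun i => eval x (f i)) = ⊤ := by
  classical
  let F : MvPolynomial (σ ⊕ Fin k) R := ∑ i, rename Sum.inl (f i) * X (Sum.inr i)
  have hF : ∀ s : σ ⊕ Fin k → R, eval s F = ∑ i, eval (s ∘ Sum.inl) (f i) * s (Sum.inr i) := by
    intro s
    simp [F, eval_rename]
  have hloc : ∀ (m : Ideal R) [m.IsMaximal], ∃ s : σ ⊕ Fin k → R, eval s F ∉ m := by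
    intro m _
    obtain ⟨x, i, hi⟩ := h m
    refine ⟨Sum.elim x (Pi.single i 1), ?_⟩
    rw [hF]
    have : ∀ j, eval (Sum.elim x (Pi.single i (1 : R)) ∘ Sum.inl) (f j) *
        Sum.elim x (Pi.single i (1 : R)) (Sum.inr j) = if j = i then eval x (f i) else 0 := by
      intro j
      by_cases hji : j = i
      · subst hji; simp [Function.comp_def]
      · simp [hji]
    simp only [this, Finset.sum_ite_eq', Finset.mem_univ, if_true]
    exact hi
  obtain ⟨s, hs⟩ := Groth.Agent.Lib.Helper98.LG.exists_isUnit_eval hR F hloc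
  refine ⟨s ∘ Sum.inl, ?_⟩
  rw [Ideal.eq_top_iff_one]
  obtain ⟨u, hu⟩ := hs.exists_left_inv
  rw [hF, Finset.mul_sum] at hu
  rw [← hu]
  refine Ideal.sum_mem _ fun i _ => ?_
  rw [mul_comm (eval (s ∘ Sum.inl) (f i)), ← mul_assoc]
  exact Ideal.mul_mem_left _ _ (Ideal.subset_span ⟨i, rfl⟩)

end Groth.Agent.Lib.Helper83
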