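import Mathlib
import Groth.Prelude.Def_EGA4b
import Groth.Agent.Lib.Helper35.TorsionFreeEmbed

set_option autoImplicit false
universe u

namespace Groth.Agent.Lib.Helper83.Norm

open Polynomial TensorProduct

/-- Homogeneous form of "`a / s` is integral". -/
def Rel {R : Type*} [CommRing R] (a s : R) : Prop :=
  ∃ (n : ℕ) (r : ℕ → R), a ^ n + ∑ i ∈ Finset.range n, r i * a ^ i * s ^ (n - i) = 0

theorem Rel.map {R S : Type*} [CommRing R] [CommRing S] (f : R →+* S) {a s : R}
    (h : Rel a s) : Rel (f a) (f s) := by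
  obtain ⟨n, r, h⟩ := h
  refine ⟨n, fun i => f (r i), ?_⟩
  have := congrArg f h
  simpa [map_add, map_sum, map_mul, map_pow] using this

set_option hygiene false in
local notation "K" => FractionRing D

theorem dvd_of_rel_of_isIntegrallyClosed {D : Type*} [CommRing D] [IsDomain D]
    [IsIntegrallyClosed D] {a s : D} (h : Rel a s) : s ∣ a := by
  obtain ⟨n, r, h⟩ := h
  by_cases hs : s = 0
  · subst hs
    have h0 : ∑ i ∈ Finset.range n, r i * a ^ i * (0 : D) ^ (n - i) = 0 := by
      apply Finset.sum_eq_zero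
      intro i hi
      have : n - i ≠ 0 := by
        have := Finset.mem_range.mp hi
        omega
      rw [zero_pow this, mul_zero]
    rw [h0, add_zero] at h
    have ha : a = 0 := pow_eq_zero_iff (n := n) (by
      rintro rfl
      simp at h) |>.mp h
    simp [ha]
  · have hs' : algebraMap D K s ≠ 0 := by
      simpa using hs
    have hx : IsIntegral D (algebraMap D K a / algebraMap D K s) := by
      refine ⟨X ^ n + ∑ i ∈ Finset.range n, C (r i) * X ^ i, ?_, ?_⟩
      · apply monic_X_pow_add
        rw [Finset.sum_range]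
        exact degree_sum_fin_lt _
      · have hsn : (algebraMap D K s) ^ n ≠ 0 := pow_ne_zero _ hs'
        apply mul_left_cancel₀ hsn
        rw [mul_zero]
        have h2 := congrArg (algebraMap D K) h
        rw [map_zero] at h2
        rw [← h2]
        simp only [eval₂_add, eval₂_pow, eval₂_X, eval₂_finset_sum, eval₂_mul, eval₂_C, map_add,
          map_sum, map_mul, map_pow, mul_add, Finset.mul_sum]
        congr 1
        · rw [div_pow, mul_div_cancel₀ _ hsn]
        · apply Finset.sum_congr rfl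
          intro i hi
          have hi' := Finset.mem_range.mp hi
          have hn : n = i + (n - i) := by omega
          have hsi : (algebraMap D K s) ^ i ≠ 0 := pow_ne_zero _ hs'
          have h3 : (algebraMap D K s) ^ n = (algebraMap D K s) ^ i * (algebraMap D K s) ^ (n - i) := by
            rw [← pow_add, ← hn]
          calc (algebraMap D K s) ^ n * ((algebraMap D K) (r i) * ((algebraMap D K) a / (algebraMap D K) s) ^ i)
              = (algebraMap D K) (r i) * (((algebraMap D K) a / (algebraMap D K) s) ^ i * (algebraMap D K s) ^ i)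
                  * (algebraMap D K s) ^ (n - i) := by rw [h3]; ring
            _ = _ := by rw [div_pow, div_mul_cancel₀ _ hsi]
    obtain ⟨y, hy⟩ := IsIntegrallyClosed.isIntegral_iff.mp hx
    refine ⟨y, ?_⟩
    have : algebraMap D K a = algebraMap D K (s * y) := by
      rw [map_mul, hy, mul_div_cancel₀ _ hs']
    exact IsFractionRing.injective D K this

theorem dvd_of_rel_of_isNormalRing {S : Type u} [CommRing S] (hS : EGA4.IsNormalRing S) {a s : S}
    (h : Rel a s) : s ∣ a := by
  rw [← Ideal.mem_span_singleton]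
  apply Ideal.mem_of_localization_maximal
  intro P hP
  obtain ⟨hd, hic⟩ := hS P
  have := dvd_of_rel_of_isIntegrallyClosed (h.map (algebraMap S (Localization.AtPrime P)))
  rw [Ideal.map_span, Set.image_singleton, Ideal.mem_span_singleton]
  exact this

section LemmaA

variable (R : Type*) [CommRing R] [IsLocalRing R] [IsNoetherianRing R] [IsReduced R]

theorem isDomain_of_key
    (key : ∀ a s : R, s ∈ nonZeroDivisors R → Rel a s → s ∣ a) : IsDomain R := by
  classical
  have hfin : (minimalPrimes R).Finite := minimalPrimes.finite_of_isNoetherianRing R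
  have hinf : sInf (minimalPrimes R) = (⊥ : Ideal R) := by
    rw [minimalPrimes, Ideal.sInf_minimalPrimes]
    exact nilradical_eq_zero R
  obtain ⟨⟨p1, hp1⟩⟩ : Nonempty (minimalPrimes R) :=
    Ideal.nonempty_minimalPrimes (I := (⊥ : Ideal R)) bot_ne_top
  set F : Finset (Ideal R) := hfin.toFinset with hF
  have hmemF : ∀ q, q ∈ F ↔ q ∈ minimalPrimes R := fun q => hfin.mem_toFinset
  have hprime : ∀ q ∈ F, q.IsPrime := fun q hq => ((hmemF q).mp hq).1.1
  have hFinf : F.inf id = (⊥ : Ideal R) := by
    rw [Finset.inf_id_eq_sInf, hF, Set.Finite.coe_toFinset, hinf]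
  set J : Ideal R := (F.erase p1).inf id with hJ
  have hp1F : p1 ∈ F := (hmemF p1).mpr hp1
  have hIJ : p1 ⊓ J = ⊥ := by
    rw [← hFinf, ← Finset.insert_erase hp1F, Finset.inf_insert]
    simp [hJ]
  have hminle : ∀ q ∈ F, ∀ q' ∈ F, q ≤ q' → q = q' := by
    intro q hq q' hq' hle
    have h1 := (hmemF q).mp hq
    have h2 := (hmemF q').mp hq'
    exact le_antisymm hle (h2.2 ⟨h1.1.1, bot_le⟩ hle)
  have hJle : ¬ J ≤ p1 := by
    intro hle
    obtain ⟨q', hq', hq'le⟩ := ((hprime p1 hp1F).inf_le').mp hle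
    have hq'F : q' ∈ F := Finset.mem_of_mem_erase hq'
    have := hminle q' hq'F p1 hp1F hq'le
    exact (Finset.ne_of_mem_erase hq') this
  -- element of `p1 ⊔ J` outside all minimal primes
  have hnot : ¬ (((p1 ⊔ J : Ideal R) : Set R) ⊆ ⋃ i ∈ (↑F : Set (Ideal R)), (id i : Ideal R)) := by
    intro hsub
    obtain ⟨q, hq, hle⟩ := (Ideal.subset_union_prime (f := id) p1 p1
      (fun i hi _ _ => hprime i hi)).mp hsub
    have h1 : p1 = q := hminle p1 hp1F q hq (le_trans le_sup_left hle)
    subst h1
    exact hJle (le_trans le_sup_right hle)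
  obtain ⟨s, hsIJ, hsnot⟩ := Set.not_subset.mp hnot
  have hsq : ∀ q ∈ F, s ∉ q := by
    intro q hq hsq
    apply hsnot
    simp only [Set.mem_iUnion]
    exact ⟨q, hq, hsq⟩
  have hsreg : s ∈ nonZeroDivisors R := by
    rw [mem_nonZeroDivisors_iff_right]
    intro t ht
    have : t ∈ F.inf id := by
      rw [Finset.inf_id_eq_sInf]
      rw [Ideal.mem_sInf]
      intro q hq
      have hq' : q ∈ F := hq
      have := (hprime q hq').mem_or_mem (show t * s ∈ q by rw [ht]; exact q.zero_mem)
      exact this.resolve_right (hsq q hq')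
    rw [hFinf] at this
    exact this
  obtain ⟨x, hx, y, hy, hxy⟩ := Submodule.mem_sup.mp hsIJ
  have hxy0 : x * y = 0 := by
    have : x * y ∈ p1 ⊓ J := ⟨p1.mul_mem_right _ hx, J.mul_mem_left _ hy⟩
    rw [hIJ] at this
    exact this
  have hrel : Rel x s := by
    refine ⟨2, fun i => if i = 1 then -1 else 0, ?_⟩
    rw [Finset.sum_range_succ, Finset.sum_range_one]
    simp only [zero_ne_one, if_false, if_true, zero_mul, zero_add]
    rw [← hxy]
    linear_combination (-1 : R) * hxy0
  obtain ⟨e, he⟩ := key x s hsreg hrel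
  -- `F.erase p1` is empty
  have hempty : F.erase p1 = ∅ := by
    by_contra hne
    obtain ⟨q', hq'⟩ := Finset.nonempty_iff_ne_empty.mpr hne
    have hq'F : q' ∈ F := Finset.mem_of_mem_erase hq'
    have he1 : e ∈ p1 := by
      have : s * e ∈ p1 := he ▸ hx
      exact ((hprime p1 hp1F).mem_or_mem this).resolve_left (hsq p1 hp1F)
    have he2 : 1 - e ∈ q' := by
      have hyq : y ∈ q' := (Finset.inf_le hq' : J ≤ id q') hy
      have : s * (1 - e) ∈ q' := by
        have : s * (1 - e) = y := by rw [mul_sub, mul_one, ← he, ← hxy]; ring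
        rw [this]; exact hyq
      exact ((hprime q' hq'F).mem_or_mem this).resolve_left (hsq q' hq'F)
    have h1 : e ∈ IsLocalRing.maximalIdeal R :=
      IsLocalRing.le_maximalIdeal (hprime p1 hp1F).ne_top he1
    have h2 : 1 - e ∈ IsLocalRing.maximalIdeal R :=
      IsLocalRing.le_maximalIdeal (hprime q' hq'F).ne_top he2
    have h3 : (1 : R) ∈ IsLocalRing.maximalIdeal R := by
      have := Ideal.add_mem _ h1 h2
      rwa [add_sub_cancel] at this
    exact (Ideal.ne_top_iff_one _).mp (IsLocalRing.maximalIdeal.isMaximal R).ne_top h3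
  have hbot : p1 = ⊥ := by
    rw [← hIJ, hJ, hempty, Finset.inf_empty, inf_top_eq]
  haveI : (⊥ : Ideal R).IsPrime := hbot ▸ hprime p1 hp1F
  exact IsDomain.of_bot_isPrime R

end LemmaA

theorem isIntegrallyClosed_of_key (R : Type*) [CommRing R] [IsDomain R]
    (key : ∀ a s : R, s ∈ nonZeroDivisors R → Rel a s → s ∣ a) : IsIntegrallyClosed R := by
  rw [isIntegrallyClosed_iff (FractionRing R)]
  intro x hx
  obtain ⟨a, s, hs, rfl⟩ := IsFractionRing.div_surjective (A := R) x
  obtain ⟨p, hp, hpx⟩ := hx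
  have hinj := IsFractionRing.injective R (FractionRing R)
  have h1 := scaleRoots_eval₂_eq_zero_of_eval₂_div_eq_zero hinj hpx hs
  rw [eval₂_at_apply] at h1
  have h2 : (scaleRoots p s).eval a = 0 := hinj (by rw [h1, map_zero])
  rw [eval_eq_sum_range, natDegree_scaleRoots, Finset.sum_range_succ] at h2
  have hrel : Rel a s := by
    refine ⟨p.natDegree, fun i => p.coeff i, ?_⟩
    rw [← h2, add_comm]
    congr 1
    · apply Finset.sum_congr rfl
      intro i _
      rw [coeff_scaleRoots]; ring
    · rw [coeff_scaleRoots, hp.coeff_natDegree]; simp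
  obtain ⟨y, hy⟩ := key a s hs hrel
  refine ⟨y, ?_⟩
  have hs0 : algebraMap R (FractionRing R) s ≠ 0 := by
    intro h0
    exact nonZeroDivisors.ne_zero hs (hinj (by rw [h0, map_zero]))
  rw [hy, map_mul, mul_div_cancel_left₀ _ hs0]


theorem rel_of_eval_scaleRoots {R : Type*} [CommRing R] {p : R[X]} (hp : p.Monic) {a s : R}
    (h : (scaleRoots p s).eval a = 0) : Rel a s := by
  rw [eval_eq_sum_range, natDegree_scaleRoots, Finset.sum_range_succ] at h
  refine ⟨p.natDegree, fun i => p.coeff i, ?_⟩
  rw [← h, add_comm]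
  congr 1
  · apply Finset.sum_congr rfl
    intro i _
    rw [coeff_scaleRoots]; ring
  · rw [coeff_scaleRoots, hp.coeff_natDegree]; simp

section Tors

variable (B C : Type*) [CommRing B] [IsDomain B] [CommRing C] [Algebra B C]

/-- The `B`-torsion ideal of a `B`-algebra `C`. -/
def torsIdeal : Ideal C where
  carrier := {c | ∃ b : B, b ≠ 0 ∧ b • c = 0}
  add_mem' := by
    rintro x y ⟨b, hb, hx⟩ ⟨b', hb', hy⟩
    refine ⟨b * b', mul_ne_zero hb hb', ?_⟩
    rw [smul_add, mul_comm b b', mul_smul, hx, smul_zero, zero_add, mul_comm, mul_smul, hy, smul_zero]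
  zero_mem' := ⟨1, one_ne_zero, smul_zero _⟩
  smul_mem' := by
    rintro c x ⟨b, hb, hx⟩
    exact ⟨b, hb, by rw [smul_eq_mul, ← mul_smul_comm, hx, mul_zero]⟩

theorem mem_torsIdeal {c : C} : c ∈ torsIdeal B C ↔ ∃ b : B, b ≠ 0 ∧ b • c = 0 := Iff.rfl

/-- `C` modulo its `B`-torsion. -/
abbrev TF : Type _ := C ⧸ torsIdeal B C

theorem tf_smul_eq_zero {b : B} (hb : b ≠ 0) {z : TF B C} (h : b • z = 0) : z = 0 := by
  obtain ⟨c, rfl⟩ := Ideal.Quotient.mk_surjective z
  have h1 : (Ideal.Quotient.mk (torsIdeal B C)) (b • c) = 0 := by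
    rw [← h]; rfl
  rw [Ideal.Quotient.eq_zero_iff_mem] at h1 ⊢
  obtain ⟨b', hb', h2⟩ := h1
  exact ⟨b' * b, mul_ne_zero hb' hb, by rw [mul_smul, h2]⟩

theorem tf_algebraMap_injective (hinj : Function.Injective (algebraMap B C)) :
    Function.Injective (algebraMap B (TF B C)) := by
  rw [injective_iff_map_eq_zero]
  intro b hb
  have h1 : (Ideal.Quotient.mk (torsIdeal B C)) (algebraMap B C b) = 0 := hb
  rw [Ideal.Quotient.eq_zero_iff_mem] at h1
  obtain ⟨b', hb', h2⟩ := h1
  rw [Algebra.smul_def, ← map_mul] at h2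
  have := hinj (by rw [h2, map_zero] : algebraMap B C (b' * b) = algebraMap B C 0)
  exact (mul_eq_zero.mp this).resolve_left hb'

instance tf_finite [Module.Finite B C] : Module.Finite B (TF B C) :=
  Module.Finite.of_surjective (Ideal.Quotient.mkₐ B (torsIdeal B C)).toLinearMap
    (Ideal.Quotient.mkₐ_surjective B _)

/-- The image of `B` in `TF B C`, as a `B`-submodule. -/
abbrev rng : Submodule B (TF B C) := LinearMap.range (Algebra.linearMap B (TF B C))

/-- The cokernel of `B → TF B C`. -/
abbrev Coker : Type _ := TF B C ⧸ rng B C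

theorem coker_torsionFree [IsIntegrallyClosed B] [Module.Finite B C]
    (hinj : Function.Injective (algebraMap B C)) : Module.IsTorsionFree B (Coker B C) := by
  constructor
  intro b hb
  have hb0 : b ≠ 0 := hb.ne_zero
  rw [isSMulRegular_iff_right_eq_zero_of_smul]
  intro m hm
  obtain ⟨z, rfl⟩ := Submodule.Quotient.mk_surjective _ m
  rw [← Submodule.Quotient.mk_smul, Submodule.Quotient.mk_eq_zero] at hm
  obtain ⟨b₀, hb₀⟩ := hm
  rw [Algebra.linearMap_apply] at hb₀
  have hinj' := tf_algebraMap_injective B C hinj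
  have hz : IsIntegral B z := Algebra.IsIntegral.isIntegral z
  obtain ⟨p, hp, hpz⟩ := hz
  have h1 := scaleRoots_aeval_eq_zero (r := b) (show aeval z p = 0 from hpz)
  rw [← Algebra.smul_def, ← hb₀, aeval_algebraMap_apply] at h1
  rw [coe_aeval_eq_eval] at h1
  have h2 : (scaleRoots p b).eval b₀ = 0 := hinj' (by rw [map_zero]; exact h1)
  obtain ⟨b₁, hb₁⟩ := dvd_of_rel_of_isIntegrallyClosed (rel_of_eval_scaleRoots hp h2)
  have h3 : b • (z - algebraMap B (TF B C) b₁) = 0 := by
    rw [smul_sub, ← hb₀, hb₁, map_mul, Algebra.smul_def, sub_self]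
  have h4 := tf_smul_eq_zero B C hb0 h3
  rw [Submodule.Quotient.mk_eq_zero]
  exact ⟨b₁, by rw [Algebra.linearMap_apply]; exact (sub_eq_zero.mp h4).symm⟩

end Tors


section Flat

variable (B C : Type u) [CommRing B] [IsDomain B] [IsIntegrallyClosed B] [CommRing C] [Algebra B C]
  [Module.Finite B C] (hinj : Function.Injective (algebraMap B C))
  (R : Type u) [CommRing R] [Algebra B R] [Module.Flat B R]

include hinj in
/-- Key descent: if `s • z = a ⊗ 1` in `R ⊗ TF` with `s` regular then `s ∣ a`. -/
theorem dvd_of_smul_eq_tmul {a s : R} (hs : s ∈ nonZeroDivisors R) (z : R ⊗[B] TF B C)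
    (h : s • z = a ⊗ₜ[B] (1 : TF B C)) : s ∣ a := by
  haveI := coker_torsionFree B C hinj
  obtain ⟨n, f, hf⟩ := Groth.Agent.Lib.Helper35.exists_injective_to_free B (Coker B C)
  let ι : B →ₗ[B] TF B C := Algebra.linearMap B (TF B C)
  let π : TF B C →ₗ[B] Coker B C := (rng B C).mkQ
  have hex : Function.Exact ι π := LinearMap.exact_map_mkQ_range ι
  have hπ : Function.Surjective π := Submodule.mkQ_surjective _
  have hexR : Function.Exact (ι.baseChange R) (π.baseChange R) := lTensor_exact R hex hπ
  have hfR : Function.Injective (f.baseChange R) :=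
    Module.Flat.lTensor_preserves_injective_linearMap (M := R) f hf
  have hπ1 : π 1 = 0 := by
    have : (1 : TF B C) = ι 1 := by simp [ι]
    rw [this]; exact hex.apply_apply_eq_zero 1
  have h1 : s • (π.baseChange R z) = 0 := by
    rw [← map_smul, h, LinearMap.baseChange_tmul, hπ1, tmul_zero]
  let e := TensorProduct.piScalarRight B R R (Fin n)
  have h2 : s • (e (f.baseChange R (π.baseChange R z))) = 0 := by
    rw [← map_smul, ← map_smul, h1, map_zero, map_zero]
  have h3 : e (f.baseChange R (π.baseChange R z)) = 0 := by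
    funext i
    have := congrFun h2 i
    simp only [Pi.smul_apply, smul_eq_mul, Pi.zero_apply] at this
    exact (mem_nonZeroDivisors_iff_left.mp hs) _ this
  have h4 : π.baseChange R z = 0 :=
    hfR (by rw [map_zero]; exact e.injective (by rw [map_zero]; exact h3))
  obtain ⟨t, ht⟩ := (hexR z).mp h4
  obtain ⟨r, rfl⟩ : ∃ r : R, t = r ⊗ₜ 1 :=
    ⟨TensorProduct.rid B R t, by
      conv_lhs => rw [← (TensorProduct.rid B R).symm_apply_apply t]
      rw [TensorProduct.rid_symm_apply]⟩
  rw [LinearMap.baseChange_tmul] at ht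
  have hι1 : ι 1 = 1 := by simp [ι]
  rw [hι1] at ht
  have h5 : (s * r) ⊗ₜ[B] (1 : TF B C) = a ⊗ₜ 1 := by
    rw [← h, ← ht, smul_tmul', smul_eq_mul]
  have hinjL := Algebra.TensorProduct.includeLeft_injective (R := B) (S := B) (A := R)
    (B := TF B C) (tf_algebraMap_injective B C hinj)
  exact ⟨r, (hinjL h5).symm⟩

include hinj in
theorem key_of_normal (hS : EGA4.IsNormalRing (R ⊗[B] C)) (a s : R)
    (hs : s ∈ nonZeroDivisors R) (h : Rel a s) : s ∣ a := by
  obtain ⟨w, hw⟩ := dvd_of_rel_of_isNormalRing hS (h.map (algebraMap R (R ⊗[B] C)))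
  let ψ : R ⊗[B] C →ₐ[R] R ⊗[B] TF B C :=
    Algebra.TensorProduct.map (AlgHom.id R R) (Ideal.Quotient.mkₐ B (torsIdeal B C))
  have h1 := congrArg ψ hw
  rw [map_mul, AlgHom.commutes, AlgHom.commutes, ← Algebra.smul_def] at h1
  apply dvd_of_smul_eq_tmul B C hinj R hs (ψ w)
  rw [← h1]
  rfl

end Flat


theorem isReduced_of_isNormalRing {S : Type u} [CommRing S] (h : EGA4.IsNormalRing S) :
    IsReduced S := by
  constructor
  intro x hx
  have : x ∈ (⊥ : Ideal S) := by
    apply Ideal.mem_of_localization_maximal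
    intro P hP
    obtain ⟨hd, _⟩ := h P
    have h1 : IsNilpotent (algebraMap S (Localization.AtPrime P) x) := hx.map _
    rw [Ideal.map_bot, Ideal.mem_bot]
    exact h1.eq_zero
  simpa using this

/-- **Core lemma.** Let `B` be an integrally closed domain, `C` a finite `B`-algebra containing `B`,
`R` a flat Noetherian local `B`-algebra such that `R ⊗[B] C` is a normal ring. Then `R` is an
integrally closed domain. -/
theorem core (B C : Type u) [CommRing B] [IsDomain B] [IsIntegrallyClosed B] [CommRing C]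
    [Algebra B C] [Module.Finite B C] (hinj : Function.Injective (algebraMap B C))
    (R : Type u) [CommRing R] [IsLocalRing R] [IsNoetherianRing R] [Algebra B R] [Module.Flat B R]
    (hS : EGA4.IsNormalRing (R ⊗[B] C)) : IsDomain R ∧ IsIntegrallyClosed R := by
  have key := key_of_normal B C hinj R hS
  haveI : IsReduced (R ⊗[B] C) := isReduced_of_isNormalRing hS
  haveI : IsReduced R := isReduced_of_injective (algebraMap R (R ⊗[B] C))
    (Algebra.TensorProduct.includeLeft_injective (S := R) hinj)
  haveI := isDomain_of_key R key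
  exact ⟨inferInstance, isIntegrallyClosed_of_key R key⟩

end Groth.Agent.Lib.Helper83.Norm
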