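import Mathlib
import Groth.Agent.Lib.Helper9.AdicComplEquiv
import Groth.Agent.Lib.Helper83.FlatCompl

/-!
# The adic completion of a finite algebra is the base change of the completion (helper83)

For a Noetherian ring `R₀`, an ideal `I` and a finite `R₀`-algebra `E`:
`AdicCompletion (I E) E ≃+* AdicCompletion I R₀ ⊗[R₀] E`.
-/

set_option autoImplicit false
universe u

namespace Groth.Agent.Lib.Helper83.Norm

open TensorProduct

theorem isAdicComplete_of_linearEquiv {R M N : Type*} [CommRing R] (I : Ideal R)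
    [AddCommGroup M] [Module R M] [AddCommGroup N] [Module R N] (e : M ≃ₗ[R] N)
    [h : IsAdicComplete I M] : IsAdicComplete I N := by
  rw [← AdicCompletion.of_bijective_iff] at h ⊢
  have : (AdicCompletion.of I N : N → AdicCompletion I N) =
      (AdicCompletion.congr I e) ∘ (AdicCompletion.of I M) ∘ e.symm := by
    funext x
    simp only [Function.comp_apply]
    change _ = AdicCompletion.map I e.toLinearMap _
    rw [AdicCompletion.map_of]
    simp
  rw [this]
  exact (AdicCompletion.congr I e).bijective.comp (h.comp e.symm.bijective)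

section CT

variable (R₀ : Type u) [CommRing R₀] [IsNoetherianRing R₀] (I : Ideal R₀)
  (E : Type u) [CommRing E] [Algebra R₀ E] [Module.Finite R₀ E]

set_option hygiene false in
local notation "T" => AdicCompletion I R₀ ⊗[R₀] E

theorem isAdicComplete_tensor :
    IsAdicComplete (I.map (algebraMap R₀ T)) T := by
  rw [IsAdicComplete.map_algebraMap_iff]
  haveI : IsAdicComplete I (AdicCompletion I E) :=
    AdicCompletion.isAdicComplete I.fg_of_isNoetherianRing
  exact isAdicComplete_of_linearEquiv I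
    ((AdicCompletion.ofTensorProductEquivOfFiniteNoetherian I E).restrictScalars R₀).symm

omit [IsNoetherianRing R₀] [Module.Finite R₀ E] in
theorem tmul_mem_of_mem (n : ℕ) {x : AdicCompletion I R₀}
    (hx : x ∈ (I ^ n • ⊤ : Submodule R₀ (AdicCompletion I R₀))) (e : E) :
    x ⊗ₜ[R₀] e ∈ (I.map (algebraMap R₀ T)) ^ n := by
  rw [← Ideal.map_pow]
  refine Submodule.smul_induction_on hx ?_ ?_
  · intro i hi y _
    have : (i • y) ⊗ₜ[R₀] e = algebraMap R₀ T i * (y ⊗ₜ[R₀] e) := by
      rw [← Algebra.smul_def, TensorProduct.smul_tmul']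
    rw [this]
    exact Ideal.mul_mem_right _ _ (Ideal.mem_map_of_mem _ hi)
  · intro y z hy hz
    rw [TensorProduct.add_tmul]
    exact Ideal.add_mem _ hy hz

theorem nonempty_ringEquiv_tensor :
    Nonempty (AdicCompletion (I.map (algebraMap R₀ E)) E ≃+* AdicCompletion I R₀ ⊗[R₀] E) := by
  let Φ : E →ₐ[R₀] T := Algebra.TensorProduct.includeRight
  have hΦ : I.map (algebraMap R₀ E) ≤ (I.map (algebraMap R₀ T)).comap Φ := by
    rw [Ideal.map_le_iff_le_comap]
    intro x hx
    rw [Ideal.mem_comap, Ideal.mem_comap, AlgHom.commutes]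
    exact Ideal.mem_map_of_mem _ hx
  have hsurj : ∀ (n : ℕ) (t : T), ∃ e : E, t - Φ e ∈ (I.map (algebraMap R₀ T)) ^ n := by
    intro n t
    induction t using TensorProduct.induction_on with
    | zero => exact ⟨0, by simp⟩
    | tmul β e =>
      obtain ⟨b, hb⟩ := Groth.Agent.Lib.Helper83.FlatCompl.exists_sub_of_mem I n β
      refine ⟨b • e, ?_⟩
      have : β ⊗ₜ[R₀] e - Φ (b • e) = (β - algebraMap R₀ (AdicCompletion I R₀) b) ⊗ₜ[R₀] e := by
        rw [TensorProduct.sub_tmul]
        congr 1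
        change (1 : AdicCompletion I R₀) ⊗ₜ[R₀] (b • e) = _
        rw [← TensorProduct.smul_tmul, Algebra.smul_def, mul_one]
      rw [this]
      exact tmul_mem_of_mem R₀ I E n hb e
    | add x y hx hy =>
      obtain ⟨e₁, h₁⟩ := hx
      obtain ⟨e₂, h₂⟩ := hy
      refine ⟨e₁ + e₂, ?_⟩
      have : x + y - Φ (e₁ + e₂) = (x - Φ e₁) + (y - Φ e₂) := by rw [map_add]; ring
      rw [this]
      exact Ideal.add_mem _ h₁ h₂
  have hinj : ∀ (n : ℕ) (e : E), Φ e ∈ (I.map (algebraMap R₀ T)) ^ n →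
      e ∈ (I.map (algebraMap R₀ E)) ^ n := by
    intro n e he
    have hle : I ^ n ≤ ((I.map (algebraMap R₀ E)) ^ n).comap (Algebra.ofId R₀ E) := by
      rw [← Ideal.map_pow]
      exact Ideal.le_comap_map
    let f : AdicCompletion I R₀ →ₐ[R₀] E ⧸ (I.map (algebraMap R₀ E)) ^ n :=
      (Ideal.quotientMapₐ ((I.map (algebraMap R₀ E)) ^ n) (Algebra.ofId R₀ E) hle).comp
        (AdicCompletion.evalₐ I n)
    let g : E →ₐ[R₀] E ⧸ (I.map (algebraMap R₀ E)) ^ n := Ideal.Quotient.mkₐ R₀ _
    let ψ : T →ₐ[R₀] E ⧸ (I.map (algebraMap R₀ E)) ^ n :=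
      Algebra.TensorProduct.lift f g (fun _ _ => Commute.all _ _)
    have hker : (I.map (algebraMap R₀ T)) ^ n ≤ RingHom.ker ψ.toRingHom := by
      rw [← Ideal.map_pow, Ideal.map_le_iff_le_comap]
      intro i hi
      rw [Ideal.mem_comap, RingHom.mem_ker]
      change ψ (algebraMap R₀ T i) = 0
      rw [AlgHom.commutes]
      change Ideal.Quotient.mk _ (algebraMap R₀ E i) = 0
      rw [Ideal.Quotient.eq_zero_iff_mem, ← Ideal.map_pow]
      exact Ideal.mem_map_of_mem _ hi
    have h1 : ψ (Φ e) = 0 := hker he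
    have h2 : ψ (Φ e) = Ideal.Quotient.mk _ e := by
      change ψ ((1 : AdicCompletion I R₀) ⊗ₜ[R₀] e) = _
      rw [Algebra.TensorProduct.lift_tmul, map_one, one_mul]
      rfl
    rw [h2, Ideal.Quotient.eq_zero_iff_mem] at h1
    exact h1
  obtain ⟨ε⟩ := Groth.Agent.Lib.Helper9.AdicComplEquiv.exists_algEquiv
    (I.map (algebraMap R₀ E)) (I.map (algebraMap R₀ T)) Φ hΦ hinj hsurj
  haveI := isAdicComplete_tensor R₀ I E
  exact ⟨ε.toRingEquiv.trans
    (AdicCompletion.ofAlgEquiv (I.map (algebraMap R₀ T))).symm.toRingEquiv⟩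

end CT

end Groth.Agent.Lib.Helper83.Norm
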