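import Mathlib
import Groth.Agent.Lib.Helper83.NormA
import Groth.Agent.Lib.Helper83.NormB
import Groth.Agent.Lib.Lead.NormalDescent
import Groth.Agent.S9412

/-!
# Completion of a normal finite subalgebra (helper83)
-/

set_option autoImplicit false
universe u

namespace Groth.Agent.Lib.Helper83.Norm

open TensorProduct

/-- Let `B` be a Noetherian normal ring, `I` an ideal, `C` a finite `B`-algebra containing `B`
such that `B̂ ⊗[B] C` is normal (`B̂` the `I`-adic completion). Then `B̂` is normal. -/
theorem isNormalRing_adicCompletion_of_tensor (B C : Type u) [CommRing B] [IsNoetherianRing B]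
    [CommRing C] [Algebra B C] [Module.Finite B C] (hinj : Function.Injective (algebraMap B C))
    (hB : EGA4.IsNormalRing B) (I : Ideal B)
    (hS : EGA4.IsNormalRing (AdicCompletion I B ⊗[B] C)) :
    EGA4.IsNormalRing (AdicCompletion I B) := by
  intro Q hQ
  haveI : IsNoetherianRing (AdicCompletion I B) :=
    Groth.Agent.Lib.Helper63.CompletionNoeth.isNoetherianRing_adicCompletion B I
  let 𝔫 : Ideal B := Q.under B
  obtain ⟨hd, hic⟩ := hB 𝔫
  letI : Algebra (Localization.AtPrime 𝔫) (Localization.AtPrime Q) :=
    Localization.AtPrime.algebraOfLiesOver 𝔫 Q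
  haveI : IsNoetherianRing (Localization.AtPrime Q) :=
    IsLocalization.isNoetherianRing Q.primeCompl _ inferInstance
  haveI : Module.Flat (Localization.AtPrime 𝔫) (Localization.AtPrime Q) := inferInstance
  have hinj₀ : Function.Injective
      (algebraMap (Localization.AtPrime 𝔫) (Localization.AtPrime 𝔫 ⊗[B] C)) :=
    Algebra.TensorProduct.includeLeft_injective (S := Localization.AtPrime 𝔫) hinj
  refine core (Localization.AtPrime 𝔫) (Localization.AtPrime 𝔫 ⊗[B] C) hinj₀
    (Localization.AtPrime Q) ?_
  let e1 := Algebra.TensorProduct.cancelBaseChange B (Localization.AtPrime 𝔫)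
    (Localization.AtPrime 𝔫) (Localization.AtPrime Q) C
  let e2 := Algebra.TensorProduct.cancelBaseChange B (AdicCompletion I B)
    (AdicCompletion I B) (Localization.AtPrime Q) C
  let e3 := Algebra.TensorProduct.comm (AdicCompletion I B) (AdicCompletion I B ⊗[B] C)
    (Localization.AtPrime Q)
  have hloc : EGA4.IsNormalRing ((AdicCompletion I B ⊗[B] C) ⊗[AdicCompletion I B]
      (Localization.AtPrime Q)) :=
    Groth.Agent.S9412.isNormalRing_of_isLocalization
      (Algebra.algebraMapSubmonoid (AdicCompletion I B ⊗[B] C) Q.primeCompl) _ hS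
  exact Groth.Agent.Lib.Lead.isNormalRing_of_ringEquiv
    (e1.toRingEquiv.trans (e2.symm.toRingEquiv.trans e3.symm.toRingEquiv)) hloc

/-- Let `A` be a Noetherian local ring and `B ⊆ C` finite `A`-algebras with `B` normal and the
`m`-adic completion of `C` normal. Then the `m`-adic completion of `B` is normal. -/
theorem main (A : Type u) [CommRing A] [IsLocalRing A] [IsNoetherianRing A]
    (B C : Type u) [CommRing B] [CommRing C] [Algebra A B] [Algebra A C] [Algebra B C]
    [IsScalarTower A B C]
    [Module.Finite A B] [Module.Finite A C] (hinj : Function.Injective (algebraMap B C))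
    (hB : EGA4.IsNormalRing B)
    (hC : EGA4.IsNormalRing
      (AdicCompletion ((IsLocalRing.maximalIdeal A).map (algebraMap A C)) C)) :
    EGA4.IsNormalRing (AdicCompletion ((IsLocalRing.maximalIdeal A).map (algebraMap A B)) B) := by
  haveI : IsNoetherianRing B := IsNoetherianRing.of_finite A B
  haveI : Module.Finite B C := Module.Finite.of_restrictScalars_finite A B C
  have hI : ((IsLocalRing.maximalIdeal A).map (algebraMap A B)).map (algebraMap B C) =
      (IsLocalRing.maximalIdeal A).map (algebraMap A C) := by
    rw [Ideal.map_map, ← IsScalarTower.algebraMap_eq]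
  rw [← hI] at hC
  obtain ⟨e⟩ := nonempty_ringEquiv_tensor B ((IsLocalRing.maximalIdeal A).map (algebraMap A B)) C
  exact isNormalRing_adicCompletion_of_tensor B C hinj hB _
    (Groth.Agent.Lib.Lead.isNormalRing_of_ringEquiv e.symm hC)

end Groth.Agent.Lib.Helper83.Norm
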