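import Mathlib
import Groth.Prelude.Def_CAlg
import Groth.Agent.S15797
import Groth.Agent.Lib.Helper29.Depth
set_option autoImplicit false
universe u

namespace Groth.Agent.Lib.Helper83.ProjCM

open DirectSum IsLocalRing

section
variable {A : Type u} [CommRing A] (𝒜 : ℕ → AddSubgroup A) [GradedRing 𝒜]
  (p : Ideal A) [hpp : p.IsPrime]
  {S : Type u} [CommRing S] (ι : S →+* Localization.AtPrime p)

/-- `ι` identifies `S` with the subring of degree-zero fractions of `A_p`. -/
structure DegZero : Prop where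
  inj : Function.Injective ι
  hr1 : ∀ r : S, ∃ (n : ℕ) (b s : A) (hs : s ∈ p.primeCompl), b ∈ 𝒜 n ∧ s ∈ 𝒜 n ∧
      ι r = IsLocalization.mk' (Localization.AtPrime p) b ⟨s, hs⟩
  hr2 : ∀ (n : ℕ) (b s : A) (hs : s ∈ p.primeCompl), b ∈ 𝒜 n → s ∈ 𝒜 n →
      ∃ r : S, ι r = IsLocalization.mk' (Localization.AtPrime p) b ⟨s, hs⟩

theorem exists_component_notMem (w : A) (hw : w ∉ p) : ∃ i, (decompose 𝒜 w i : A) ∉ p := by
  classical
  by_contra hcon
  push Not at hcon
  apply hw
  rw [← DirectSum.sum_support_decompose 𝒜 w]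
  exact Ideal.sum_mem _ fun i _ => hcon i

variable {𝒜 p ι}

/-- The auxiliary predicate for cyclic purity. -/
def Phi (I : Ideal S) (c : A) : Prop :=
  ∀ (N M' : ℕ) (a' t : A) (ht : t ∈ p.primeCompl), a' ∈ 𝒜 M' → t ∈ 𝒜 (N + M') →
    ∃ x ∈ I, ι x = IsLocalization.mk' (Localization.AtPrime p) (a' * (decompose 𝒜 c N : A)) ⟨t, ht⟩

theorem phi_zero (I : Ideal S) : Phi (𝒜 := 𝒜) (p := p) (ι := ι) I 0 := by
  intro N M' a' t ht _ _
  refine ⟨0, I.zero_mem, ?_⟩
  rw [decompose_zero, DirectSum.zero_apply, ZeroMemClass.coe_zero, mul_zero, map_zero,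
    IsLocalization.mk'_zero]

theorem phi_add (I : Ideal S) {c c' : A} (h : Phi (𝒜 := 𝒜) (p := p) (ι := ι) I c)
    (h' : Phi (𝒜 := 𝒜) (p := p) (ι := ι) I c') : Phi (𝒜 := 𝒜) (p := p) (ι := ι) I (c + c') := by
  intro N M' a' t ht ha' htN
  obtain ⟨x, hx, hx'⟩ := h N M' a' t ht ha' htN
  obtain ⟨x', hx2, hx2'⟩ := h' N M' a' t ht ha' htN
  refine ⟨x + x', I.add_mem hx hx2, ?_⟩
  rw [map_add, hx', hx2', decompose_add, DirectSum.add_apply, AddMemClass.coe_add, mul_add,
    IsLocalization.mk'_eq_mul_mk'_one, IsLocalization.mk'_eq_mul_mk'_one (a' * _),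
    IsLocalization.mk'_eq_mul_mk'_one (a' * _ + _), map_add, add_mul]

theorem phi_mul_homogeneous (I : Ideal S) {c : A} (h : Phi (𝒜 := 𝒜) (p := p) (ι := ι) I c)
    {i : ℕ} {a : A} (ha : a ∈ 𝒜 i) : Phi (𝒜 := 𝒜) (p := p) (ι := ι) I (a * c) := by
  intro N M' a' t ht ha' htN
  by_cases hi : i ≤ N
  · rw [coe_decompose_mul_of_left_mem_of_le 𝒜 ha hi, ← mul_assoc]
    have hdeg : N + M' = (N - i) + (M' + i) := by omega
    exact h (N - i) (M' + i) (a' * a) t ht (SetLike.mul_mem_graded ha' ha) (hdeg ▸ htN)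
  · refine ⟨0, I.zero_mem, ?_⟩
    rw [coe_decompose_mul_of_left_mem_of_not_le 𝒜 ha hi, mul_zero, map_zero,
      IsLocalization.mk'_zero]

theorem phi_mul (I : Ideal S) {c : A} (h : Phi (𝒜 := 𝒜) (p := p) (ι := ι) I c) (a : A) :
    Phi (𝒜 := 𝒜) (p := p) (ι := ι) I (a * c) := by
  induction a using DirectSum.Decomposition.inductionOn 𝒜 with
  | zero => rw [zero_mul]; exact phi_zero I
  | homogeneous m => exact phi_mul_homogeneous I h m.2
  | add m m' hm hm' => rw [add_mul]; exact phi_add I hm hm'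


/-- The homogeneous numerators of the elements of `ι(I)`. -/
def gens (𝒜 : ℕ → AddSubgroup A) (p : Ideal A) [p.IsPrime]
    (ι : S →+* Localization.AtPrime p) (I : Ideal S) : Set A :=
  {g | ∃ (k : ℕ) (s' : A) (hs' : s' ∈ p.primeCompl) (x : S), g ∈ 𝒜 k ∧ s' ∈ 𝒜 k ∧ x ∈ I ∧
    ι x = IsLocalization.mk' (Localization.AtPrime p) g ⟨s', hs'⟩}

theorem phi_of_mem_gens (H : DegZero 𝒜 p ι) (I : Ideal S) {g : A} (hg : g ∈ gens 𝒜 p ι I) :
    Phi (𝒜 := 𝒜) (p := p) (ι := ι) I g := by
  obtain ⟨k, s', hs', x, hgk, hs'k, hxI, hx⟩ := hg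
  intro N M' a' t ht ha' htN
  by_cases hN : N = k
  · subst hN
    rw [DirectSum.decompose_of_mem_same 𝒜 hgk]
    have hdeg : M' + N = N + M' := add_comm _ _
    obtain ⟨w, hw⟩ := H.hr2 (N + M') (a' * s') t ht (hdeg ▸ SetLike.mul_mem_graded ha' hs'k) htN
    refine ⟨w * x, I.mul_mem_left w hxI, ?_⟩
    rw [map_mul, hw, hx, ← IsLocalization.mk'_mul, IsLocalization.mk'_eq_iff_eq]
    congr 1
    simp only [Submonoid.coe_mul]
    ring
  · refine ⟨0, I.zero_mem, ?_⟩
    rw [DirectSum.decompose_of_mem_ne 𝒜 hgk (Ne.symm hN), mul_zero, map_zero,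
      IsLocalization.mk'_zero]

theorem phi_of_mem_span (H : DegZero 𝒜 p ι) (I : Ideal S) {c : A}
    (hc : c ∈ Ideal.span (gens 𝒜 p ι I)) : Phi (𝒜 := 𝒜) (p := p) (ι := ι) I c := by
  induction hc using Submodule.span_induction with
  | mem g hg => exact phi_of_mem_gens H I hg
  | zero => exact phi_zero I
  | add c c' _ _ h h' => exact phi_add I h h'
  | smul a c _ h => exact phi_mul I h a

/-- Cyclic purity of the inclusion of the degree-zero fractions into `A_p`. -/
theorem mem_of_map_mem (H : DegZero 𝒜 p ι) (I : Ideal S) (y : S) (hy : ι y ∈ I.map ι) : y ∈ I := by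
  obtain ⟨n, b, s, hs, hb, hsn, hyb⟩ := H.hr1 y
  have h1 : I.map ι ≤ (Ideal.span (gens 𝒜 p ι I)).map (algebraMap A (Localization.AtPrime p)) := by
    rw [Ideal.map_le_iff_le_comap]
    intro x hx
    obtain ⟨k, g, s', hs', hg, hs'k, hxg⟩ := H.hr1 x
    rw [Ideal.mem_comap, hxg, IsLocalization.mk'_eq_mul_mk'_one]
    apply Ideal.mul_mem_right
    apply Ideal.mem_map_of_mem
    exact Ideal.subset_span ⟨k, s', hs', x, hg, hs'k, hx, hxg⟩
  have h2 := h1 hy
  rw [hyb, IsLocalization.mk'_mem_map_algebraMap_iff p.primeCompl] at h2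
  obtain ⟨v, hv, hvb⟩ := h2
  obtain ⟨e, he⟩ := exists_component_notMem 𝒜 p v hv
  have hphi := phi_of_mem_span H I hvb
  have hts : (decompose 𝒜 v e : A) * s ∈ p.primeCompl := by
    intro hmem
    rcases hpp.mem_or_mem hmem with h | h
    · exact he h
    · exact hs h
  obtain ⟨x, hxI, hx⟩ := hphi (e + n) 0 1 ((decompose 𝒜 v e : A) * s) hts
    (SetLike.GradedOne.one_mem) (by
      rw [add_zero]
      exact SetLike.mul_mem_graded (SetLike.coe_mem _) hsn)
  have hle : n ≤ e + n := Nat.le_add_left _ _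
  rw [coe_decompose_mul_of_right_mem_of_le 𝒜 hb hle, Nat.add_sub_cancel, one_mul] at hx
  have hxy : ι x = ι y := by
    rw [hx, hyb, IsLocalization.mk'_eq_iff_eq]
    congr 1
    simp only
    ring
  rw [← H.inj hxy]
  exact hxI


/-- `ι` is a local homomorphism. -/
theorem map_mem_maximalIdeal (H : DegZero 𝒜 p ι) [IsLocalRing S] {x : S}
    (hx : x ∈ maximalIdeal S) : ι x ∈ maximalIdeal (Localization.AtPrime p) := by
  obtain ⟨n, b, s, hs, hb, hsn, hxb⟩ := H.hr1 x
  rw [hxb, IsLocalization.AtPrime.mk'_mem_maximal_iff (Localization.AtPrime p) p]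
  by_contra hbp
  obtain ⟨x', hx'⟩ := H.hr2 n s b hbp hsn hb
  have h1 : ι (x * x') = ι 1 := by
    rw [map_mul, hxb, hx', map_one]
    exact IsLocalization.mk'_mul_mk'_eq_one ⟨b, hbp⟩ ⟨s, hs⟩
  have h2 : x * x' = 1 := H.inj h1
  exact hx (IsUnit.of_mul_eq_one _ h2)

/-- The maximal ideal of `A_p` is the radical of the extension of the maximal ideal of `S`. -/
theorem maximalIdeal_le_radical (H : DegZero 𝒜 p ι) [IsLocalRing S] (hph : p.IsHomogeneous 𝒜)
    {f : A} {d : ℕ} (hd : 0 < d) (hf : f ∈ 𝒜 d) (hfp : f ∉ p) :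
    maximalIdeal (Localization.AtPrime p) ≤ ((maximalIdeal S).map ι).radical := by
  classical
  -- homogeneous elements of `p`
  have hhom : ∀ (i : ℕ) (c : A), c ∈ 𝒜 i → c ∈ p →
      algebraMap A (Localization.AtPrime p) c ∈ ((maximalIdeal S).map ι).radical := by
    intro i c hc hcp
    have hfi : f ^ i ∈ p.primeCompl := fun h => hfp (hpp.mem_of_pow_mem _ h)
    have hdeg : i • d = d • i := by simp [mul_comm]
    obtain ⟨x, hx⟩ := H.hr2 (d • i) (c ^ d) (f ^ i) hfi (SetLike.pow_mem_graded d hc)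
      (hdeg ▸ SetLike.pow_mem_graded i hf)
    have hxm : x ∈ maximalIdeal S := by
      by_contra hxu
      rw [mem_maximalIdeal, mem_nonunits_iff, not_not] at hxu
      have hu : IsUnit (ι x) := hxu.map ι
      rw [hx, IsLocalization.AtPrime.isUnit_mk'_iff (Localization.AtPrime p) p] at hu
      exact hu (Ideal.pow_mem_of_mem p hcp d hd)
    refine ⟨d, ?_⟩
    have h1 : (algebraMap A (Localization.AtPrime p) c) ^ d =
        ι x * algebraMap A (Localization.AtPrime p) (f ^ i) := by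
      rw [hx, ← map_pow]
      exact (IsLocalization.mk'_spec (Localization.AtPrime p) (c ^ d) ⟨f ^ i, hfi⟩).symm
    rw [h1]
    exact Ideal.mul_mem_right _ _ (Ideal.mem_map_of_mem ι hxm)
  intro z hz
  obtain ⟨a, t, rfl⟩ := IsLocalization.exists_mk'_eq p.primeCompl z
  rw [IsLocalization.AtPrime.mk'_mem_maximal_iff (Localization.AtPrime p) p] at hz
  rw [IsLocalization.mk'_eq_mul_mk'_one]
  apply Ideal.mul_mem_right
  rw [← DirectSum.sum_support_decompose 𝒜 a, map_sum]
  refine Ideal.sum_mem _ fun i _ => ?_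
  exact hhom i _ (SetLike.coe_mem _) (hph i hz)

/-- Weak regularity descends along a cyclically pure ring homomorphism. -/
theorem isWeaklyRegular_of_pure {S R : Type u} [CommRing S] [CommRing R] (φ : S →+* R)
    (hpure : ∀ (I : Ideal S) (y : S), φ y ∈ I.map φ → y ∈ I) (xs : List S)
    (h : RingTheory.Sequence.IsWeaklyRegular R (xs.map φ)) :
    RingTheory.Sequence.IsWeaklyRegular S xs := by
  refine ⟨fun i hi => ?_⟩
  rw [isSMulRegular_quotient_iff_mem_of_smul_mem]
  intro y hy
  have hi' : i < (xs.map φ).length := by rw [List.length_map]; exact hi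
  have hreg := h.regular_mod_prev i hi'
  rw [isSMulRegular_quotient_iff_mem_of_smul_mem] at hreg
  have hy1 : xs[i] * y ∈ Ideal.ofList (xs.take i) := by
    simpa [smul_eq_mul, Ideal.mul_top] using hy
  have hy2 : (xs.map φ)[i] • φ y ∈
      (Ideal.ofList ((xs.map φ).take i) • ⊤ : Submodule R R) := by
    rw [smul_eq_mul, Ideal.mul_top, List.getElem_map, ← List.map_take, ← Ideal.map_ofList,
      smul_eq_mul, ← map_mul]
    exact Ideal.mem_map_of_mem φ hy1
  have hy3 := hreg (φ y) hy2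
  rw [smul_eq_mul, Ideal.mul_top, ← List.map_take, ← Ideal.map_ofList] at hy3
  have hy4 := hpure _ _ hy3
  simpa [smul_eq_mul, Ideal.mul_top] using hy4


/-- Main algebraic theorem: the ring of degree-zero fractions of a Cohen–Macaulay `A_p`
(`p` a relevant homogeneous prime) is Cohen–Macaulay, provided its dimension is at most `dim A_p`. -/
theorem isCM_degZero (H : DegZero 𝒜 p ι) [IsNoetherianRing S] [IsLocalRing S]
    (hph : p.IsHomogeneous 𝒜)
    {f : A} {d : ℕ} (hd : 0 < d) (hf : f ∈ 𝒜 d) (hfp : f ∉ p)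
    (hdim : ringKrullDim S ≤ ringKrullDim (Localization.AtPrime p))
    (hCM : LocCoh.IsCohenMacaulayLocalRing (Localization.AtPrime p)) :
    LocCoh.IsCohenMacaulayLocalRing S := by
  classical
  haveI : IsNoetherianRing (Localization.AtPrime p) := hCM.toIsNoetherian
  set R := Localization.AtPrime p with hR
  -- a system of parameters of `S`
  obtain ⟨s, hsmin, hscard⟩ :=
    Ideal.exists_finset_card_eq_height_of_isNoetherianRing (maximalIdeal S)
  have hht : (maximalIdeal S).height = ringKrullDim S := IsLocalRing.maximalIdeal_height_eq_ringKrullDim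
  -- radical of span s is the maximal ideal
  have hrad : maximalIdeal S ≤ (Ideal.span (s : Set S)).radical := by
    rw [Ideal.radical_eq_sInf]
    refine le_sInf ?_
    rintro q ⟨hsq, hqprime⟩
    have hqm : q ≤ maximalIdeal S := IsLocalRing.le_maximalIdeal hqprime.ne_top
    exact hsmin.2 ⟨hqprime, hsq⟩ hqm
  -- the extension of span s to R has radical containing the maximal ideal
  have hradR : maximalIdeal R ≤ ((Ideal.span (s : Set S)).map ι).radical := by
    refine (maximalIdeal_le_radical H hph hd hf hfp).trans ?_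
    rw [Ideal.radical_le_radical_iff, Ideal.map_le_iff_le_comap, Ideal.comap_radical]
    refine hrad.trans (Ideal.radical_mono ?_)
    exact Ideal.le_comap_map
  -- dim R ≤ card s
  have hminR : maximalIdeal R ∈ (Ideal.span ((s.image ι : Finset R) : Set R)).minimalPrimes := by
    have hspan : Ideal.span ((s.image ι : Finset R) : Set R) = (Ideal.span (s : Set S)).map ι := by
      rw [Ideal.map_span, Finset.coe_image]
    rw [hspan]
    refine ⟨⟨inferInstance, ?_⟩, ?_⟩
    · rw [Ideal.map_le_iff_le_comap]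
      intro x hx
      exact map_mem_maximalIdeal H (hsmin.1.2 hx)
    · rintro q ⟨hqprime, hq⟩ _
      exact hradR.trans (hqprime.radical_le_iff.mpr hq)
  have hdimR : ringKrullDim R ≤ ringKrullDim S := by
    rw [← IsLocalRing.maximalIdeal_height_eq_ringKrullDim, ← hht]
    apply WithBot.coe_le_coe.mpr
    refine (Ideal.height_le_card_of_mem_minimalPrimes_span_finset hminR).trans ?_
    rw [← hscard]
    exact_mod_cast Finset.card_image_le
  have hdimeq : ringKrullDim R = ringKrullDim S := le_antisymm hdimR hdim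
  -- n
  set n := s.card with hn
  have hSn : ringKrullDim S = (n : WithBot ℕ∞) := by
    rw [← hht, ← hscard]; rfl
  have hRn : ringKrullDim R = (n : WithBot ℕ∞) := hdimeq.trans hSn
  -- the list
  set xs := s.toList with hxs
  have hlen : xs.length = n := Finset.length_toList s
  have hofList : Ideal.ofList xs = Ideal.span (s : Set S) := by
    unfold Ideal.ofList
    congr 1
    ext x
    simp [hxs]
  have hmemS : ∀ x ∈ xs, x ∈ maximalIdeal S := by
    intro x hx
    rw [hxs, Finset.mem_toList] at hx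
    exact hsmin.1.2 (Ideal.subset_span hx)
  have hCM' : LocCoh.IsCohenMacaulayModule R R := hCM.supportDim_eq_depth
  have hregR : RingTheory.Sequence.IsWeaklyRegular R (xs.map ι) := by
    refine Groth.Agent.S15797.isWeaklyRegular_of_sop R hCM' n (by exact_mod_cast hRn) (xs.map ι)
      (by rw [List.length_map, hlen]) ?_ ?_
    · intro r hr
      obtain ⟨x, hx, rfl⟩ := List.mem_map.1 hr
      exact map_mem_maximalIdeal H (hmemS x hx)
    · rw [← Ideal.map_ofList, hofList]
      exact hradR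
  have hregS : RingTheory.Sequence.IsWeaklyRegular S xs :=
    isWeaklyRegular_of_pure ι (mem_of_map_mem H) xs hregR
  have hdepth : (n : ℕ∞) ≤ LocCoh.depth S S := by
    have := Groth.Agent.Lib.Helper29.DepthLib.length_le_idealDepth (maximalIdeal S) S hregS hmemS
    rwa [hlen] at this
  have hle := Groth.Agent.Lib.Helper29.DepthLib.depth_le_supportDim S S
  refine ⟨?_⟩
  rw [Module.supportDim_self_eq_ringKrullDim] at hle ⊢
  refine le_antisymm ?_ hle
  rw [hSn]
  exact_mod_cast hdepth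

end


section Stalk
open AlgebraicGeometry

abbrev pt {A : Type u} [CommRing A] (𝒜 : ℕ → AddSubgroup A) [GradedRing 𝒜] (x : Proj 𝒜) :
    ProjectiveSpectrum 𝒜 := x

instance {A : Type u} [CommRing A] (𝒜 : ℕ → AddSubgroup A) [GradedRing 𝒜] (x : Proj 𝒜) :
    (pt 𝒜 x).asHomogeneousIdeal.toIdeal.IsPrime := (pt 𝒜 x).isPrime

theorem hdim_stalk {A : Type u} [CommRing A] (𝒜 : ℕ → AddSubgroup A) [GradedRing 𝒜] (x : Proj 𝒜) :
    ringKrullDim ((Proj 𝒜).presheaf.stalk x) ≤
      ringKrullDim (Localization.AtPrime (pt 𝒜 x).asHomogeneousIdeal.toIdeal) := by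
  rw [ringKrullDim_stalk_eq_coheight,
    IsLocalization.AtPrime.ringKrullDim_eq_height (pt 𝒜 x).asHomogeneousIdeal.toIdeal
      (Localization.AtPrime (pt 𝒜 x).asHomogeneousIdeal.toIdeal)]
  apply WithBot.coe_le_coe.mpr
  let g : (Proj 𝒜)ᵒᵈ → PrimeSpectrum A := fun z =>
    ⟨(pt 𝒜 (OrderDual.ofDual z)).asHomogeneousIdeal.toIdeal, (pt 𝒜 (OrderDual.ofDual z)).isPrime⟩
  have hspec : ∀ a b : ProjectiveSpectrum 𝒜, (a ⤳ b) ↔ a ≤ b := by
    intro a b
    rw [specializes_iff_mem_closure, ProjectiveSpectrum.le_iff_mem_closure]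
  have hg : StrictMono g := by
    intro z z' hzz'
    have h1 : (pt 𝒜 (OrderDual.ofDual z)) ⤳ (pt 𝒜 (OrderDual.ofDual z')) := hzz'.le
    have h2 : ¬ (pt 𝒜 (OrderDual.ofDual z')) ⤳ (pt 𝒜 (OrderDual.ofDual z)) := hzz'.not_ge
    rw [hspec] at h1 h2
    refine lt_of_le_of_ne ?_ ?_
    · exact h1
    · intro heq
      apply h2
      have : (pt 𝒜 (OrderDual.ofDual z)).asHomogeneousIdeal.toIdeal =
          (pt 𝒜 (OrderDual.ofDual z')).asHomogeneousIdeal.toIdeal :=
        congrArg PrimeSpectrum.asIdeal heq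
      intro a ha
      change a ∈ (pt 𝒜 (OrderDual.ofDual z)).asHomogeneousIdeal.toIdeal
      rw [this]
      exact ha
  have := Order.height_le_height_apply_of_strictMono g hg (OrderDual.toDual x)
  rw [Order.height_toDual] at this
  refine this.trans (le_of_eq ?_)
  exact (PrimeSpectrum.height_eq_orderHeight _).symm

end Stalk

end Groth.Agent.Lib.Helper83.ProjCM
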