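import Mathlib
import Groth.Agent.Lib.Helper83.ProjCM
set_option autoImplicit false
universe u

namespace Groth.Agent.Lib.Helper83.ProjFlat

open DirectSum IsLocalRing Polynomial Groth.Agent.Lib.Helper83.ProjCM

section
variable {A : Type u} [CommRing A] {𝒜 : ℕ → AddSubgroup A} [GradedRing 𝒜]
  {p : Ideal A} [hpp : p.IsPrime]
  {S : Type u} [CommRing S] {ι : S →+* Localization.AtPrime p}
  (H : DegZero 𝒜 p ι) {d : ℕ} {f₁ f₂ : A} (hf₁ : f₁ ∈ 𝒜 d) (hf₂ : f₂ ∈ 𝒜 (d + 1))
  (h₁ : f₁ ∈ p.primeCompl) (h₂ : f₂ ∈ p.primeCompl)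

/-- The degree-one unit `f₂ / f₁`. -/
noncomputable def uu (h₁ : f₁ ∈ p.primeCompl) (f₂ : A) : Localization.AtPrime p :=
  IsLocalization.mk' (Localization.AtPrime p) f₂ ⟨f₁, h₁⟩

include h₂ in
theorem isUnit_uu : IsUnit (uu h₁ f₂) :=
  (IsLocalization.AtPrime.isUnit_mk'_iff (Localization.AtPrime p) p f₂ ⟨f₁, h₁⟩).2 h₂

theorem uu_pow (i : ℕ) : (uu h₁ f₂) ^ i =
    IsLocalization.mk' (Localization.AtPrime p) (f₂ ^ i) (⟨f₁, h₁⟩ ^ i : p.primeCompl) := by
  unfold uu
  rw [IsLocalization.mk'_pow]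

include H hf₁ hf₂ h₂ in
/-- Every homogeneous element of degree `i` is a degree-zero fraction times `u ^ i`. -/
theorem exists_monomial (i : ℕ) (a : A) (ha : a ∈ 𝒜 i) :
    ∃ x : S, algebraMap A (Localization.AtPrime p) a = ι x * (uu h₁ f₂) ^ i := by
  have hf₂i : f₂ ^ i ∈ p.primeCompl := fun h => h₂ (hpp.mem_of_pow_mem _ h)
  have hdeg : i + i • d = i • (d + 1) := by simp [mul_add, add_comm]
  obtain ⟨x, hx⟩ := H.hr2 (i • (d + 1)) (a * f₁ ^ i) (f₂ ^ i) hf₂i
    (hdeg ▸ SetLike.mul_mem_graded ha (SetLike.pow_mem_graded i hf₁)) (SetLike.pow_mem_graded i hf₂)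
  refine ⟨x, ?_⟩
  rw [hx, uu_pow, ← IsLocalization.mk'_mul, eq_comm, IsLocalization.mk'_eq_iff_eq_mul, ← map_mul]
  congr 1
  simp only [Submonoid.coe_mul, SubmonoidClass.coe_pow]
  ring


/-- The evaluation map `S[X] → A_p`, `X ↦ u`. -/
noncomputable def phi (ι : S →+* Localization.AtPrime p) (h₁ : f₁ ∈ p.primeCompl) (f₂ : A) :
    S[X] →+* Localization.AtPrime p :=
  Polynomial.eval₂RingHom ι (uu h₁ f₂)

include H hf₁ hf₂ h₂ in
/-- Every element of `A` is the image of a polynomial, coefficientwise. -/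
theorem exists_poly (v : A) : ∃ V : S[X], phi ι h₁ f₂ V = algebraMap A (Localization.AtPrime p) v ∧
    ∀ e, ι (V.coeff e) * (uu h₁ f₂) ^ e =
      algebraMap A (Localization.AtPrime p) (decompose 𝒜 v e : A) := by
  induction v using DirectSum.Decomposition.inductionOn 𝒜 with
  | zero =>
    refine ⟨0, by simp, fun e => ?_⟩
    simp
  | @homogeneous i m =>
    obtain ⟨x, hx⟩ := exists_monomial H hf₁ hf₂ h₁ h₂ i m m.2
    refine ⟨Polynomial.monomial i x, ?_, fun e => ?_⟩
    · rw [hx]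
      simp [phi, Polynomial.eval₂_monomial]
    · rw [Polynomial.coeff_monomial]
      by_cases hie : i = e
      · subst hie
        rw [if_pos rfl, DirectSum.decompose_of_mem_same 𝒜 m.2, hx]
      · rw [if_neg hie, DirectSum.decompose_of_mem_ne 𝒜 m.2 hie]
        simp
  | add m m' hm hm' =>
    obtain ⟨V, hV, hV'⟩ := hm
    obtain ⟨W, hW, hW'⟩ := hm'
    refine ⟨V + W, by rw [map_add, hV, hW, map_add], fun e => ?_⟩
    rw [Polynomial.coeff_add, map_add, add_mul, hV', hW', decompose_add, DirectSum.add_apply,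
      AddMemClass.coe_add, map_add]

/-- Component formula for a product when the second factor lives in degrees `≥ K`. -/
theorem decompose_mul_shift (c β : A) (K : ℕ) (hβ : ∀ j < K, (decompose 𝒜 β j : A) = 0) (m : ℕ) :
    (decompose 𝒜 (c * β) (K + m) : A) =
      ∑ x ∈ Finset.HasAntidiagonal.antidiagonal m, (decompose 𝒜 c x.1 : A) * (decompose 𝒜 β (K + x.2) : A) := by
  induction c using DirectSum.Decomposition.inductionOn 𝒜 with
  | zero => simp
  | @homogeneous e₀ c =>
    by_cases h1 : e₀ ≤ m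
    · rw [coe_decompose_mul_of_left_mem_of_le 𝒜 c.2 (h1.trans (Nat.le_add_left _ _))]
      rw [Finset.sum_eq_single (e₀, m - e₀)]
      · have hKm : K + m - e₀ = K + (m - e₀) := by omega
        rw [DirectSum.decompose_of_mem_same 𝒜 c.2, hKm]
      · rintro ⟨a, b⟩ hab hne
        rw [Finset.HasAntidiagonal.mem_antidiagonal] at hab
        have hae : e₀ ≠ a := by
          rintro rfl
          apply hne
          simp only [Prod.mk.injEq, true_and]
          simp only at hab
          omega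
        rw [DirectSum.decompose_of_mem_ne 𝒜 c.2 hae, zero_mul]
      · intro hnot
        exfalso
        apply hnot
        rw [Finset.HasAntidiagonal.mem_antidiagonal]
        simp only
        omega
    · have hsum : ∑ x ∈ Finset.HasAntidiagonal.antidiagonal m, (decompose 𝒜 (c : A) x.1 : A) *
          (decompose 𝒜 β (K + x.2) : A) = 0 := by
        refine Finset.sum_eq_zero ?_
        rintro ⟨a, b⟩ hab
        rw [Finset.HasAntidiagonal.mem_antidiagonal] at hab
        have hae : e₀ ≠ a := by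
          rintro rfl
          simp only at hab
          omega
        rw [DirectSum.decompose_of_mem_ne 𝒜 c.2 hae, zero_mul]
      rw [hsum]
      by_cases h2 : e₀ ≤ K + m
      · rw [coe_decompose_mul_of_left_mem_of_le 𝒜 c.2 h2, hβ (K + m - e₀) (by omega), mul_zero]
      · rw [coe_decompose_mul_of_left_mem_of_not_le 𝒜 c.2 h2]
  | add c c' hc hc' =>
    rw [add_mul, decompose_add, DirectSum.add_apply, AddMemClass.coe_add, hc, hc',
      ← Finset.sum_add_distrib]
    refine Finset.sum_congr rfl fun x _ => ?_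
    rw [decompose_add, DirectSum.add_apply, AddMemClass.coe_add, add_mul]


include H hf₁ hf₂ in
/-- Clearing denominators of a polynomial in `u`. -/
theorem exists_clear (Q : S[X]) : ∃ (K : ℕ) (σ : A) (hσ : σ ∈ p.primeCompl) (β : A), σ ∈ 𝒜 K ∧
    (∀ j < K, (decompose 𝒜 β j : A) = 0) ∧
    phi ι h₁ f₂ Q = IsLocalization.mk' (Localization.AtPrime p) β ⟨σ, hσ⟩ ∧
    ∀ i, ι (Q.coeff i) * (uu h₁ f₂) ^ i =
      IsLocalization.mk' (Localization.AtPrime p) (decompose 𝒜 β (K + i) : A) ⟨σ, hσ⟩ := by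
  induction Q using Polynomial.induction_on' with
  | add Q Q' hQ hQ' =>
    obtain ⟨K, σ, hσ, β, hσK, hβ, hφ, hco⟩ := hQ
    obtain ⟨K', σ', hσ', β', hσK', hβ', hφ', hco'⟩ := hQ'
    have hσσ' : σ * σ' ∈ p.primeCompl := p.primeCompl.mul_mem hσ hσ'
    refine ⟨K + K', σ * σ', hσσ', β * σ' + β' * σ, SetLike.mul_mem_graded hσK hσK', ?_, ?_, ?_⟩
    · intro j hj
      rw [decompose_add, DirectSum.add_apply, AddMemClass.coe_add]
      have e1 : (decompose 𝒜 (β * σ') j : A) = 0 := by
        by_cases hK' : K' ≤ j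
        · rw [coe_decompose_mul_of_right_mem_of_le 𝒜 hσK' hK', hβ (j - K') (by omega), zero_mul]
        · rw [coe_decompose_mul_of_right_mem_of_not_le 𝒜 hσK' hK']
      have e2 : (decompose 𝒜 (β' * σ) j : A) = 0 := by
        by_cases hK : K ≤ j
        · rw [coe_decompose_mul_of_right_mem_of_le 𝒜 hσK hK, hβ' (j - K) (by omega), zero_mul]
        · rw [coe_decompose_mul_of_right_mem_of_not_le 𝒜 hσK hK]
      rw [e1, e2, add_zero]
    · rw [map_add, hφ, hφ', ← IsLocalization.mk'_add]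
      rfl
    · intro i
      rw [Polynomial.coeff_add, map_add, add_mul, hco, hco', ← IsLocalization.mk'_add]
      have e1 : (decompose 𝒜 (β * σ') (K + K' + i) : A) = (decompose 𝒜 β (K + i) : A) * σ' := by
        have hle : K' ≤ K + K' + i := by omega
        have hsub : K + K' + i - K' = K + i := by omega
        rw [coe_decompose_mul_of_right_mem_of_le 𝒜 hσK' hle, hsub]
      have e2 : (decompose 𝒜 (β' * σ) (K + K' + i) : A) = (decompose 𝒜 β' (K' + i) : A) * σ := by
        have hle : K ≤ K + K' + i := by omega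
        have hsub : K + K' + i - K = K' + i := by omega
        rw [coe_decompose_mul_of_right_mem_of_le 𝒜 hσK hle, hsub]
      rw [decompose_add, DirectSum.add_apply, AddMemClass.coe_add, e1, e2]
      rfl
  | monomial i q =>
    obtain ⟨n, b, s, hs, hb, hsn, hq⟩ := H.hr1 q
    have hf₁i : f₁ ^ i ∈ p.primeCompl := p.primeCompl.pow_mem h₁ i
    have hσ : s * f₁ ^ i ∈ p.primeCompl := p.primeCompl.mul_mem hs hf₁i
    have hσK : s * f₁ ^ i ∈ 𝒜 (n + i • d) :=
      SetLike.mul_mem_graded hsn (SetLike.pow_mem_graded i hf₁)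
    have hdeg : n + i • (d + 1) = n + i • d + i := by simp [mul_add]; ring
    have hβK : b * f₂ ^ i ∈ 𝒜 (n + i • d + i) :=
      hdeg ▸ SetLike.mul_mem_graded hb (SetLike.pow_mem_graded i hf₂)
    have hmain : ι q * (uu h₁ f₂) ^ i =
        IsLocalization.mk' (Localization.AtPrime p) (b * f₂ ^ i) ⟨s * f₁ ^ i, hσ⟩ := by
      rw [hq, uu_pow, ← IsLocalization.mk'_mul]
      rfl
    refine ⟨n + i • d, s * f₁ ^ i, hσ, b * f₂ ^ i, hσK, ?_, ?_, ?_⟩
    · intro j hj
      exact DirectSum.decompose_of_mem_ne 𝒜 hβK (by omega)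
    · rw [← hmain]
      simp [phi, Polynomial.eval₂_monomial]
    · intro i'
      rw [Polynomial.coeff_monomial]
      by_cases hii : i = i'
      · subst hii
        rw [if_pos rfl, DirectSum.decompose_of_mem_same 𝒜 hβK, hmain]
      · rw [if_neg hii, DirectSum.decompose_of_mem_ne 𝒜 hβK (by omega)]
        simp


include H hf₁ hf₂ h₂ in
/-- A polynomial killed by `phi` is killed by a polynomial mapping to a unit. -/
theorem exists_mul_eq_zero (Q : S[X]) (hQ : phi ι h₁ f₂ Q = 0) :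
    ∃ V : S[X], IsUnit (phi ι h₁ f₂ V) ∧ V * Q = 0 := by
  obtain ⟨K, σ, hσ, β, hσK, hβ, hφ, hco⟩ := exists_clear H hf₁ hf₂ h₁ Q
  rw [hφ, IsLocalization.mk'_eq_zero_iff] at hQ
  obtain ⟨⟨v, hv⟩, hvβ⟩ := hQ
  simp only at hvβ
  obtain ⟨V, hV, hVco⟩ := exists_poly H hf₁ hf₂ h₁ h₂ v
  refine ⟨V, ?_, ?_⟩
  · rw [hV]
    exact IsLocalization.map_units (Localization.AtPrime p) (⟨v, hv⟩ : p.primeCompl)
  · ext m
    rw [Polynomial.coeff_zero]
    apply H.inj
    rw [map_zero]
    have hu : IsUnit ((uu h₁ f₂) ^ m) := (isUnit_uu h₁ h₂).pow m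
    rw [← hu.mul_left_inj, zero_mul, Polynomial.coeff_mul, map_sum, Finset.sum_mul]
    have hterm : ∀ x ∈ Finset.HasAntidiagonal.antidiagonal m,
        ι (V.coeff x.1 * Q.coeff x.2) * (uu h₁ f₂) ^ m =
          IsLocalization.mk' (Localization.AtPrime p)
            ((decompose 𝒜 v x.1 : A) * (decompose 𝒜 β (K + x.2) : A)) ⟨σ, hσ⟩ := by
      intro x hx
      rw [Finset.HasAntidiagonal.mem_antidiagonal] at hx
      rw [← hx, pow_add, map_mul]
      calc ι (V.coeff x.1) * ι (Q.coeff x.2) * ((uu h₁ f₂) ^ x.1 * (uu h₁ f₂) ^ x.2)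
          = (ι (V.coeff x.1) * (uu h₁ f₂) ^ x.1) * (ι (Q.coeff x.2) * (uu h₁ f₂) ^ x.2) := by ring
        _ = _ := by
          rw [hVco, hco, IsLocalization.mk'_eq_mul_mk'_one, IsLocalization.mk'_eq_mul_mk'_one (_ * _),
            map_mul, mul_assoc]
    rw [Finset.sum_congr rfl hterm]
    have hsum : ∑ x ∈ Finset.HasAntidiagonal.antidiagonal m,
        IsLocalization.mk' (Localization.AtPrime p)
          ((decompose 𝒜 v x.1 : A) * (decompose 𝒜 β (K + x.2) : A)) ⟨σ, hσ⟩ =
        IsLocalization.mk' (Localization.AtPrime p)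
          (∑ x ∈ Finset.HasAntidiagonal.antidiagonal m,
            (decompose 𝒜 v x.1 : A) * (decompose 𝒜 β (K + x.2) : A)) ⟨σ, hσ⟩ := by
      rw [IsLocalization.mk'_eq_mul_mk'_one (∑ x ∈ _, _), map_sum, Finset.sum_mul]
      refine Finset.sum_congr rfl fun x _ => ?_
      rw [IsLocalization.mk'_eq_mul_mk'_one]
    rw [hsum, ← decompose_mul_shift v β K hβ m, hvβ, decompose_zero, DirectSum.zero_apply,
      ZeroMemClass.coe_zero, IsLocalization.mk'_zero]


include H hf₁ hf₂ h₁ h₂ in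
/-- `A_p` is a localization of `S[X]` (via `X ↦ u`), hence flat over `S`. -/
theorem flat_of_degOne [Algebra S (Localization.AtPrime p)]
    (hι : algebraMap S (Localization.AtPrime p) = ι) :
    Module.Flat S (Localization.AtPrime p) := by
  letI alg2 : Algebra S[X] (Localization.AtPrime p) := (phi ι h₁ f₂).toAlgebra
  have halg2 : ∀ P : S[X], algebraMap S[X] (Localization.AtPrime p) P = phi ι h₁ f₂ P := fun _ => rfl
  haveI : IsScalarTower S S[X] (Localization.AtPrime p) := IsScalarTower.of_algebraMap_eq (fun x => by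
    rw [halg2, hι]
    simp [phi])
  let M : Submonoid S[X] := (IsUnit.submonoid (Localization.AtPrime p)).comap (phi ι h₁ f₂)
  have hM : ∀ P : S[X], P ∈ M ↔ IsUnit (phi ι h₁ f₂ P) := fun P => Iff.rfl
  haveI : IsLocalization M (Localization.AtPrime p) :=
    { map_units := fun y => by rw [halg2]; exact (hM _).1 y.2
      surj := fun z => by
        obtain ⟨a, t, rfl⟩ := IsLocalization.exists_mk'_eq p.primeCompl z
        obtain ⟨Pa, hPa, -⟩ := exists_poly H hf₁ hf₂ h₁ h₂ a
        obtain ⟨Pt, hPt, -⟩ := exists_poly H hf₁ hf₂ h₁ h₂ (t : A)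
        have hPtM : Pt ∈ M := by
          rw [hM, hPt]
          exact IsLocalization.map_units (Localization.AtPrime p) t
        refine ⟨⟨Pa, ⟨Pt, hPtM⟩⟩, ?_⟩
        simp only [halg2, hPa, hPt]
        exact IsLocalization.mk'_spec (Localization.AtPrime p) a t
      exists_of_eq := fun {x y} hxy => by
        rw [halg2, halg2] at hxy
        have h0 : phi ι h₁ f₂ (x - y) = 0 := by rw [map_sub, hxy, sub_self]
        obtain ⟨V, hVu, hV⟩ := exists_mul_eq_zero H hf₁ hf₂ h₁ h₂ (x - y) h0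
        refine ⟨⟨V, (hM V).2 hVu⟩, ?_⟩
        rw [mul_sub, sub_eq_zero] at hV
        exact hV }
  haveI : Module.Flat S[X] (Localization.AtPrime p) := IsLocalization.flat _ M
  exact Module.Flat.trans S S[X] (Localization.AtPrime p)

end
end Groth.Agent.Lib.Helper83.ProjFlat
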