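import Mathlib
import Groth.Agent.Lib.Helper49.Serre4

set_option autoImplicit false
universe u
open IsLocalRing

namespace Groth.Agent.Lib.Helper83.Rad

section basic
variable {R : Type u} [CommRing R] [IsDomain R] [IsNoetherianRing R]

/-- F1: a minimal prime over a principal ideal has height `≤ 1`. -/
lemma height_le_one_of_mem {f : R} {P : Ideal R} (hP : P ∈ (Ideal.span {f}).minimalPrimes) :
    P.height ≤ 1 :=
  Ideal.height_le_one_of_isPrincipal_of_mem_minimalPrimes (Ideal.span {f}) P hP

/-- a prime of height zero in a domain is `⊥`. -/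
lemma eq_bot_of_height_eq_zero {Q : Ideal R} [Q.IsPrime] (h : Q.height = 0) : Q = ⊥ :=
  Ideal.height_eq_zero_iff_eq_bot.mp h

/-- F2: a prime of height `≤ 1` containing `f ≠ 0` is minimal over `(f)`. -/
lemma mem_minimalPrimes_of_height_le_one {f : R} (hf : f ≠ 0) {Q : Ideal R} [hQ : Q.IsPrime]
    (hfQ : f ∈ Q) (hht : Q.height ≤ 1) : Q ∈ (Ideal.span {f}).minimalPrimes := by
  refine ⟨⟨hQ, (Ideal.span_singleton_le_iff_mem _).mpr hfQ⟩, ?_⟩
  rintro Q' ⟨hQ', hfQ'⟩ hle
  by_contra hnle
  have hlt : Q' < Q := lt_of_le_of_ne hle (fun h => hnle (h ▸ le_refl _))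
  haveI := hQ'
  have h1 : Q'.height < Q.height := Ideal.height_strict_mono_of_isPrime hlt
  have h2 : Q'.height = 0 := by
    have : Q'.height < 1 := lt_of_lt_of_le h1 hht
    exact Order.lt_one_iff.mp this
  have h3 := eq_bot_of_height_eq_zero h2
  rw [h3, Ideal.span_singleton_le_iff_mem, Ideal.mem_bot] at hfQ'
  exact hf hfQ'

end basic

section P2
variable {R : Type u} [CommRing R]

/-- The second symbolic power of `P`. -/
noncomputable def P2 (P : Ideal R) [P.IsPrime] : Ideal R :=
  Ideal.comap (algebraMap R (Localization.AtPrime P)) (maximalIdeal (Localization.AtPrime P) ^ 2)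

lemma mem_P2 (P : Ideal R) [P.IsPrime] {a : R} : a ∈ P2 P ↔
    algebraMap R (Localization.AtPrime P) a ∈ maximalIdeal (Localization.AtPrime P) ^ 2 := Iff.rfl

lemma P2_le (P : Ideal R) [P.IsPrime] : P2 P ≤ P := by
  intro a ha
  rw [mem_P2] at ha
  have h1 : algebraMap R (Localization.AtPrime P) a ∈ maximalIdeal (Localization.AtPrime P) :=
    Ideal.pow_le_self (two_ne_zero) ha
  exact (IsLocalization.AtPrime.to_map_mem_maximal_iff (Localization.AtPrime P) P a).mp h1

lemma sq_mem_P2 (P : Ideal R) [P.IsPrime] {y : R} (hy : y ∈ P) : y ^ 2 ∈ P2 P := by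
  rw [mem_P2, map_pow]
  apply Ideal.pow_mem_pow
  exact (IsLocalization.AtPrime.to_map_mem_maximal_iff (Localization.AtPrime P) P y).mpr hy

lemma mem_P2_of_mul_mem (P : Ideal R) [P.IsPrime] {x h : R} (hx : x ∉ P) (hxh : x * h ∈ P2 P) :
    h ∈ P2 P := by
  have hu : IsUnit (algebraMap R (Localization.AtPrime P) x) :=
    IsLocalization.map_units (Localization.AtPrime P) (⟨x, hx⟩ : P.primeCompl)
  have h1 : algebraMap R (Localization.AtPrime P) x * algebraMap R (Localization.AtPrime P) h ∈
      maximalIdeal (Localization.AtPrime P) ^ 2 := by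
    rw [← map_mul]; exact (mem_P2 P).mp hxh
  rw [mem_P2]
  obtain ⟨v, hv⟩ := hu
  have : algebraMap R (Localization.AtPrime P) h =
      (↑v⁻¹ : Localization.AtPrime P) * (algebraMap R (Localization.AtPrime P) x * algebraMap R (Localization.AtPrime P) h) := by
    rw [← hv, ← mul_assoc, Units.inv_mul, one_mul]
  rw [this]
  exact Ideal.mul_mem_left _ _ h1

end P2

section P2dom
variable {R : Type u} [CommRing R] [IsDomain R] [IsNoetherianRing R]

/-- (d) Nakayama: `P ≠ ⊥` implies `P ⊄ P^{(2)}`. -/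
lemma exists_mem_notMem_P2 (P : Ideal R) [P.IsPrime] (hP : P ≠ ⊥) : ∃ h ∈ P, h ∉ P2 P := by
  by_contra hcon
  push_neg at hcon
  -- maximal ideal of R_P equals its square
  set B := Localization.AtPrime P
  have hmap : maximalIdeal B = P.map (algebraMap R B) := (Localization.AtPrime.map_eq_maximalIdeal).symm
  have h1 : maximalIdeal B ≤ maximalIdeal B ^ 2 := by
    rw [hmap, Ideal.map_le_iff_le_comap]
    intro a ha
    have := hcon a ha
    rw [← hmap]
    exact this
  have h2 : maximalIdeal B ≤ maximalIdeal B • maximalIdeal B := by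
    rwa [pow_two] at h1
  have hjac : maximalIdeal B ≤ Ideal.jacobson (⊥ : Ideal B) := by
    rw [IsLocalRing.jacobson_eq_maximalIdeal ⊥ bot_ne_top]
  have h3 : maximalIdeal B = ⊥ :=
    Submodule.eq_bot_of_le_smul_of_le_jacobson_bot _ _ (IsNoetherian.noetherian _) h2 hjac
  apply hP
  rw [eq_bot_iff]
  intro a ha
  have : algebraMap R B a ∈ maximalIdeal B := by
    rw [hmap]; exact Ideal.mem_map_of_mem _ ha
  rw [h3, Ideal.mem_bot] at this
  have hinj : Function.Injective (algebraMap R B) :=
    IsLocalization.injective B (P.primeCompl_le_nonZeroDivisors)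
  exact (map_eq_zero_iff _ hinj).mp this

end P2dom

end Groth.Agent.Lib.Helper83.Rad
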