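import Mathlib
import Groth.Agent.Lib.Helper83.RadA

set_option autoImplicit false
universe u
open IsLocalRing

namespace Groth.Agent.Lib.Helper83.Rad

section dvr
variable {R : Type u} [CommRing R] [IsDomain R] [IsNoetherianRing R] [IsIntegrallyClosed R]

/-- the localization of a normal Noetherian domain at a height-one prime has principal
maximal ideal. -/
lemma maximalIdeal_isPrincipal_of_height_eq_one (P : Ideal R) [P.IsPrime] (hht : P.height = 1) :
    (maximalIdeal (Localization.AtPrime P)).IsPrincipal := by
  set B := Localization.AtPrime P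
  haveI : IsNoetherianRing B := IsLocalization.isNoetherianRing P.primeCompl B inferInstance
  haveI : IsIntegrallyClosed B :=
    isIntegrallyClosed_of_isLocalization B P.primeCompl P.primeCompl_le_nonZeroDivisors
  have hdim : ringKrullDim B = 1 := by
    rw [IsLocalization.AtPrime.ringKrullDim_eq_height P B, hht]; rfl
  have hmht : (maximalIdeal B).height = 1 := by
    have := IsLocalRing.maximalIdeal_height_eq_ringKrullDim (R := B)
    rw [hdim] at this
    exact_mod_cast this
  have h34 := (tfae_of_isNoetherianRing_of_isLocalRing_of_isDomain B).out 3 4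
  refine h34.mp ⟨inferInstance, ?_⟩
  intro Q hQ0 hQp
  by_contra hne
  have hlt : Q < maximalIdeal B := lt_of_le_of_ne (IsLocalRing.le_maximalIdeal hQp.ne_top) hne
  haveI := hQp
  have h1 : Q.height < (maximalIdeal B).height := Ideal.height_strict_mono_of_isPrime hlt
  rw [hmht] at h1
  have h2 : Q.height = 0 := Order.lt_one_iff.mp h1
  exact hQ0 (Ideal.height_eq_zero_iff_eq_bot.mp h2)

/-- (e): for a height-one prime `P` of a normal Noetherian domain and `g ∈ P ∖ P^{(2)}`,
every element of `P` is in `(g)` up to a multiplier outside `P`. -/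
lemma exists_mul_mem_span_of_notMem_P2 (P : Ideal R) [P.IsPrime] (hht : P.height = 1) {g : R}
    (hgP : g ∈ P) (hg2 : g ∉ P2 P) : ∀ b ∈ P, ∃ s ∉ P, s * b ∈ Ideal.span {g} := by
  set B := Localization.AtPrime P
  obtain ⟨π, hπ⟩ := (maximalIdeal_isPrincipal_of_height_eq_one P hht).principal
  have hπ' : maximalIdeal B = Ideal.span {π} := hπ
  have hgm : algebraMap R B g ∈ maximalIdeal B :=
    (IsLocalization.AtPrime.to_map_mem_maximal_iff B P g).mpr hgP
  rw [hπ', Ideal.mem_span_singleton'] at hgm
  obtain ⟨c, hc⟩ := hgm
  have hcu : IsUnit c := by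
    by_contra hcn
    have hcm : c ∈ maximalIdeal B := (IsLocalRing.mem_maximalIdeal c).mpr hcn
    apply hg2
    rw [mem_P2, ← hc, pow_two]
    refine Ideal.mul_mem_mul hcm ?_
    rw [hπ']; exact Ideal.mem_span_singleton_self π
  have hmg : maximalIdeal B = Ideal.span {algebraMap R B g} := by
    rw [hπ', ← hc]
    obtain ⟨u, rfl⟩ := hcu
    rw [Ideal.span_singleton_mul_left_unit u.isUnit]
  intro b hb
  have hbm : algebraMap R B b ∈ Ideal.map (algebraMap R B) (Ideal.span {g}) := by
    rw [Ideal.map_span, Set.image_singleton, ← hmg]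
    exact (IsLocalization.AtPrime.to_map_mem_maximal_iff B P b).mpr hb
  rw [IsLocalization.algebraMap_mem_map_algebraMap_iff P.primeCompl] at hbm
  obtain ⟨s, hs, hsb⟩ := hbm
  exact ⟨s, hs, hsb⟩

end dvr

section radical
variable {R : Type u} [CommRing R] [IsDomain R] [IsNoetherianRing R] [IsIntegrallyClosed R]

open Groth.Agent.Lib.Helper49.Serre in
/-- F7: if `f ≠ 0` is not in the second symbolic power of any minimal prime over `(f)`, then
`(f)` is radical (in a normal Noetherian domain). -/
lemma isRadical_span_of_forall_notMem_P2 {f : R} (hf : f ≠ 0)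
    (h : ∀ (P : Ideal R) [P.IsPrime], P ∈ (Ideal.span {f}).minimalPrimes → f ∉ P2 P) :
    (Ideal.span {f}).IsRadical := by
  intro b hb
  obtain ⟨n, hn⟩ := hb
  apply mem_span_singleton_of_forall_associatedPrimes
  intro P hP
  have hPp : P.IsPrime := hP.isPrime
  have hht : P.height = 1 := height_eq_one_of_mem_associatedPrimes R hf hP
  have hfP : f ∈ P := by
    have hle : Ideal.span {f} ≤ P := by
      have := hP.annihilator_le
      rwa [Submodule.annihilator_top, Ideal.annihilator_quotient] at this
    exact hle (Ideal.mem_span_singleton_self f)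
  have hPmin : P ∈ (Ideal.span {f}).minimalPrimes :=
    mem_minimalPrimes_of_height_le_one hf hfP hht.le
  have hbP : b ∈ P := by
    have : b ^ n ∈ P := (Ideal.span_singleton_le_iff_mem _).mpr hfP hn
    exact hPp.mem_of_pow_mem n this
  exact exists_mul_mem_span_of_notMem_P2 P hht hfP (h P hPmin) b hbP

end radical

end Groth.Agent.Lib.Helper83.Rad
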