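import Mathlib
import Groth.Agent.Lib.Helper83.RadA

set_option autoImplicit false
universe u
open IsLocalRing

namespace Groth.Agent.Lib.Helper83.Rad

section order

/-- In a poset where saturated chains with equal endpoints have equal length, if `a ⋖ p ⋖ c`
and `a < q < c` then `a ⋖ q`. -/
lemma covBy_of_saturated {α : Type*} [PartialOrder α] [WellFoundedLT α] [WellFoundedGT α]
    (hcat : ∀ s t : LTSeries α, s.head = t.head → s.last = t.last →
      (∀ i : Fin s.length, s (Fin.castSucc i) ⋖ s (Fin.succ i)) →
      (∀ i : Fin t.length, t (Fin.castSucc i) ⋖ t (Fin.succ i)) → s.length = t.length)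
    {a p c q : α} (h1 : a ⋖ p) (h2 : p ⋖ c) (haq : a < q) (hqc : q < c) : a ⋖ q := by
  let s₀ : LTSeries α :=
    { length := 2
      toFun := ![a, p, c]
      step := by
        intro i
        fin_cases i
        · exact h1.lt
        · exact h2.lt }
  let s₁ : LTSeries α :=
    { length := 2
      toFun := ![a, q, c]
      step := by
        intro i
        fin_cases i
        · exact haq
        · exact hqc }
  obtain ⟨t, i, hti, hi0, hil⟩ := s₁.exists_relSeries_covBy
  let t' : LTSeries α := ⟨t.length, t.toFun, fun j => (t.step j).lt⟩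
  have hs₀sat : ∀ j : Fin s₀.length, s₀ (Fin.castSucc j) ⋖ s₀ (Fin.succ j) := by
    intro j
    fin_cases j
    · exact h1
    · exact h2
  have ht'sat : ∀ j : Fin t'.length, t' (Fin.castSucc j) ⋖ t' (Fin.succ j) := fun j => t.step j
  have hhead : s₀.head = t'.head := by
    change a = t.toFun 0
    rw [← hi0]
    exact (congr_fun hti 0).symm
  have hlast : s₀.last = t'.last := by
    change c = t.toFun (Fin.last _)
    rw [← hil]
    exact (congr_fun hti (Fin.last _)).symm
  have hlen : 2 = t.length := hcat s₀ t' hhead hlast hs₀sat ht'sat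
  obtain ⟨n, tf, tstep⟩ := t
  simp only at hlen
  subst hlen
  have hi0' : (i 0 : Fin 3) = 0 := hi0
  have hi2' : (i 2 : Fin 3) = 2 := hil
  have hi1 : (i 1 : Fin 3) = 1 := by
    have hne0 : i 1 ≠ i 0 := fun h => by
      have h3 : (1 : Fin 3) = 0 := i.injective h
      exact absurd h3 (by decide)
    have hne2 : i 1 ≠ i 2 := fun h => by
      have h3 : (1 : Fin 3) = 2 := i.injective h
      exact absurd h3 (by decide)
    rw [hi0'] at hne0
    rw [hi2'] at hne2
    generalize i 1 = z at *
    fin_cases z
    · exact absurd rfl hne0
    · rfl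
    · exact absurd rfl hne2
  have e0 : tf 0 = a := by
    have := congr_fun hti 0
    simp only [Function.comp] at this
    rw [hi0'] at this
    exact this
  have e1 : tf 1 = q := by
    have := congr_fun hti 1
    simp only [Function.comp] at this
    rw [hi1] at this
    exact this
  have := tstep 0
  change tf 0 ⋖ tf 1 at this
  rwa [e0, e1] at this

end order

end Groth.Agent.Lib.Helper83.Rad
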