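import Mathlib
import Groth.Prelude.Def_Found
import Groth.Agent.Lib.Helper83.RadA
import Groth.Agent.Lib.Helper83.RadC

set_option autoImplicit false
universe u
open IsLocalRing

namespace Groth.Agent.Lib.Helper83.Rad

section wf
variable {R : Type u} [CommRing R] [IsNoetherianRing R]

lemma wellFoundedGT_primeSpectrum : WellFoundedGT (PrimeSpectrum R) :=
  StrictMono.wellFoundedGT (f := fun p : PrimeSpectrum R => p.asIdeal)
    (fun p q h => (PrimeSpectrum.asIdeal_lt_asIdeal p q).mpr h)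

lemma wellFoundedLT_primeSpectrum : WellFoundedLT (PrimeSpectrum R) :=
  StrictMono.wellFoundedLT (f := fun p : PrimeSpectrum R => p.asIdeal.height)
    (fun p q h => by
      haveI := p.isPrime
      haveI := q.isPrime
      exact Ideal.height_strict_mono_of_isPrime ((PrimeSpectrum.asIdeal_lt_asIdeal p q).mpr h))

end wf

section F4
variable {R : Type u} [CommRing R] [IsDomain R] [IsNoetherianRing R]

/-- F3 -/
lemma notMem_of_mem_minimalPrimes_of_span_pair {f₀ x f : R}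
    (hx : ∀ P ∈ (Ideal.span {f₀}).minimalPrimes, x ∉ P) (hf₀ : f₀ ≠ 0)
    (hspan : Ideal.span {f, x} = Ideal.span {f₀, x})
    {P : Ideal R} (hP : P ∈ (Ideal.span {f}).minimalPrimes) : x ∉ P := by
  intro hxP
  have hfP : f ∈ P := hP.1.2 (Ideal.mem_span_singleton_self f)
  have hle : Ideal.span {f₀, x} ≤ P := by
    rw [← hspan, Ideal.span_le]
    intro y hy
    rcases hy with rfl | rfl
    · exact hfP
    · exact hxP
  have hf₀P : f₀ ∈ P := hle (Ideal.subset_span (by simp))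
  haveI := hP.1.1
  exact hx P (mem_minimalPrimes_of_height_le_one hf₀ hf₀P (height_le_one_of_mem hP)) hxP

/-- a nonzero prime of height `≤ 1` covers `⊥` in the prime spectrum. -/
lemma bot_covBy_of_height_le_one {P : Ideal R} [hP : P.IsPrime] (hP0 : P ≠ ⊥)
    (hht : P.height ≤ 1) : (⊥ : PrimeSpectrum R) ⋖ ⟨P, hP⟩ := by
  constructor
  · rw [← PrimeSpectrum.asIdeal_lt_asIdeal]
    exact bot_lt_iff_ne_bot.mpr hP0
  · intro Q hQ1 hQ2
    rw [← PrimeSpectrum.asIdeal_lt_asIdeal] at hQ1 hQ2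
    haveI := Q.isPrime
    have h1 : Q.asIdeal.height < P.height := Ideal.height_strict_mono_of_isPrime hQ2
    have h2 : Q.asIdeal.height = 0 := Order.lt_one_iff.mp (lt_of_lt_of_le h1 hht)
    have h3 : Q.asIdeal = ⊥ := Ideal.height_eq_zero_iff_eq_bot.mp h2
    rw [h3] at hQ1
    exact lt_irrefl _ hQ1

/-- a prime minimal over `P + (x)` covers `P`. -/
lemma covBy_of_mem_minimalPrimes_sup {P 𝔓 : Ideal R} [hP : P.IsPrime] {x : R} (hxP : x ∉ P)
    (h𝔓 : 𝔓 ∈ (P ⊔ Ideal.span {x}).minimalPrimes) :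
    (⟨P, hP⟩ : PrimeSpectrum R) ⋖ ⟨𝔓, h𝔓.1.1⟩ := by
  have hP𝔓 : P ≤ 𝔓 := le_trans le_sup_left h𝔓.1.2
  have hx𝔓 : x ∈ 𝔓 := h𝔓.1.2 (Ideal.mem_sup_right (Ideal.mem_span_singleton_self x))
  constructor
  · rw [← PrimeSpectrum.asIdeal_lt_asIdeal]
    refine lt_of_le_of_ne hP𝔓 (fun h => hxP ?_)
    change P = 𝔓 at h
    rw [h]; exact hx𝔓
  · intro Q hQ1 hQ2
    rw [← PrimeSpectrum.asIdeal_lt_asIdeal] at hQ1 hQ2
    change P < Q.asIdeal at hQ1
    change Q.asIdeal < 𝔓 at hQ2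
    have hht : (𝔓.map (Ideal.Quotient.mk P)).height ≤ 1 :=
      Ideal.map_height_le_one_of_mem_minimalPrimes h𝔓
    have hsurj : Function.Surjective (Ideal.Quotient.mk P) := Ideal.Quotient.mk_surjective
    have hkerQ : RingHom.ker (Ideal.Quotient.mk P) ≤ Q.asIdeal := by
      rw [Ideal.mk_ker]; exact hQ1.le
    have hker𝔓 : RingHom.ker (Ideal.Quotient.mk P) ≤ 𝔓 := by
      rw [Ideal.mk_ker]; exact hP𝔓
    haveI hQp : (Q.asIdeal.map (Ideal.Quotient.mk P)).IsPrime :=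
      Ideal.map_isPrime_of_surjective hsurj hkerQ
    haveI h𝔓p0 : 𝔓.IsPrime := h𝔓.1.1
    haveI h𝔓p : (𝔓.map (Ideal.Quotient.mk P)).IsPrime :=
      Ideal.map_isPrime_of_surjective hsurj hker𝔓
    have hlt : Q.asIdeal.map (Ideal.Quotient.mk P) < 𝔓.map (Ideal.Quotient.mk P) := by
      refine lt_of_le_of_ne (Ideal.map_mono hQ2.le) ?_
      intro heq
      have h1 := congrArg (Ideal.comap (Ideal.Quotient.mk P)) heq
      rw [Ideal.comap_map_of_surjective _ hsurj, Ideal.comap_map_of_surjective _ hsurj,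
        ← RingHom.ker_eq_comap_bot, sup_eq_left.mpr hkerQ, sup_eq_left.mpr hker𝔓] at h1
      exact hQ2.ne h1
    have h1 : (Q.asIdeal.map (Ideal.Quotient.mk P)).height < 1 :=
      lt_of_lt_of_le (Ideal.height_strict_mono_of_isPrime hlt) hht
    have h2 : (Q.asIdeal.map (Ideal.Quotient.mk P)).height = 0 := Order.lt_one_iff.mp h1
    have h3 : Q.asIdeal.map (Ideal.Quotient.mk P) = ⊥ := Ideal.height_eq_zero_iff_eq_bot.mp h2
    have h4 : Q.asIdeal ≤ P := by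
      rw [Ideal.map_eq_bot_iff_le_ker, Ideal.mk_ker] at h3
      exact h3
    exact absurd hQ1 (not_lt_of_ge h4)

/-- F4: with the catenary hypothesis, a prime minimal over `P + (x)`, `P` minimal over `(f)`,
is minimal over `(f₀, x)`. -/
lemma mem_minimalPrimes_pair_of_catenary (hc : CAlg.IsCatenary R) {f₀ x f : R}
    (hx : ∀ P ∈ (Ideal.span {f₀}).minimalPrimes, x ∉ P) (hf₀ : f₀ ≠ 0) (hf : f ≠ 0)
    (hspan : Ideal.span {f, x} = Ideal.span {f₀, x})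
    {P : Ideal R} (hP : P ∈ (Ideal.span {f}).minimalPrimes)
    {𝔓 : Ideal R} (h𝔓 : 𝔓 ∈ (P ⊔ Ideal.span {x}).minimalPrimes) :
    𝔓 ∈ (Ideal.span {f₀, x}).minimalPrimes := by
  haveI hPp : P.IsPrime := hP.1.1
  haveI h𝔓p : 𝔓.IsPrime := h𝔓.1.1
  have hxP : x ∉ P := notMem_of_mem_minimalPrimes_of_span_pair hx hf₀ hspan hP
  have hfP : f ∈ P := hP.1.2 (Ideal.mem_span_singleton_self f)
  have hP0 : P ≠ ⊥ := fun h => hf (by rw [h] at hfP; exact hfP)
  have hP𝔓 : P ≤ 𝔓 := le_trans le_sup_left h𝔓.1.2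
  have hx𝔓 : x ∈ 𝔓 := h𝔓.1.2 (Ideal.mem_sup_right (Ideal.mem_span_singleton_self x))
  have ha𝔓 : Ideal.span {f₀, x} ≤ 𝔓 := by
    rw [← hspan, Ideal.span_le]
    intro y hy
    rcases hy with rfl | rfl
    · exact hP𝔓 hfP
    · exact hx𝔓
  have c1 : (⊥ : PrimeSpectrum R) ⋖ ⟨P, hPp⟩ := bot_covBy_of_height_le_one hP0 (height_le_one_of_mem hP)
  have c2 : (⟨P, hPp⟩ : PrimeSpectrum R) ⋖ ⟨𝔓, h𝔓p⟩ := covBy_of_mem_minimalPrimes_sup hxP h𝔓
  refine ⟨⟨h𝔓p, ha𝔓⟩, ?_⟩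
  rintro Q ⟨hQp, haQ⟩ hQ𝔓
  by_contra hnle
  have hlt : Q < 𝔓 := lt_of_le_of_ne hQ𝔓 (fun h => hnle (h ▸ le_refl _))
  have hf₀Q : f₀ ∈ Q := haQ (Ideal.subset_span (by simp))
  have hxQ : x ∈ Q := haQ (Ideal.subset_span (by simp))
  have hQ0 : Q ≠ ⊥ := fun h => hf₀ (by rw [h] at hf₀Q; exact hf₀Q)
  haveI := wellFoundedGT_primeSpectrum (R := R)
  haveI := wellFoundedLT_primeSpectrum (R := R)
  have c3 : (⊥ : PrimeSpectrum R) ⋖ ⟨Q, hQp⟩ := by
    refine covBy_of_saturated hc.2 c1 c2 ?_ ?_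
    · rw [← PrimeSpectrum.asIdeal_lt_asIdeal]
      exact bot_lt_iff_ne_bot.mpr hQ0
    · rw [← PrimeSpectrum.asIdeal_lt_asIdeal]
      exact hlt
  have hQmin : Q ∈ (Ideal.span {f₀}).minimalPrimes := by
    refine ⟨⟨hQp, (Ideal.span_singleton_le_iff_mem _).mpr hf₀Q⟩, ?_⟩
    rintro Q' ⟨hQ'p, hQ'⟩ hle
    by_contra hnle'
    have hlt' : Q' < Q := lt_of_le_of_ne hle (fun h => hnle' (h ▸ le_refl _))
    have hf₀Q' : f₀ ∈ Q' := hQ' (Ideal.mem_span_singleton_self f₀)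
    have hQ'0 : Q' ≠ ⊥ := fun h => hf₀ (by rw [h] at hf₀Q'; exact hf₀Q')
    refine c3.2 (c := ⟨Q', hQ'p⟩) ?_ ?_
    · rw [← PrimeSpectrum.asIdeal_lt_asIdeal]
      exact bot_lt_iff_ne_bot.mpr hQ'0
    · rw [← PrimeSpectrum.asIdeal_lt_asIdeal]
      exact hlt'
  exact hx Q hQmin hxQ

end F4

end Groth.Agent.Lib.Helper83.Rad
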