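import Mathlib
import Groth.Prelude.Def_Found
import Groth.Agent.Lib.Helper83.RadA
import Groth.Agent.Lib.Helper83.RadD

set_option autoImplicit false
universe u
open IsLocalRing

namespace Groth.Agent.Lib.Helper83.Rad

section CNT
variable {B : Type u} [CommRing B] [IsNoetherianRing B] [IsLocalRing B]

/-- CNT: a finite set of pairwise incomparable primes not containing `x ∈ 𝔪` has cardinality
at most the coheight of `⋂ 𝔭 + (x)`. -/
lemma card_le_coheight_inf_sup (x : B) (hx : x ∈ maximalIdeal B) :
    ∀ S : Finset (Ideal B), (∀ p ∈ S, p.IsPrime) → (∀ p ∈ S, x ∉ p) →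
      (∀ p ∈ S, ∀ q ∈ S, q ≤ p → q = p) →
      (S.card : ℕ∞) ≤ Order.coheight (S.inf id ⊔ Ideal.span {x} : Ideal B) := by
  classical
  intro S
  induction S using Finset.induction_on with
  | empty => intro _ _ _; simp
  | insert p S hpS ih =>
    intro hprime hxS hinc
    have hprime' : ∀ q ∈ S, q.IsPrime := fun q hq => hprime q (Finset.mem_insert_of_mem hq)
    have hxS' : ∀ q ∈ S, x ∉ q := fun q hq => hxS q (Finset.mem_insert_of_mem hq)
    have hinc' : ∀ p ∈ S, ∀ q ∈ S, q ≤ p → q = p := fun a ha b hb =>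
      hinc a (Finset.mem_insert_of_mem ha) b (Finset.mem_insert_of_mem hb)
    have hpprime : p.IsPrime := hprime p (Finset.mem_insert_self p S)
    have ih' := ih hprime' hxS' hinc'
    rw [Finset.card_insert_of_notMem hpS, Finset.inf_insert, id]
    have hlt : (p ⊓ S.inf id) ⊔ Ideal.span {x} < S.inf id ⊔ Ideal.span {x} := by
      refine lt_of_le_of_ne (sup_le_sup_right inf_le_right _) ?_
      intro heq
      -- Nakayama
      have h1 : S.inf id ≤ (p ⊓ S.inf id) ⊔ Ideal.span {x} • S.inf id := by
        intro a ha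
        have ha' : a ∈ (p ⊓ S.inf id) ⊔ Ideal.span {x} := by
          rw [heq]; exact Ideal.mem_sup_left ha
        obtain ⟨b, hb, c, hc, rfl⟩ := Submodule.mem_sup.mp ha'
        obtain ⟨r, rfl⟩ := Ideal.mem_span_singleton'.mp hc
        have hr : r ∈ S.inf id := by
          rw [Submodule.mem_finsetInf]
          intro q hq
          have hq' := hprime' q hq
          have hxq : x ∉ q := hxS' q hq
          have h2 : r * x ∈ q := by
            have h3 : b + r * x ∈ q := (Finset.inf_le hq : S.inf id ≤ id q) ha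
            have h4 : b ∈ q := (Finset.inf_le hq : S.inf id ≤ id q) hb.2
            have : r * x = (b + r * x) - b := by ring
            rw [this]
            exact Ideal.sub_mem _ h3 h4
          exact (hq'.mem_or_mem h2).resolve_right hxq
        refine Submodule.add_mem_sup hb ?_
        rw [mul_comm]
        exact Submodule.smul_mem_smul (Ideal.mem_span_singleton_self x) hr
      have hjac : Ideal.span {x} ≤ Ideal.jacobson (⊥ : Ideal B) := by
        rw [IsLocalRing.jacobson_eq_maximalIdeal ⊥ bot_ne_top, Ideal.span_singleton_le_iff_mem]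
        exact hx
      have h5 : S.inf id ≤ p ⊓ S.inf id :=
        Submodule.le_of_le_smul_of_le_jacobson_bot (IsNoetherian.noetherian _) hjac h1
      have h6 : S.inf id ≤ p := le_trans h5 inf_le_left
      obtain ⟨q, hq, hqp⟩ := (Ideal.IsPrime.inf_le' hpprime).mp h6
      have : q = p := hinc p (Finset.mem_insert_self p S) q (Finset.mem_insert_of_mem hq) hqp
      exact hpS (this ▸ hq)
    calc ((S.card + 1 : ℕ) : ℕ∞) = (S.card : ℕ∞) + 1 := by push_cast; rfl
      _ ≤ Order.coheight (S.inf id ⊔ Ideal.span {x} : Ideal B) + 1 := by gcongr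
      _ ≤ Order.coheight ((p ⊓ S.inf id) ⊔ Ideal.span {x} : Ideal B) :=
        Order.coheight_add_one_le hlt

end CNT

section localBound
variable {R : Type u} [CommRing R] [IsNoetherianRing R]

/-- local bound: the number of minimal primes of `(f)` below a fixed minimal prime `𝔓` of
`𝔞 = (f, x)` and avoiding `x` is bounded in terms of `𝔞`, `𝔓` only. -/
lemma exists_card_le_of_mem_minimalPrimes (𝔞 𝔓 : Ideal R) (h𝔓 : 𝔓 ∈ 𝔞.minimalPrimes) :
    ∃ N : ℕ, ∀ (f x : R), Ideal.span {f, x} = 𝔞 → ∀ T : Finset (Ideal R),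
      (∀ P ∈ T, P ∈ (Ideal.span {f}).minimalPrimes ∧ P ≤ 𝔓 ∧ x ∉ P) → T.card ≤ N := by
  classical
  haveI h𝔓p : 𝔓.IsPrime := h𝔓.1.1
  set B := Localization.AtPrime 𝔓
  haveI : IsNoetherianRing B := IsLocalization.isNoetherianRing 𝔓.primeCompl B inferInstance
  have hmin : maximalIdeal B ∈ (𝔞.map (algebraMap R B)).minimalPrimes := by
    rw [IsLocalization.minimalPrimes_map 𝔓.primeCompl B 𝔞, Set.mem_preimage,
      IsLocalization.AtPrime.under_maximalIdeal B 𝔓]
    exact h𝔓
  haveI hart : IsArtinianRing (B ⧸ 𝔞.map (algebraMap R B)) :=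
    IsLocalRing.quotient_artinian_of_mem_minimalPrimes_of_isLocalRing _ hmin
  have hfl : IsFiniteLength B (B ⧸ 𝔞.map (algebraMap R B)) := by
    rw [isFiniteLength_iff_isNoetherian_isArtinian]
    exact ⟨isNoetherian_quotient _,
      isArtinian_of_surjective_algebraMap (Ideal.Quotient.mk_surjective (I := 𝔞.map (algebraMap R B)))⟩
  have hne : Order.coheight (𝔞.map (algebraMap R B)) ≠ ⊤ := by
    rw [← Module.length_quotient]
    exact Module.length_ne_top_iff.mpr hfl
  refine ⟨(Order.coheight (𝔞.map (algebraMap R B))).toNat, ?_⟩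
  intro f x hspan T hT
  have hdisj : ∀ P ∈ T, Disjoint (𝔓.primeCompl : Set R) (P : Set R) := by
    intro P hP
    rw [Set.disjoint_left]
    intro a ha haP
    exact ha ((hT P hP).2.1 haP)
  have hunder : ∀ P ∈ T, (Ideal.map (algebraMap R B) P).under R = P := fun P hP =>
    IsLocalization.under_map_of_isPrime_disjoint 𝔓.primeCompl B (hT P hP).1.1.1 (hdisj P hP)
  have hinj : Set.InjOn (Ideal.map (algebraMap R B)) (T : Set (Ideal R)) := by
    intro P hP P' hP' heq
    rw [← hunder P hP, ← hunder P' hP']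
    exact congrArg (Ideal.under R) heq
  set S := T.image (Ideal.map (algebraMap R B)) with hS
  have hcard : S.card = T.card := Finset.card_image_of_injOn hinj
  have hxa : x ∈ 𝔞 := by rw [← hspan]; exact Ideal.subset_span (by simp)
  have hfa : f ∈ 𝔞 := by rw [← hspan]; exact Ideal.subset_span (by simp)
  have hxm : algebraMap R B x ∈ maximalIdeal B :=
    (IsLocalization.AtPrime.to_map_mem_maximal_iff B 𝔓 x).mpr (h𝔓.1.2 hxa)
  have key := card_le_coheight_inf_sup (algebraMap R B x) hxm S ?_ ?_ ?_
  · have hle : 𝔞.map (algebraMap R B) ≤ S.inf id ⊔ Ideal.span {algebraMap R B x} := by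
      rw [← hspan, Ideal.map_span, Ideal.span_le]
      rintro _ ⟨y, hy, rfl⟩
      rcases hy with rfl | rfl
      · refine Ideal.mem_sup_left ?_
        rw [Submodule.mem_finsetInf]
        intro q hq
        rw [hS, Finset.mem_image] at hq
        obtain ⟨P, hP, rfl⟩ := hq
        exact Ideal.mem_map_of_mem _ ((hT P hP).1.1.2 (Ideal.mem_span_singleton_self y))
      · exact Ideal.mem_sup_right (Ideal.mem_span_singleton_self _)
    have h2 : (S.card : ℕ∞) ≤ Order.coheight (𝔞.map (algebraMap R B)) :=
      le_trans key (Order.coheight_anti hle)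
    rw [hcard, ← ENat.coe_toNat hne] at h2
    exact_mod_cast h2
  · intro q hq
    rw [hS, Finset.mem_image] at hq
    obtain ⟨P, hP, rfl⟩ := hq
    exact IsLocalization.isPrime_of_isPrime_disjoint 𝔓.primeCompl B P (hT P hP).1.1.1 (hdisj P hP)
  · intro q hq hxq
    rw [hS, Finset.mem_image] at hq
    obtain ⟨P, hP, rfl⟩ := hq
    have : x ∈ (Ideal.map (algebraMap R B) P).under R := hxq
    rw [hunder P hP] at this
    exact (hT P hP).2.2 this
  · intro q hq q' hq' hle
    rw [hS, Finset.mem_image] at hq hq'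
    obtain ⟨P, hP, rfl⟩ := hq
    obtain ⟨P', hP', rfl⟩ := hq'
    have h1 : P' ≤ P := by
      rw [← hunder P hP, ← hunder P' hP']
      exact Ideal.comap_mono hle
    have h2 : P ≤ P' := (hT P hP).1.2 (hT P' hP').1.1 h1
    rw [le_antisymm h1 h2]

end localBound

end Groth.Agent.Lib.Helper83.Rad
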