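import Mathlib
import Groth.Prelude.Def_Found
import Groth.Agent.Lib.Helper83.RadA
import Groth.Agent.Lib.Helper83.RadD
import Groth.Agent.Lib.Helper83.RadE

set_option autoImplicit false
universe u
open IsLocalRing

namespace Groth.Agent.Lib.Helper83.Rad

section globalBound
variable {R : Type u} [CommRing R] [IsDomain R] [IsNoetherianRing R] [IsLocalRing R]

/-- F5: global bound on the number of minimal primes of an admissible `f`. -/
lemma exists_ncard_minimalPrimes_le (hc : CAlg.IsCatenary R) {f₀ x : R} (hf₀ : f₀ ≠ 0)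
    (hxm : x ∈ maximalIdeal R) (hx : ∀ P ∈ (Ideal.span {f₀}).minimalPrimes, x ∉ P) :
    ∃ L : ℕ, ∀ f : R, f ≠ 0 → Ideal.span {f, x} = Ideal.span {f₀, x} →
      (Ideal.span {f}).minimalPrimes.ncard ≤ L := by
  classical
  set 𝔞 : Ideal R := Ideal.span {f₀, x} with h𝔞
  have hfin𝔐 : 𝔞.minimalPrimes.Finite := Ideal.finite_minimalPrimes_of_isNoetherianRing R 𝔞
  have hex : ∀ 𝔓, 𝔓 ∈ 𝔞.minimalPrimes → ∃ N : ℕ, ∀ (f x : R), Ideal.span {f, x} = 𝔞 →
      ∀ T : Finset (Ideal R),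
      (∀ P ∈ T, P ∈ (Ideal.span {f}).minimalPrimes ∧ P ≤ 𝔓 ∧ x ∉ P) → T.card ≤ N :=
    fun 𝔓 h𝔓 => exists_card_le_of_mem_minimalPrimes 𝔞 𝔓 h𝔓
  choose! N hN using hex
  refine ⟨∑ 𝔓 ∈ hfin𝔐.toFinset, N 𝔓, ?_⟩
  intro f hf hspan
  have hfinS : (Ideal.span {f}).minimalPrimes.Finite :=
    Ideal.finite_minimalPrimes_of_isNoetherianRing R _
  rw [Set.ncard_eq_toFinset_card _ hfinS]
  set Sf := hfinS.toFinset with hSf
  have hsub : Sf ⊆ hfin𝔐.toFinset.biUnion (fun 𝔓 => Sf.filter (fun P => P ≤ 𝔓)) := by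
    intro P hP
    have hPmin : P ∈ (Ideal.span {f}).minimalPrimes := hfinS.mem_toFinset.mp hP
    haveI hPp : P.IsPrime := hPmin.1.1
    have hne : P ⊔ Ideal.span {x} ≠ ⊤ := by
      intro htop
      have hle : P ⊔ Ideal.span {x} ≤ maximalIdeal R :=
        sup_le (IsLocalRing.le_maximalIdeal hPp.ne_top)
          ((Ideal.span_singleton_le_iff_mem _).mpr hxm)
      rw [htop] at hle
      exact (IsLocalRing.maximalIdeal.isMaximal R).ne_top (top_le_iff.mp hle)
    obtain ⟨⟨𝔓, h𝔓⟩⟩ := Ideal.nonempty_minimalPrimes hne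
    have h𝔓' : 𝔓 ∈ 𝔞.minimalPrimes :=
      mem_minimalPrimes_pair_of_catenary hc hx hf₀ hf hspan hPmin h𝔓
    rw [Finset.mem_biUnion]
    refine ⟨𝔓, hfin𝔐.mem_toFinset.mpr h𝔓', ?_⟩
    rw [Finset.mem_filter]
    exact ⟨hP, le_trans le_sup_left h𝔓.1.2⟩
  calc Sf.card ≤ (hfin𝔐.toFinset.biUnion (fun 𝔓 => Sf.filter (fun P => P ≤ 𝔓))).card :=
        Finset.card_le_card hsub
    _ ≤ ∑ 𝔓 ∈ hfin𝔐.toFinset, (Sf.filter (fun P => P ≤ 𝔓)).card := Finset.card_biUnion_le
    _ ≤ ∑ 𝔓 ∈ hfin𝔐.toFinset, N 𝔓 := by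
        refine Finset.sum_le_sum ?_
        intro 𝔓 h𝔓
        refine hN 𝔓 (hfin𝔐.mem_toFinset.mp h𝔓) f x hspan _ ?_
        intro P hP
        rw [Finset.mem_filter] at hP
        have hPmin : P ∈ (Ideal.span {f}).minimalPrimes := hfinS.mem_toFinset.mp hP.1
        exact ⟨hPmin, hP.2, notMem_of_mem_minimalPrimes_of_span_pair hx hf₀ hspan hPmin⟩

end globalBound

section step
variable {R : Type u} [CommRing R] [IsDomain R] [IsNoetherianRing R]

/-- F6: the correction step. -/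
lemma exists_step {J : Ideal R} (hJ : J.IsRadical) {x f : R} (hf : f ≠ 0) (hfJ : f ∈ J)
    (hxS : ∀ P ∈ (Ideal.span {f}).minimalPrimes, x ∉ P) :
    ∃ h : R, h ∈ J ∧ ∀ (P : Ideal R) [P.IsPrime], P ∈ (Ideal.span {f}).minimalPrimes →
      f + x * h ∈ P ∧ f + x * h ∉ P2 P := by
  classical
  have hfinS : (Ideal.span {f}).minimalPrimes.Finite :=
    Ideal.finite_minimalPrimes_of_isNoetherianRing R _
  set S := hfinS.toFinset with hS
  have hSmem : ∀ P, P ∈ S ↔ P ∈ (Ideal.span {f}).minimalPrimes := fun P => hfinS.mem_toFinset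
  have hfP : ∀ P ∈ S, f ∈ P := fun P hP =>
    ((hSmem P).mp hP).1.2 (Ideal.mem_span_singleton_self f)
  -- generators not in the symbolic square
  have hg : ∀ P, P ∈ S → ∃ g : R, g ∈ P ∧ ∀ [inst : P.IsPrime], g ∉ P2 P := by
    intro P hP
    haveI hPp : P.IsPrime := ((hSmem P).mp hP).1.1
    have hP0 : P ≠ ⊥ := fun h => hf (by have := hfP P hP; rw [h] at this; exact this)
    obtain ⟨g, hg1, hg2⟩ := exists_mem_notMem_P2 P hP0
    exact ⟨g, hg1, fun {inst} => hg2⟩
  choose! g hg1 hg2 using hg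
  -- separating elements
  have hy : ∀ Q P, Q ∈ S → P ∈ S → Q ≠ P → ∃ y : R, y ∈ Q ∧ y ∉ P := by
    intro Q P hQ hP hne
    by_contra hcon
    push_neg at hcon
    have hle : Q ≤ P := fun a ha => hcon a ha
    have hle' : P ≤ Q := ((hSmem P).mp hP).2 ((hSmem Q).mp hQ).1 hle
    exact hne (le_antisymm hle hle')
  choose! y hy1 hy2 using hy
  set c : Ideal R → R := fun P => ∏ Q ∈ S.erase P, (y Q P) ^ 2 with hc
  set T := S.filter (fun P => ∃ inst : P.IsPrime, f ∈ @P2 R _ P inst) with hT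
  set h : R := ∑ P ∈ T, c P * g P with hh
  have hTS : T ⊆ S := Finset.filter_subset _ _
  -- (i)
  have hci : ∀ (P : Ideal R) [P.IsPrime], P ∈ S → ∀ P' ∈ S, P' ≠ P → c P' ∈ P2 P := by
    intro P _ hP P' hP' hne
    have hmem : P ∈ S.erase P' := Finset.mem_erase.mpr ⟨fun h => hne h.symm, hP⟩
    have hdvd : (y P P') ^ 2 ∣ c P' := Finset.dvd_prod_of_mem (fun Q => (y Q P') ^ 2) hmem
    exact Ideal.mem_of_dvd _ hdvd (sq_mem_P2 P (hy1 P P' hP hP' (fun h => hne h.symm)))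
  -- (ii)
  have hcii : ∀ (P : Ideal R) [P.IsPrime], P ∈ S → c P ∉ P := by
    intro P hPp hP hcP
    rw [hc] at hcP
    simp only at hcP
    rw [Ideal.IsPrime.prod_mem_iff] at hcP
    obtain ⟨Q, hQ, hQP⟩ := hcP
    rw [Finset.mem_erase] at hQ
    exact hy2 Q P hQ.2 hP hQ.1 (hPp.mem_of_pow_mem 2 hQP)
  -- (v)
  have hhP : ∀ P ∈ S, h ∈ P := by
    intro P hP
    haveI hPp : P.IsPrime := ((hSmem P).mp hP).1.1
    rw [hh]
    refine Ideal.sum_mem _ ?_
    intro P' hP'
    by_cases hne : P' = P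
    · rw [hne]; exact Ideal.mul_mem_left _ _ (hg1 P hP)
    · exact Ideal.mul_mem_right _ _ (P2_le P (hci P hP P' (hTS hP') hne))
  refine ⟨h, ?_, ?_⟩
  · -- (vi)
    have h1 : h ∈ (Ideal.span {f}).radical := by
      rw [← Ideal.sInf_minimalPrimes, Ideal.mem_sInf]
      intro P hP
      exact hhP P ((hSmem P).mpr hP)
    have h2 : (Ideal.span {f}).radical ≤ J := by
      rw [← hJ.radical]
      exact Ideal.radical_mono ((Ideal.span_singleton_le_iff_mem _).mpr hfJ)
    exact h2 h1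
  · intro P hPp hPmin
    have hP : P ∈ S := (hSmem P).mpr hPmin
    have hxP : x ∉ P := hxS P hPmin
    refine ⟨Ideal.add_mem _ (hfP P hP) (Ideal.mul_mem_left _ _ (hhP P hP)), ?_⟩
    by_cases hPT : P ∈ T
    · -- (iii)
      have hfP2 : f ∈ P2 P := by
        rw [hT, Finset.mem_filter] at hPT
        obtain ⟨_, hh⟩ := hPT.2
        exact hh
      have hsplit : h = c P * g P + ∑ P' ∈ T.erase P, c P' * g P' := by
        rw [hh, ← Finset.add_sum_erase T _ hPT]
      have hrest : ∑ P' ∈ T.erase P, c P' * g P' ∈ P2 P := by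
        refine Ideal.sum_mem _ ?_
        intro P' hP'
        rw [Finset.mem_erase] at hP'
        exact Ideal.mul_mem_right _ _ (hci P hP P' (hTS hP'.2) hP'.1)
      intro hcon
      have h1 : x * h ∈ P2 P := by
        have : x * h = (f + x * h) - f := by ring
        rw [this]; exact Ideal.sub_mem _ hcon hfP2
      have h2 : h ∈ P2 P := mem_P2_of_mul_mem P hxP h1
      have h3 : c P * g P ∈ P2 P := by
        have : c P * g P = h - ∑ P' ∈ T.erase P, c P' * g P' := by rw [hsplit]; ring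
        rw [this]; exact Ideal.sub_mem _ h2 hrest
      exact hg2 P hP (mem_P2_of_mul_mem P (hcii P hP) h3)
    · -- (iv)
      have hfP2 : f ∉ P2 P := by
        intro hcon
        apply hPT
        rw [hT, Finset.mem_filter]
        exact ⟨hP, hPp, hcon⟩
      have hh2 : h ∈ P2 P := by
        rw [hh]
        refine Ideal.sum_mem _ ?_
        intro P' hP'
        have hne : P' ≠ P := fun h => hPT (h ▸ hP')
        exact Ideal.mul_mem_right _ _ (hci P hP P' (hTS hP') hne)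
      intro hcon
      apply hfP2
      have : f = (f + x * h) - x * h := by ring
      rw [this]
      exact Ideal.sub_mem _ hcon (Ideal.mul_mem_left _ _ hh2)

end step

end Groth.Agent.Lib.Helper83.Rad
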