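import Mathlib
import Groth.Prelude.Def_Found
import Groth.Agent.Lib.Helper83.RadA
import Groth.Agent.Lib.Helper83.RadB
import Groth.Agent.Lib.Helper83.RadD
import Groth.Agent.Lib.Helper83.RadE
import Groth.Agent.Lib.Helper83.RadF

set_option autoImplicit false
universe u
open IsLocalRing

namespace Groth.Agent.Lib.Helper83.Rad

section main
variable {R : Type u} [CommRing R] [IsDomain R] [IsNoetherianRing R] [IsLocalRing R]

/-- if `ht 𝔪 ≤ 1`, any nonzero prime is `𝔪`. -/
lemma eq_maximalIdeal_of_height_le_one (hht : (maximalIdeal R).height ≤ 1) (P : Ideal R)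
    [hP : P.IsPrime] (hP0 : P ≠ ⊥) : P = maximalIdeal R := by
  by_contra hne
  have hlt : P < maximalIdeal R := lt_of_le_of_ne (IsLocalRing.le_maximalIdeal hP.ne_top) hne
  have h1 : P.height < (maximalIdeal R).height := Ideal.height_strict_mono_of_isPrime hlt
  have h2 : P.height = 0 := Order.lt_one_iff.mp (lt_of_lt_of_le h1 hht)
  exact hP0 (Ideal.height_eq_zero_iff_eq_bot.mp h2)

lemma zero_mem_P2 (P : Ideal R) [P.IsPrime] : (0 : R) ∈ P2 P := Ideal.zero_mem _

variable [IsIntegrallyClosed R]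

theorem exists_radical_principal (hc : CAlg.IsCatenary R) (J : Ideal R) (hJ : J.IsRadical)
    (hJ0 : J ≠ ⊥) : ∃ f ∈ J, f ≠ 0 ∧ (Ideal.span {f}).IsRadical := by
  classical
  by_cases hJtop : J = ⊤
  · refine ⟨1, by rw [hJtop]; trivial, one_ne_zero, ?_⟩
    rw [Ideal.span_singleton_one]
    intro a _
    trivial
  have hJm : J ≤ maximalIdeal R := IsLocalRing.le_maximalIdeal hJtop
  obtain ⟨f₀, hf₀J, hf₀⟩ := Submodule.exists_mem_ne_zero_of_ne_bot hJ0
  have hm0 : maximalIdeal R ≠ ⊥ := fun h => hf₀ (by have := hJm hf₀J; rw [h] at this; exact this)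
  by_cases hht : (maximalIdeal R).height ≤ 1
  · -- dimension one
    obtain ⟨g, hgm, hg2⟩ := exists_mem_notMem_P2 (maximalIdeal R) hm0
    have hg0 : g ≠ 0 := fun h => hg2 (h ▸ zero_mem_P2 _)
    have hmJ : maximalIdeal R ≤ J := by
      rw [← hJ.radical, Ideal.radical_eq_sInf]
      refine le_sInf ?_
      rintro Q ⟨hJQ, hQp⟩
      haveI := hQp
      have hQ0 : Q ≠ ⊥ := fun h => hJ0 (by rw [h] at hJQ; exact le_bot_iff.mp hJQ)
      rw [eq_maximalIdeal_of_height_le_one hht Q hQ0]
    refine ⟨g, hmJ hgm, hg0, ?_⟩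
    refine isRadical_span_of_forall_notMem_P2 hg0 ?_
    intro P hPp hPmin
    have hP0 : P ≠ ⊥ := fun h => hg0 (by
      have := hPmin.1.2 (Ideal.mem_span_singleton_self g); rw [h] at this; exact this)
    have hPm : P = maximalIdeal R := eq_maximalIdeal_of_height_le_one hht P hP0
    have key : ∀ (Q : Ideal R) [Q.IsPrime] (P : Ideal R) [P.IsPrime], P = Q →
        g ∉ P2 Q → g ∉ P2 P := by
      intro Q _ P _ h
      subst h
      exact id
    exact key (maximalIdeal R) P hPm hg2
  · -- dimension at least two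
    have hfinS₀ : (Ideal.span {f₀}).minimalPrimes.Finite :=
      Ideal.finite_minimalPrimes_of_isNoetherianRing R _
    have hnotle : ¬ ∃ P ∈ hfinS₀.toFinset, maximalIdeal R ≤ id P := by
      rintro ⟨P, hP, hle⟩
      have hPmin := hfinS₀.mem_toFinset.mp hP
      exact hht (le_trans (Ideal.height_mono hle) (height_le_one_of_mem hPmin))
    have havoid : ¬ ((maximalIdeal R : Set R) ⊆ ⋃ P ∈ (↑hfinS₀.toFinset : Set (Ideal R)), id P) := by
      intro hsub
      refine hnotle ((Ideal.subset_union_prime (f := id) (⊥ : Ideal R) ⊥ ?_).mp hsub)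
      intro P hP _ _
      exact (hfinS₀.mem_toFinset.mp hP).1.1
    rw [Set.not_subset] at havoid
    obtain ⟨x, hxm, hxnot⟩ := havoid
    have hx : ∀ P ∈ (Ideal.span {f₀}).minimalPrimes, x ∉ P := by
      intro P hP hxP
      apply hxnot
      rw [Set.mem_iUnion₂]
      exact ⟨P, Finset.mem_coe.mpr (hfinS₀.mem_toFinset.mpr hP), hxP⟩
    obtain ⟨L, hL⟩ := exists_ncard_minimalPrimes_le hc hf₀ hxm hx
    -- maximise the number of minimal primes among admissible elements
    set A : Set R := {f | f ∈ J ∧ f ≠ 0 ∧ Ideal.span {f, x} = Ideal.span {f₀, x}} with hA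
    set V : Set ℕ := (fun f => (Ideal.span {f}).minimalPrimes.ncard) '' A with hV
    have hVne : V.Nonempty := ⟨_, f₀, ⟨hf₀J, hf₀, rfl⟩, rfl⟩
    have hVbdd : BddAbove V := by
      refine ⟨L, ?_⟩
      rintro _ ⟨f, ⟨_, hf, hspan⟩, rfl⟩
      exact hL f hf hspan
    obtain ⟨f, ⟨hfJ, hf, hspan⟩, hfmax⟩ := Nat.sSup_mem hVne hVbdd
    have hmax : ∀ f' ∈ A, (Ideal.span {f'}).minimalPrimes.ncard ≤
        (Ideal.span {f}).minimalPrimes.ncard := by
      intro f' hf'
      have hfmax' : (Ideal.span {f}).minimalPrimes.ncard = sSup V := hfmax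
      rw [hfmax']
      exact le_csSup hVbdd ⟨f', hf', rfl⟩
    have hxS : ∀ P ∈ (Ideal.span {f}).minimalPrimes, x ∉ P := fun P hP =>
      notMem_of_mem_minimalPrimes_of_span_pair hx hf₀ hspan hP
    obtain ⟨h, hhJ, hstep⟩ := exists_step hJ hf hfJ hxS
    set f' := f + x * h with hf'
    have hf'J : f' ∈ J := Ideal.add_mem _ hfJ (Ideal.mul_mem_left _ _ hhJ)
    have hfm : f ∈ maximalIdeal R := hJm hfJ
    have hne_top : Ideal.span {f} ≠ ⊤ := by
      intro htop
      rw [Ideal.span_singleton_eq_top] at htop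
      exact (IsLocalRing.mem_maximalIdeal f).mp hfm htop
    obtain ⟨⟨P₁, hP₁⟩⟩ := Ideal.nonempty_minimalPrimes hne_top
    have hf'0 : f' ≠ 0 := by
      intro h0
      haveI := hP₁.1.1
      exact (hstep P₁ hP₁).2 (h0 ▸ zero_mem_P2 P₁)
    have hspan' : Ideal.span {f', x} = Ideal.span {f₀, x} := by
      rw [hf', Ideal.span_pair_add_right_mul, hspan]
    have hsub : (Ideal.span {f}).minimalPrimes ⊆ (Ideal.span {f'}).minimalPrimes := by
      intro P hP
      haveI := hP.1.1
      exact mem_minimalPrimes_of_height_le_one hf'0 (hstep P hP).1 (height_le_one_of_mem hP)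
    have hfin' : (Ideal.span {f'}).minimalPrimes.Finite :=
      Ideal.finite_minimalPrimes_of_isNoetherianRing R _
    have heq : (Ideal.span {f}).minimalPrimes = (Ideal.span {f'}).minimalPrimes :=
      Set.eq_of_subset_of_ncard_le hsub (hmax f' ⟨hf'J, hf'0, hspan'⟩) hfin'
    refine ⟨f', hf'J, hf'0, ?_⟩
    refine isRadical_span_of_forall_notMem_P2 hf'0 ?_
    intro P hPp hPmin
    rw [← heq] at hPmin
    exact (hstep P hPmin).2

end main

end Groth.Agent.Lib.Helper83.Rad
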