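import Mathlib
import Groth.Prelude.Def_Found
import Groth.Agent.Lib.Helper83.RadG

set_option autoImplicit false
universe u
open IsLocalRing

namespace Groth.Agent.Lib.Helper83.Rad

section grading

/-- with a grading increasing by one along covers, saturated chains have length
`h last - h head`. -/
lemma grading_last_eq {α : Type*} [PartialOrder α] (h : α → ℕ)
    (hcov : ∀ a b : α, a ⋖ b → h b = h a + 1) (s : LTSeries α)
    (hs : ∀ i : Fin s.length, s (Fin.castSucc i) ⋖ s (Fin.succ i)) :
    h s.last = h s.head + s.length := by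
  have key : ∀ i : Fin (s.length + 1), h (s i) = h (s 0) + (i : ℕ) := by
    intro i
    induction i using Fin.induction with
    | zero => simp
    | succ i ih =>
      rw [hcov _ _ (hs i), ih]
      simp only [Fin.val_castSucc, Fin.val_succ]
      ring
  have := key (Fin.last _)
  rw [Fin.val_last] at this
  exact this

end grading

section dim2
variable {R : Type u} [CommRing R] [IsDomain R] [IsNoetherianRing R]

lemma height_succ_of_covBy (hdim : ringKrullDim R = 2) {p q : PrimeSpectrum R} (hpq : p ⋖ q) :
    q.asIdeal.height.toNat = p.asIdeal.height.toNat + 1 := by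
  haveI := p.isPrime
  haveI := q.isPrime
  have hq2 : q.asIdeal.height ≤ 2 := by
    have := Ideal.height_le_ringKrullDim_of_ne_top (I := q.asIdeal) q.isPrime.ne_top
    rw [hdim] at this
    have h2 : ((q.asIdeal.height : ℕ∞) : WithBot ℕ∞) ≤ ((2 : ℕ∞) : WithBot ℕ∞) := this
    exact WithBot.coe_le_coe.mp h2
  have hlt : p.asIdeal.height < q.asIdeal.height :=
    Ideal.height_strict_mono_of_isPrime ((PrimeSpectrum.asIdeal_lt_asIdeal p q).mpr hpq.lt)
  by_cases hp0 : p.asIdeal.height = 0
  · -- p = ⊥
    have hpbot : p.asIdeal = ⊥ := Ideal.height_eq_zero_iff_eq_bot.mp hp0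
    have hq1 : q.asIdeal.height ≤ 1 := by
      have h1 : q.asIdeal.height ≤ ((1 : ℕ) : ℕ∞) := by
        rw [Ideal.height_le_iff]
        intro J hJ hJq
        by_contra hnot
        have hJ0 : J ≠ ⊥ := by
          intro hJbot
          apply hnot
          rw [hJbot, Ideal.height_bot]
          exact_mod_cast zero_lt_one
        refine hpq.2 (c := ⟨J, hJ⟩) ?_ ?_
        · rw [← PrimeSpectrum.asIdeal_lt_asIdeal, hpbot]
          exact bot_lt_iff_ne_bot.mpr hJ0
        · rw [← PrimeSpectrum.asIdeal_lt_asIdeal]
          exact hJq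
      exact_mod_cast h1
    have hq1' : q.asIdeal.height = 1 := by
      refine le_antisymm hq1 ?_
      rw [hp0] at hlt
      exact Order.one_le_iff_pos.mpr hlt
    rw [hp0, hq1']
    rfl
  · have hp1 : 1 ≤ p.asIdeal.height := Order.one_le_iff_pos.mpr (pos_iff_ne_zero.mpr hp0)
    have hq2' : q.asIdeal.height = 2 := by
      refine le_antisymm hq2 ?_
      have : p.asIdeal.height + 1 ≤ q.asIdeal.height := Order.add_one_le_of_lt hlt
      calc (2 : ℕ∞) = 1 + 1 := by norm_num
        _ ≤ p.asIdeal.height + 1 := by gcongr
        _ ≤ q.asIdeal.height := this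
    have hp1' : p.asIdeal.height = 1 := by
      refine le_antisymm ?_ hp1
      rw [hq2'] at hlt
      have : p.asIdeal.height + 1 ≤ 1 + 1 := by
        have := Order.add_one_le_of_lt hlt
        calc p.asIdeal.height + 1 ≤ 2 := this
          _ = 1 + 1 := by norm_num
      exact (ENat.add_le_add_iff_right (by norm_num)).mp this
    rw [hp1', hq2']
    rfl

/-- a two-dimensional Noetherian domain is catenary. -/
theorem isCatenary_of_ringKrullDim_eq_two (hdim : ringKrullDim R = 2) : CAlg.IsCatenary R := by
  constructor
  · intro p q _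
    refine ⟨2, fun s _ _ => ?_⟩
    have h1 := Order.LTSeries.length_le_krullDim s
    have h2 : Order.krullDim (PrimeSpectrum R) = 2 := hdim
    rw [h2] at h1
    exact_mod_cast h1
  · intro s t hhead hlast hs ht
    have e1 := grading_last_eq (fun p : PrimeSpectrum R => p.asIdeal.height.toNat)
      (fun a b hab => height_succ_of_covBy hdim hab) s hs
    have e2 := grading_last_eq (fun p : PrimeSpectrum R => p.asIdeal.height.toNat)
      (fun a b hab => height_succ_of_covBy hdim hab) t ht
    simp only at e1 e2
    rw [hhead, hlast] at e1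
    omega

end dim2

end Groth.Agent.Lib.Helper83.Rad
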