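import Mathlib
import Groth.Agent.Lib.Helper83.RadB

set_option autoImplicit false
universe u
open IsLocalRing

namespace Groth.Agent.Lib.Helper83.Ram

open Groth.Agent.Lib.Helper83.Rad

section dvr
variable {R : Type u} [CommRing R] [IsDomain R] [IsNoetherianRing R] [IsIntegrallyClosed R]

/-- the localization of a normal Noetherian domain at a height-one prime is a DVR. -/
lemma isDiscreteValuationRing_of_height_eq_one (P : Ideal R) [P.IsPrime] (hht : P.height = 1) :
    IsDiscreteValuationRing (Localization.AtPrime P) := by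
  set L := Localization.AtPrime P
  haveI : IsNoetherianRing L := IsLocalization.isNoetherianRing P.primeCompl L inferInstance
  have hnf : ¬ IsField L := by
    intro hF
    have h1 : maximalIdeal L = ⊥ := IsLocalRing.isField_iff_maximalIdeal_eq.mp hF
    have h2 : P = ⊥ := by
      rw [eq_bot_iff]
      intro a ha
      have : algebraMap R L a ∈ maximalIdeal L :=
        (IsLocalization.AtPrime.to_map_mem_maximal_iff L P a).mpr ha
      rw [h1, Ideal.mem_bot] at this
      have hinj : Function.Injective (algebraMap R L) :=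
        IsLocalization.injective L (P.primeCompl_le_nonZeroDivisors)
      exact (map_eq_zero_iff _ hinj).mp this
    rw [h2, Ideal.height_bot] at hht
    exact zero_ne_one hht
  exact ((IsDiscreteValuationRing.TFAE L hnf).out 0 4).mpr
    (maximalIdeal_isPrincipal_of_height_eq_one P hht)

/-- a local generator of `P` generates the maximal ideal of `R_P`. -/
lemma maximalIdeal_eq_span_of_localGenerator (P : Ideal R) [P.IsPrime] {t : R} (htP : t ∈ P)
    (ht : ∀ b ∈ P, ∃ s ∉ P, s * b ∈ Ideal.span {t}) :
    maximalIdeal (Localization.AtPrime P) = Ideal.span {algebraMap R (Localization.AtPrime P) t} := by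
  set L := Localization.AtPrime P
  apply le_antisymm
  · rw [← Localization.AtPrime.map_eq_maximalIdeal, Ideal.map_le_iff_le_comap]
    intro b hb
    obtain ⟨s, hs, hsb⟩ := ht b hb
    obtain ⟨c, hc⟩ := Ideal.mem_span_singleton'.mp hsb
    have hu : IsUnit (algebraMap R L s) := IsLocalization.map_units L (⟨s, hs⟩ : P.primeCompl)
    rw [Ideal.mem_comap]
    have h1 : algebraMap R L s * algebraMap R L b = algebraMap R L c * algebraMap R L t := by
      rw [← map_mul, ← map_mul, hc]
    obtain ⟨u, hu'⟩ := hu
    have h2 : algebraMap R L b = (↑u⁻¹ * algebraMap R L c) * algebraMap R L t := by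
      rw [mul_assoc, ← h1, ← hu', ← mul_assoc, Units.inv_mul, one_mul]
    rw [h2]
    exact Ideal.mul_mem_left _ _ (Ideal.mem_span_singleton_self _)
  · rw [Ideal.span_singleton_le_iff_mem]
    exact (IsLocalization.AtPrime.to_map_mem_maximal_iff L P t).mpr htP

/-- valuation decomposition at a height one prime with a local generator. -/
lemma exists_mul_eq_mul_pow (P : Ideal R) [P.IsPrime] (hht : P.height = 1) {t : R} (htP : t ∈ P)
    (ht : ∀ b ∈ P, ∃ s ∉ P, s * b ∈ Ideal.span {t}) {f : R} (hf : f ≠ 0) :
    ∃ (v : ℕ) (s c : R), s ∉ P ∧ c ∉ P ∧ s * f = c * t ^ v := by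
  set L := Localization.AtPrime P
  haveI : IsDiscreteValuationRing L := isDiscreteValuationRing_of_height_eq_one P hht
  have hinj : Function.Injective (algebraMap R L) :=
    IsLocalization.injective L (P.primeCompl_le_nonZeroDivisors)
  have hirr : Irreducible (algebraMap R L t) :=
    (IsDiscreteValuationRing.irreducible_iff_uniformizer _).mpr
      (maximalIdeal_eq_span_of_localGenerator P htP ht)
  have hf' : algebraMap R L f ≠ 0 := fun h => hf ((map_eq_zero_iff _ hinj).mp h)
  obtain ⟨v, u, hu⟩ := IsDiscreteValuationRing.eq_unit_mul_pow_irreducible hf' hirr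
  obtain ⟨c, s, hcs⟩ := IsLocalization.exists_mk'_eq P.primeCompl (u : L)
  have hspec : (u : L) * algebraMap R L s = algebraMap R L c := by
    rw [← hcs]; exact IsLocalization.mk'_spec L c s
  refine ⟨v, s, c, s.2, ?_, ?_⟩
  · have hcu : IsUnit (algebraMap R L c) := by
      rw [← hspec]
      exact u.isUnit.mul (IsLocalization.map_units L s)
    exact (IsLocalization.AtPrime.isUnit_to_map_iff L P c).mp hcu
  · apply hinj
    rw [map_mul, map_mul, map_pow, hu, ← hspec]
    ring

end dvr

section div
variable {A B : Type u} [CommRing A] [IsDomain A] [CommRing B] [IsDomain B] [IsNoetherianRing B]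
  [IsIntegrallyClosed B] [Algebra A B]

/-- divisibility of the valuation from weak unramifiedness. -/
lemma dvd_of_weaklyUnramified (hinj : Function.Injective (algebraMap A B))
    (P : Ideal A) [P.IsPrime] (q : Ideal B) [q.IsPrime] (hq1 : q.height = 1)
    (hqP : q.comap (algebraMap A B) = P)
    (hmax : Ideal.map (algebraMap B (Localization.AtPrime q)) (Ideal.map (algebraMap A B) P) =
      maximalIdeal (Localization.AtPrime q))
    {t : A} (ht : ∀ b ∈ P, ∃ s ∉ P, s * b ∈ Ideal.span {t}) (htP : t ∈ P)
    {f s c : A} {v : ℕ} (hs : s ∉ P) (hc : c ∉ P) (hsf : s * f = c * t ^ v)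
    {h : B} {w : Bˣ} {n : ℕ} (hn : 0 < n) (hf : algebraMap A B f = w * h ^ n) (hf0 : f ≠ 0) : n ∣ v := by
  set L := Localization.AtPrime q
  haveI : IsDiscreteValuationRing L := isDiscreteValuationRing_of_height_eq_one q hq1
  have hinjL : Function.Injective (algebraMap B L) :=
    IsLocalization.injective L (q.primeCompl_le_nonZeroDivisors)
  let φ : A →+* L := (algebraMap B L).comp (algebraMap A B)
  have hφ : ∀ a, φ a = algebraMap B L (algebraMap A B a) := fun a => rfl
  have hunit : ∀ a : A, a ∉ P → IsUnit (φ a) := by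
    intro a ha
    have : algebraMap A B a ∉ q := by
      intro hmem
      apply ha
      rw [← hqP]; exact hmem
    exact IsLocalization.map_units L (⟨algebraMap A B a, this⟩ : q.primeCompl)
  -- the image of `t` is a uniformizer
  have hmaxL : maximalIdeal L = Ideal.span {φ t} := by
    apply le_antisymm
    · rw [← hmax, Ideal.map_map, Ideal.map_le_iff_le_comap]
      intro b hb
      obtain ⟨s', hs', hsb⟩ := ht b hb
      obtain ⟨c', hc'⟩ := Ideal.mem_span_singleton'.mp hsb
      obtain ⟨u, hu'⟩ := hunit s' hs'
      rw [Ideal.mem_comap]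
      change φ b ∈ _
      have h1 : φ s' * φ b = φ c' * φ t := by
        rw [← map_mul, ← map_mul, hc']
      have h2 : φ b = (↑u⁻¹ * φ c') * φ t := by
        rw [mul_assoc, ← h1, ← hu', ← mul_assoc, Units.inv_mul, one_mul]
      rw [h2]
      exact Ideal.mul_mem_left _ _ (Ideal.mem_span_singleton_self _)
    · rw [Ideal.span_singleton_le_iff_mem]
      have : algebraMap A B t ∈ q := by
        have : t ∈ q.comap (algebraMap A B) := by rw [hqP]; exact htP
        exact this
      exact (IsLocalization.AtPrime.to_map_mem_maximal_iff L q _).mpr this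
  have hirr : Irreducible (φ t) :=
    (IsDiscreteValuationRing.irreducible_iff_uniformizer _).mpr hmaxL
  have hh0 : h ≠ 0 := by
    intro h0
    apply hf0
    have : algebraMap A B f = 0 := by rw [hf, h0, zero_pow hn.ne', mul_zero]
    exact (map_eq_zero_iff _ hinj).mp this
  have hh0' : algebraMap B L h ≠ 0 := fun h' => hh0 ((map_eq_zero_iff _ hinjL).mp h')
  obtain ⟨k, u₃, hu₃⟩ := IsDiscreteValuationRing.eq_unit_mul_pow_irreducible hh0' hirr
  obtain ⟨us, hus⟩ := hunit s hs
  obtain ⟨uc, huc⟩ := hunit c hc
  let wL : Lˣ := Units.map (algebraMap B L).toMonoidHom w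
  have hwL : (wL : L) = algebraMap B L w := rfl
  have e1 : φ s * φ f = φ c * φ t ^ v := by
    rw [← map_mul, hsf, map_mul, map_pow]
  have e2 : φ f = wL * (u₃ * φ t ^ k) ^ n := by
    rw [hφ, hf, map_mul, map_pow, hu₃, hwL]
  have e3 : (uc : L) * φ t ^ v = ↑(us * wL * u₃ ^ n) * φ t ^ (k * n) := by
    rw [huc, ← e1, e2, ← hus]
    push_cast
    ring
  have := IsDiscreteValuationRing.unit_mul_pow_congr_pow hirr hirr uc (us * wL * u₃ ^ n) v (k * n) e3
  exact ⟨k, by rw [this, mul_comm]⟩

end div

end Groth.Agent.Lib.Helper83.Ram
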