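import Mathlib
import Groth.Agent.Lib.Helper83.RamA

set_option autoImplicit false
universe u
open IsLocalRing

namespace Groth.Agent.Lib.Helper83.Ram

section flatcol
variable {A B : Type u} [CommRing A] [CommRing B] [Algebra A B] [Module.Flat A B]

/-- FLATCOL: a finite intersection of colon ideals `(d_i : s_i)` commutes with flat base change,
elementwise form. -/
lemma mem_map_iInf_colon_of_flat {ι : Type*} [Fintype ι] [DecidableEq ι] (d s : ι → A) (y : B)
    (b : ι → B) (hy : ∀ i, algebraMap A B (s i) * y = algebraMap A B (d i) * b i)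
    (I : Ideal A) (hI : ∀ a : A, (∀ i, ∃ c, s i * a = d i * c) → a ∈ I) :
    y ∈ Ideal.map (algebraMap A B) I := by
  classical
  let x : (Option ι →₀ A) →ₗ[A] B :=
    Finsupp.linearCombination A (fun o : Option ι => o.elim y b)
  let f : (ι →₀ A) →ₗ[A] (Option ι →₀ A) :=
    Finsupp.linearCombination A
      (fun i : ι => Finsupp.single none (s i) - Finsupp.single (some i) (d i))
  have hxf : x ∘ₗ f = 0 := by
    apply Finsupp.lhom_ext'
    intro i
    apply LinearMap.ext_ring
    simp only [LinearMap.coe_comp, Function.comp_apply, Finsupp.lsingle_apply,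
      LinearMap.zero_comp, LinearMap.zero_apply, f, x]
    rw [Finsupp.linearCombination_single, one_smul, map_sub, Finsupp.linearCombination_single,
      Finsupp.linearCombination_single]
    simp only [Option.elim]
    rw [Algebra.smul_def, Algebra.smul_def, hy i, sub_self]
  obtain ⟨k, a, y', hxy, haf⟩ := Module.Flat.exists_factorization_of_comp_eq_zero_of_free hxf
  set e₀ : Fin k →₀ A := a (Finsupp.single none 1) with he₀
  have hrel : ∀ i, s i • e₀ = d i • a (Finsupp.single (some i) 1) := by
    intro i
    have h1 : a (f (Finsupp.single i 1)) = 0 := by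
      have := LinearMap.congr_fun haf (Finsupp.single i 1)
      simpa using this
    have h2 : f (Finsupp.single i 1) =
        s i • Finsupp.single none 1 - d i • Finsupp.single (some i) 1 := by
      simp only [f]
      rw [Finsupp.linearCombination_single, one_smul, Finsupp.smul_single, Finsupp.smul_single,
        smul_eq_mul, smul_eq_mul, mul_one, mul_one]
    rw [h2, map_sub, map_smul, map_smul, sub_eq_zero] at h1
    exact h1
  have hmem : ∀ j, e₀ j ∈ I := by
    intro j
    apply hI
    intro i
    refine ⟨a (Finsupp.single (some i) 1) j, ?_⟩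
    have := congrArg (fun z : Fin k →₀ A => z j) (hrel i)
    simpa using this
  have hy' : y = y' e₀ := by
    have h1 : x (Finsupp.single none 1) = y := by
      simp only [x]
      rw [Finsupp.linearCombination_single, one_smul]
      rfl
    rw [← h1, hxy]
    rfl
  rw [hy']
  have hsum : e₀ = ∑ j ∈ e₀.support, Finsupp.single j (e₀ j) := by
    conv_lhs => rw [← Finsupp.sum_single e₀]
    rfl
  rw [hsum, map_sum]
  refine Ideal.sum_mem _ ?_
  intro j _
  have h1 : (Finsupp.single j (e₀ j) : Fin k →₀ A) = e₀ j • Finsupp.single j 1 := by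
    rw [Finsupp.smul_single, smul_eq_mul, mul_one]
  rw [h1, map_smul, Algebra.smul_def]
  exact Ideal.mul_mem_right _ _ (Ideal.mem_map_of_mem _ (hmem j))

end flatcol

section norm
variable {B : Type u} [CommRing B] [IsDomain B] [IsIntegrallyClosed B]

/-- NORM: in a normal domain, `x^n ∈ (y^n)` implies `x ∈ (y)`. -/
lemma mem_span_of_pow_mem_span_pow {x y : B} {n : ℕ} (hn : 0 < n) (hy : y ≠ 0)
    (h : x ^ n ∈ Ideal.span {y ^ n}) : x ∈ Ideal.span {y} := by
  obtain ⟨b, hb⟩ := Ideal.mem_span_singleton'.mp h
  set K := FractionRing B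
  have hyK : algebraMap B K y ≠ 0 := by
    intro h0
    exact hy ((map_eq_zero_iff _ (IsFractionRing.injective B K)).mp h0)
  have hpow : (algebraMap B K x / algebraMap B K y) ^ n = algebraMap B K b := by
    rw [div_pow, ← map_pow, ← map_pow, ← hb, map_mul]
    have : algebraMap B K (y ^ n) ≠ 0 := by rw [map_pow]; exact pow_ne_zero n hyK
    rw [mul_div_assoc, div_self this, mul_one]
  have hint : IsIntegral B ((algebraMap B K x / algebraMap B K y) ^ n) := by
    rw [hpow]; exact isIntegral_algebraMap
  obtain ⟨z, hz⟩ := IsIntegrallyClosed.exists_algebraMap_eq_of_isIntegral_pow hn hint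
  rw [Ideal.mem_span_singleton']
  refine ⟨z, ?_⟩
  apply IsFractionRing.injective B K
  rw [map_mul, hz, div_mul_cancel₀ _ hyK]

end norm

end Groth.Agent.Lib.Helper83.Ram
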