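import Mathlib
import Groth.Agent.Lib.Helper83.RamB

set_option autoImplicit false
universe u
open IsLocalRing

namespace Groth.Agent.Lib.Helper83.Ram

open Groth.Agent.Lib.Helper83.Rad Groth.Agent.Lib.Helper49.Serre

theorem exists_unit_mul_pow (A B : Type u) [CommRing A] [IsDomain A]
    [IsNoetherianRing A] [IsLocalRing A] [IsIntegrallyClosed A] [CommRing B] [IsDomain B]
    [IsNoetherianRing B] [IsLocalRing B] [IsIntegrallyClosed B] [Algebra A B]
    [IsLocalHom (algebraMap A B)] [Module.Flat A B]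
    (f : A) (h : B) (n : ℕ) (hn : 1 < n) (w : Bˣ) (hf : algebraMap A B f = (w : B) * h ^ n)
    (hram : ∀ (p : Ideal A) [p.IsPrime], p.height = 1 →
      ∃ (q : Ideal B) (_ : q.IsPrime), q.height = 1 ∧ q.comap (algebraMap A B) = p ∧
        Ideal.map (algebraMap B (Localization.AtPrime q)) (Ideal.map (algebraMap A B) p) =
          IsLocalRing.maximalIdeal (Localization.AtPrime q)) :
    ∃ (g : A) (u : Aˣ), f = (u : A) * g ^ n := by
  classical
  have hn0 : 0 < n := by omega
  by_cases hf0 : f = 0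
  · exact ⟨0, 1, by rw [hf0, zero_pow hn0.ne', mul_zero]⟩
  haveI : Module.FaithfullyFlat A B := Module.FaithfullyFlat.of_flat_of_isLocalHom
  have hinj : Function.Injective (algebraMap A B) := FaithfulSMul.algebraMap_injective A B
  have hh0 : h ≠ 0 := by
    intro h0
    apply hf0
    have : algebraMap A B f = 0 := by rw [hf, h0, zero_pow hn0.ne', mul_zero]
    exact (map_eq_zero_iff _ hinj).mp this
  have hhn : h ^ n = (↑w⁻¹ : B) * algebraMap A B f := by
    rw [hf, ← mul_assoc, Units.inv_mul, one_mul]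
  -- data at associated primes
  have key : ∀ P, P ∈ associatedPrimes A (A ⧸ Ideal.span {f}) → ∃ (t : A) (m : ℕ) (s c : A),
      s ∉ P ∧ c ∉ P ∧ s * f = c * t ^ (n * m) := by
    intro P hP
    haveI hPp : P.IsPrime := hP.isPrime
    have hht : P.height = 1 := height_eq_one_of_mem_associatedPrimes A hf0 hP
    have hP0 : P ≠ ⊥ := by
      intro hb; rw [hb, Ideal.height_bot] at hht; exact zero_ne_one hht
    obtain ⟨t, htP, ht2⟩ := exists_mem_notMem_P2 P hP0
    have ht := exists_mul_mem_span_of_notMem_P2 P hht htP ht2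
    obtain ⟨v, s, c, hs, hc, hsf⟩ := exists_mul_eq_mul_pow P hht htP ht hf0
    obtain ⟨q, hqp, hq1, hqP, hmax⟩ := hram P hht
    haveI := hqp
    obtain ⟨m, rfl⟩ := dvd_of_weaklyUnramified hinj P q hq1 hqP hmax ht htP hs hc hsf hn0 hf hf0
    exact ⟨t, m, s, c, hs, hc, hsf⟩
  choose! t m s c hs hc hsf using key
  have hfin : (associatedPrimes A (A ⧸ Ideal.span {f})).Finite := associatedPrimes.finite A _
  haveI : Fintype (associatedPrimes A (A ⧸ Ideal.span {f})) := hfin.fintype
  let ι := associatedPrimes A (A ⧸ Ideal.span {f})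
  let d : ι → A := fun i => t i.1 ^ m i.1
  let I : Ideal A := ⨅ i : ι, Submodule.colon (Ideal.span {d i}) {s i.1}
  have hImem : ∀ a : A, a ∈ I ↔ ∀ i : ι, ∃ c', s i.1 * a = d i * c' := by
    intro a
    simp only [I, Submodule.mem_iInf, Submodule.mem_colon_singleton, smul_eq_mul]
    refine forall_congr' fun i => ?_
    rw [Ideal.mem_span_singleton']
    constructor
    · rintro ⟨c', hc'⟩; exact ⟨c', by rw [mul_comm (s i.1), ← hc', mul_comm]⟩
    · rintro ⟨c', hc'⟩; exact ⟨c', by rw [mul_comm a, hc', mul_comm]⟩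
  have hd0 : ∀ i : ι, d i ≠ 0 := by
    intro i hzero
    have h1 := hsf i.1 i.2
    have h2 : t i.1 ^ (n * m i.1) = 0 := by
      rw [mul_comm, pow_mul]; change d i ^ n = 0; rw [hzero, zero_pow hn0.ne']
    rw [h2, mul_zero] at h1
    have hs0 : s i.1 ≠ 0 := fun h0 => hs i.1 i.2 (h0 ▸ Ideal.zero_mem _)
    exact (mul_ne_zero hs0 hf0) h1
  obtain ⟨k, hk⟩ := Nat.exists_eq_succ_of_ne_zero hn0.ne'
  -- (1) h ∈ I B
  have h1 : h ∈ Ideal.map (algebraMap A B) I := by
    have hb : ∀ i : ι, ∃ b : B, algebraMap A B (s i.1) * h = algebraMap A B (d i) * b := by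
      intro i
      have hmem : algebraMap A B (s i.1) * h ∈ Ideal.span {algebraMap A B (d i)} := by
        refine mem_span_of_pow_mem_span_pow hn0 ?_ ?_
        · exact fun h0 => hd0 i ((map_eq_zero_iff _ hinj).mp h0)
        · rw [Ideal.mem_span_singleton']
          refine ⟨(↑w⁻¹ : B) * algebraMap A B (s i.1 ^ k * c i.1), ?_⟩
          have e1 : s i.1 ^ n * f = s i.1 ^ k * c i.1 * (d i) ^ n := by
            have : d i ^ n = t i.1 ^ (n * m i.1) := by
              change (t i.1 ^ m i.1) ^ n = _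
              rw [← pow_mul, mul_comm]
            rw [this, hk, pow_succ, mul_assoc, hsf i.1 i.2, ← hk]
            ring
          rw [mul_pow, hhn, ← map_pow, ← map_pow]
          calc (↑w⁻¹ : B) * algebraMap A B (s i.1 ^ k * c i.1) * algebraMap A B (d i ^ n)
              = (↑w⁻¹ : B) * algebraMap A B (s i.1 ^ k * c i.1 * d i ^ n) := by
                rw [map_mul (algebraMap A B) (s i.1 ^ k * c i.1)]; ring
            _ = (↑w⁻¹ : B) * algebraMap A B (s i.1 ^ n * f) := by rw [e1]
            _ = algebraMap A B (s i.1 ^ n) * ((↑w⁻¹ : B) * algebraMap A B f) := by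
                rw [map_mul]; ring
      obtain ⟨b, hb⟩ := Ideal.mem_span_singleton'.mp hmem
      exact ⟨b, by rw [← hb, mul_comm]⟩
    choose b hb using hb
    exact mem_map_iInf_colon_of_flat d (fun i : ι => s i.1) h b hb I
      (fun a ha => (hImem a).mpr ha)
  -- (2) I B ⊆ h B
  have h2 : ∀ a ∈ I, algebraMap A B a ∈ Ideal.span {h} := by
    intro a ha
    have hpow : a ^ n ∈ Ideal.span {f} := by
      apply mem_span_singleton_of_forall_associatedPrimes
      intro P hP
      haveI hPp : P.IsPrime := hP.isPrime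
      obtain ⟨c', hc'⟩ := (hImem a).mp ha ⟨P, hP⟩
      refine ⟨c P * s P ^ n, ?_, ?_⟩
      · intro hmem
        rcases hPp.mem_or_mem hmem with h' | h'
        · exact hc P hP h'
        · exact hs P hP (hPp.mem_of_pow_mem n h')
      · rw [Ideal.mem_span_singleton']
        refine ⟨c' ^ n * s P, ?_⟩
        have e1 : c P * s P ^ n * a ^ n = c P * (s P * a) ^ n := by ring
        rw [e1, hc']
        change _ = c P * (t P ^ m P * c') ^ n
        have e2 : c P * (t P ^ m P * c') ^ n = c' ^ n * (c P * t P ^ (n * m P)) := by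
          rw [mul_pow, ← pow_mul, mul_comm (m P) n]; ring
        rw [e2, ← hsf P hP]
        ring
    obtain ⟨r, hr⟩ := Ideal.mem_span_singleton'.mp hpow
    refine mem_span_of_pow_mem_span_pow hn0 hh0 ?_
    rw [Ideal.mem_span_singleton', ← map_pow, ← hr, map_mul, hf]
    exact ⟨algebraMap A B r * w, by ring⟩
  -- (4) a generator
  have h4 : ∃ g ∈ I, ∃ ub : Bˣ, algebraMap A B g = h * ub := by
    by_contra hcon
    push_neg at hcon
    have hle : Ideal.map (algebraMap A B) I ≤ Ideal.span {h} * maximalIdeal B := by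
      rw [Ideal.map_le_iff_le_comap]
      intro a ha
      rw [Ideal.mem_comap]
      obtain ⟨b, hb⟩ := Ideal.mem_span_singleton'.mp (h2 a ha)
      rw [← hb, mul_comm b h]
      refine Ideal.mul_mem_mul (Ideal.mem_span_singleton_self h) ?_
      rw [IsLocalRing.mem_maximalIdeal]
      intro hbu
      obtain ⟨ub, hub⟩ := hbu
      exact hcon a ha ub (by rw [← hb, hub, mul_comm])
    have h5 := hle h1
    rw [Ideal.mem_span_singleton_mul] at h5
    obtain ⟨μ, hμ, hμh⟩ := h5
    have h6 : h * (μ - 1) = 0 := by rw [mul_sub, hμh, mul_one, sub_self]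
    have h7 : μ = 1 := by
      rcases mul_eq_zero.mp h6 with h' | h'
      · exact absurd h' hh0
      · exact sub_eq_zero.mp h'
    rw [h7] at hμ
    exact (IsLocalRing.mem_maximalIdeal _).mp hμ isUnit_one
  obtain ⟨g, hgI, ub, hg⟩ := h4
  -- (5)
  have hcontr : ∀ (J : Ideal A) (a : A), algebraMap A B a ∈ Ideal.map (algebraMap A B) J → a ∈ J := by
    intro J a ha
    have : a ∈ (J.map (algebraMap A B)).comap (algebraMap A B) := ha
    rwa [Ideal.comap_map_eq_self_of_faithfullyFlat] at this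
  have hgn : algebraMap A B (g ^ n) = h ^ n * (ub : B) ^ n := by
    rw [map_pow, hg, mul_pow]
  have hf_mem : f ∈ Ideal.span {g ^ n} := by
    apply hcontr
    rw [Ideal.map_span, Set.image_singleton, Ideal.mem_span_singleton', hgn, hf]
    refine ⟨w * (↑(ub⁻¹ ^ n) : B), ?_⟩
    have : (↑(ub⁻¹ ^ n) : B) * (ub : B) ^ n = 1 := by
      rw [Units.val_pow_eq_pow_val, ← mul_pow, Units.inv_mul, one_pow]
    calc (w : B) * ↑(ub⁻¹ ^ n) * (h ^ n * (ub : B) ^ n)
        = w * h ^ n * (↑(ub⁻¹ ^ n) * (ub : B) ^ n) := by ring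
      _ = w * h ^ n := by rw [this, mul_one]
  have hg_mem : g ^ n ∈ Ideal.span {f} := by
    apply hcontr
    rw [Ideal.map_span, Set.image_singleton, Ideal.mem_span_singleton', hgn, hf]
    refine ⟨(↑w⁻¹ : B) * (ub : B) ^ n, ?_⟩
    calc (↑w⁻¹ : B) * (ub : B) ^ n * ((w : B) * h ^ n)
        = (↑w⁻¹ * (w : B)) * (h ^ n * (ub : B) ^ n) := by ring
      _ = h ^ n * (ub : B) ^ n := by rw [Units.inv_mul, one_mul]
  obtain ⟨u, hu⟩ := Ideal.mem_span_singleton'.mp hf_mem
  obtain ⟨u', hu'⟩ := Ideal.mem_span_singleton'.mp hg_mem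
  have huu : u * u' = 1 := by
    have : (u * u' - 1) * f = 0 := by
      rw [sub_mul, one_mul, mul_assoc, hu', hu, sub_self]
    rcases mul_eq_zero.mp this with h' | h'
    · exact sub_eq_zero.mp h'
    · exact absurd h' hf0
  exact ⟨g, Units.mkOfMulEqOne u u' huu, by rw [Units.val_mkOfMulEqOne, hu]⟩

end Groth.Agent.Lib.Helper83.Ram
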