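import Mathlib
import Groth.Agent.Lib.Helper83.ComplMap

/-!
# Infrastructure for rig-flatness statements (helper83)

* `ComplMap.complMap` : the map `Â → B̂` on adic completions induced by `φ : A → B` with
  `φ(I) ⊆ J`; `complMap_of`, and uniqueness `ringHom_ext_of_of`.
* `flat_at_prime_of_rigClosed` : if `R` is Noetherian and `R_q` is flat over `A'` (via `ψ`) at all
  rig-closed primes `q` (for an ideal `K`), then the same holds at all primes not containing `K`.
* `flat_localRingHom_of_flat_comp`.
-/

set_option autoImplicit false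

namespace Groth.Agent.Lib.Helper83

namespace ComplMap

variable {A B : Type*} [CommRing A] [CommRing B] (I : Ideal A) (J : Ideal B) (φ : A →+* B)

theorem compat (hφ : I.map φ ≤ J) {m n : ℕ} (hle : m ≤ n) :
    (Ideal.Quotient.factorPow J hle).comp
      ((θ I J φ hφ n).comp (AdicCompletion.evalₐ I n).toRingHom) =
      (θ I J φ hφ m).comp (AdicCompletion.evalₐ I m).toRingHom := by
  refine RingHom.ext fun x => ?_
  induction x using AdicCompletion.induction_on with
  | h a =>
    simp only [RingHom.coe_comp, Function.comp_apply, AlgHom.toRingHom_eq_coe,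
      RingHom.coe_coe, AdicCompletion.evalₐ_mk, θ_mk]
    rw [Ideal.Quotient.factorPow, Ideal.Quotient.factor_mk, Ideal.Quotient.eq, ← map_sub]
    apply pow_le_comap I J φ hφ m
    have := AdicCompletion.Ideal.mk_eq_mk I hle a
    rwa [Ideal.Quotient.eq] at this

/-- The ring map `Â → B̂` induced by `φ : A → B` with `φ(I)B ⊆ J`. -/
noncomputable def complMap (hφ : I.map φ ≤ J) : AdicCompletion I A →+* AdicCompletion J B :=
  AdicCompletion.liftRingHom J
    (fun n => (θ I J φ hφ n).comp (AdicCompletion.evalₐ I n).toRingHom)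
    (fun hle => compat I J φ hφ hle)

theorem evalₐ_complMap (hφ : I.map φ ≤ J) (n : ℕ) (x : AdicCompletion I A) :
    AdicCompletion.evalₐ J n (complMap I J φ hφ x) =
      θ I J φ hφ n (AdicCompletion.evalₐ I n x) := by
  rw [complMap, AdicCompletion.evalₐ_liftRingHom _ _ (fun hle => compat I J φ hφ hle)]
  rfl

theorem complMap_of (hφ : I.map φ ≤ J) (a : A) :
    complMap I J φ hφ (AdicCompletion.of I A a) = AdicCompletion.of J B (φ a) := by
  apply AdicCompletion.ext_evalₐ
  intro n
  rw [evalₐ_complMap, AdicCompletion.evalₐ_of, AdicCompletion.evalₐ_of, θ_mk]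

/-- Two ring maps `Â → B̂` compatible with the same `φ : A → B` (`φ(I)B ⊆ J`) agree. -/
theorem ringHom_ext_of_of (fg : I.FG) (hφ : I.map φ ≤ J)
    (ψ₁ ψ₂ : AdicCompletion I A →+* AdicCompletion J B)
    (h₁ : ∀ a, ψ₁ (AdicCompletion.of I A a) = AdicCompletion.of J B (φ a))
    (h₂ : ∀ a, ψ₂ (AdicCompletion.of I A a) = AdicCompletion.of J B (φ a)) : ψ₁ = ψ₂ := by
  refine RingHom.ext fun x => ?_
  apply AdicCompletion.ext_evalₐ
  intro n
  rw [evalₐ_map I J φ ψ₁ h₁ fg hφ, evalₐ_map I J φ ψ₂ h₂ fg hφ]

end ComplMap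

namespace RigFlat

universe u

/-- If `((algebraMap S S_q).comp f)` is flat then so is the local homomorphism
`R_{f⁻¹ q} → S_q`. -/
theorem flat_localRingHom_of_flat_comp {R S : Type*} [CommRing R] [CommRing S] (f : R →+* S)
    (q : Ideal S) [q.IsPrime] (p : Ideal R) [p.IsPrime] (hp : p = q.comap f)
    (h : ((algebraMap S (Localization.AtPrime q)).comp f).Flat) :
    (Localization.localRingHom p q f hp).Flat := by
  subst hp
  let _ : Algebra R (Localization.AtPrime q) :=
    ((algebraMap S (Localization.AtPrime q)).comp f).toAlgebra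
  let _ : Algebra (Localization.AtPrime (q.comap f)) (Localization.AtPrime q) :=
    (Localization.localRingHom (q.comap f) q f rfl).toAlgebra
  have : IsScalarTower R (Localization.AtPrime (q.comap f)) (Localization.AtPrime q) :=
    .of_algebraMap_eq fun x ↦ (Localization.localRingHom_to_map _ _ _ rfl x).symm
  have hflat : Module.Flat R (Localization.AtPrime q) := h
  change Module.Flat (Localization.AtPrime (q.comap f)) (Localization.AtPrime q)
  rw [Module.flat_iff_of_isLocalization
    (S := (Localization.AtPrime (q.comap f))) (p := (q.comap f).primeCompl)]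
  exact hflat

/-- Flatness at rig-closed primes implies flatness at all primes outside `V(K)`. -/
theorem flat_at_prime_of_rigClosed {A' R : Type*} [CommRing A'] [CommRing R] [IsNoetherianRing R]
    (K : Ideal R) (ψ : A' →+* R)
    (H : ∀ q : PrimeSpectrum R, (¬ K ≤ q.asIdeal ∧
      ∀ y : PrimeSpectrum R, q ≤ y → ¬ K ≤ y.asIdeal → y = q) →
      ((algebraMap R (Localization.AtPrime q.asIdeal)).comp ψ).Flat)
    (q : Ideal R) [q.IsPrime] (hq : ¬ K ≤ q) :
    ((algebraMap R (Localization.AtPrime q)).comp ψ).Flat := by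
  -- a maximal prime above `q` not containing `K`
  let T : Set (Ideal R) := {J | J.IsPrime ∧ q ≤ J ∧ ¬ K ≤ J}
  have hT : T.Nonempty := ⟨q, inferInstance, le_rfl, hq⟩
  obtain ⟨Q, hQT, hQmax⟩ := (IsWellFounded.wf (r := ((· > ·) : Ideal R → Ideal R → Prop))).has_min T hT
  obtain ⟨hQp, hqQ, hKQ⟩ := hQT
  have hrig : ¬ K ≤ (⟨Q, hQp⟩ : PrimeSpectrum R).asIdeal ∧
      ∀ y : PrimeSpectrum R, (⟨Q, hQp⟩ : PrimeSpectrum R) ≤ y → ¬ K ≤ y.asIdeal →
        y = ⟨Q, hQp⟩ := by
    refine ⟨hKQ, fun y hy hKy => ?_⟩
    have hyT : y.asIdeal ∈ T := ⟨y.2, hqQ.trans hy, hKy⟩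
    have hnot := hQmax y.asIdeal hyT
    have hle : Q ≤ y.asIdeal := hy
    have : y.asIdeal = Q := by
      by_contra hne
      exact hnot (lt_of_le_of_ne hle (Ne.symm hne))
    exact PrimeSpectrum.ext this
  have hflatQ := H ⟨Q, hQp⟩ hrig
  change ((algebraMap R (Localization.AtPrime Q)).comp ψ).Flat at hflatQ
  -- the map `R_Q → R_q`
  have hunits : ∀ y : Q.primeCompl, IsUnit (algebraMap R (Localization.AtPrime q) y) := by
    intro y
    apply IsLocalization.map_units (M := q.primeCompl) (Localization.AtPrime q) ⟨y.1, ?_⟩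
    exact fun hy => y.2 (hqQ hy)
  let ι : Localization.AtPrime Q →+* Localization.AtPrime q :=
    IsLocalization.lift (M := Q.primeCompl) (g := algebraMap R (Localization.AtPrime q)) hunits
  have hι : ι.comp (algebraMap R (Localization.AtPrime Q)) = algebraMap R (Localization.AtPrime q) :=
    IsLocalization.lift_comp _
  have hιflat : ι.Flat := by
    let _ : Algebra (Localization.AtPrime Q) (Localization.AtPrime q) := ι.toAlgebra
    have : IsScalarTower R (Localization.AtPrime Q) (Localization.AtPrime q) :=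
      .of_algebraMap_eq fun x ↦ (RingHom.congr_fun hι x).symm
    change Module.Flat (Localization.AtPrime Q) (Localization.AtPrime q)
    rw [Module.flat_iff_of_isLocalization (S := (Localization.AtPrime Q)) (p := Q.primeCompl)]
    exact IsLocalization.flat (Localization.AtPrime q) q.primeCompl
  have heq : (algebraMap R (Localization.AtPrime q)).comp ψ =
      ι.comp ((algebraMap R (Localization.AtPrime Q)).comp ψ) := by
    rw [← RingHom.comp_assoc, hι]
  rw [heq]
  exact RingHom.Flat.comp hflatQ hιflat

end RigFlat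

end Groth.Agent.Lib.Helper83
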