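import Mathlib
import Groth.Agent.Lib.Helper83.RigFlat
import Groth.Agent.Lib.Helper83.FlatCompl

/-!
# Lifting primes along completed localizations of faithfully flat maps, descent of flatness
(helper83)
-/

set_option autoImplicit false

namespace Groth.Agent.Lib.Helper83.RigDescent

open Groth.Agent.Lib.Helper83

section Away

variable {B B' : Type*} [CommRing B] [CommRing B'] [Algebra B B']

/-- The map on principal localizations induced by a flat map is flat. -/
theorem flat_away [Module.Flat B B'] (g : B) (x' : B')
    (θ : Localization.Away g →+* Localization.Away x')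
    (hθ : θ.comp (algebraMap B (Localization.Away g)) =
      (algebraMap B' (Localization.Away x')).comp (algebraMap B B')) : θ.Flat := by
  let _ : Algebra (Localization.Away g) (Localization.Away x') := θ.toAlgebra
  have : IsScalarTower B (Localization.Away g) (Localization.Away x') :=
    .of_algebraMap_eq fun b => by
      rw [IsScalarTower.algebraMap_apply B B' (Localization.Away x')]
      exact (RingHom.congr_fun hθ b).symm
  change Module.Flat (Localization.Away g) (Localization.Away x')
  rw [Module.flat_iff_of_isLocalization (S := Localization.Away g) (p := Submonoid.powers g)]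
  infer_instance

/-- The map on principal localizations induced by a faithfully flat map is surjective on
spectra. -/
theorem exists_comap_eq_away [Module.FaithfullyFlat B B'] (g : B) (x' : B')
    (hx : x' = algebraMap B B' g)
    (θ : Localization.Away g →+* Localization.Away x')
    (hθ : θ.comp (algebraMap B (Localization.Away g)) =
      (algebraMap B' (Localization.Away x')).comp (algebraMap B B'))
    (P : Ideal (Localization.Away g)) [P.IsPrime] :
    ∃ P' : Ideal (Localization.Away x'), P'.IsPrime ∧ P'.comap θ = P := by
  obtain ⟨n', hn', hlies⟩ := Ideal.exists_isPrime_liesOver_of_faithfullyFlat (B := B')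
    (P.comap (algebraMap B (Localization.Away g)))
  have hover : P.comap (algebraMap B (Localization.Away g)) = n'.comap (algebraMap B B') :=
    hlies.over
  have hdisj : Disjoint (Submonoid.powers x' : Set B') (n' : Set B') := by
    rw [Set.disjoint_left]
    rintro y ⟨k, rfl⟩ hy
    have h1 : x' ∈ n' := hn'.mem_of_pow_mem k hy
    rw [hx] at h1
    have h2 : g ∈ P.comap (algebraMap B (Localization.Away g)) := by
      rw [hover]
      exact h1
    exact ‹P.IsPrime›.ne_top (Ideal.eq_top_of_isUnit_mem _ h2
      (IsLocalization.Away.algebraMap_isUnit g))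
  have hP' : (n'.map (algebraMap B' (Localization.Away x'))).IsPrime :=
    IsLocalization.isPrime_of_isPrime_disjoint (Submonoid.powers x') _ n' hn' hdisj
  have hc : (n'.map (algebraMap B' (Localization.Away x'))).comap
      (algebraMap B' (Localization.Away x')) = n' :=
    IsLocalization.comap_map_of_isPrime_disjoint (Submonoid.powers x') _ hn' hdisj
  refine ⟨_, hP', ?_⟩
  have h1 : ((n'.map (algebraMap B' (Localization.Away x'))).comap θ).comap
      (algebraMap B (Localization.Away g)) = P.comap (algebraMap B (Localization.Away g)) := by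
    rw [Ideal.comap_comap, hθ, ← Ideal.comap_comap, hc, hover]
  calc (n'.map (algebraMap B' (Localization.Away x'))).comap θ
      = (((n'.map (algebraMap B' (Localization.Away x'))).comap θ).comap
          (algebraMap B (Localization.Away g))).map (algebraMap B (Localization.Away g)) :=
        (IsLocalization.map_comap (Submonoid.powers g) (Localization.Away g) _).symm
    _ = (P.comap (algebraMap B (Localization.Away g))).map (algebraMap B (Localization.Away g)) := by
        rw [h1]
    _ = P := IsLocalization.map_comap (Submonoid.powers g) (Localization.Away g) P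

end Away

section Compl

universe u

variable {R R' : Type u} [CommRing R] [CommRing R'] [IsNoetherianRing R]

/-- An ideal of `R̂` containing `J R̂` is determined by its contraction to `R`. -/
theorem le_of_comap_le (J : Ideal R) (P Q : Ideal (AdicCompletion J R))
    (hP : J.map (algebraMap R (AdicCompletion J R)) ≤ P)
    (hQ : J.map (algebraMap R (AdicCompletion J R)) ≤ Q)
    (h : P.comap (algebraMap R (AdicCompletion J R)) ≤ Q.comap (algebraMap R (AdicCompletion J R))) :
    P ≤ Q := by
  intro x hx
  obtain ⟨a, ha⟩ := FlatCompl.exists_sub_of_mem J 1 x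
  rw [pow_one, Ideal.smul_top_eq_map] at ha
  have ha' : x - algebraMap R (AdicCompletion J R) a ∈ J.map (algebraMap R (AdicCompletion J R)) :=
    ha
  have h1 : algebraMap R (AdicCompletion J R) a ∈ P := by
    have := P.sub_mem hx (hP ha')
    simpa using this
  have h2 : algebraMap R (AdicCompletion J R) a ∈ Q := h h1
  have := Q.add_mem h2 (hQ ha')
  simpa using this

variable [IsNoetherianRing R']

/-- Primes of `R̂` containing `J R̂` lift along the completion of a map which is surjective on
spectra. -/
theorem exists_comap_complMap_eq (J : Ideal R) (J' : Ideal R') (θ : R →+* R') (hJ : J.map θ = J')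
    (hsurj : ∀ P : Ideal R, P.IsPrime → ∃ P' : Ideal R', P'.IsPrime ∧ P'.comap θ = P)
    (β : AdicCompletion J R →+* AdicCompletion J' R')
    (hβ : β.comp (algebraMap R (AdicCompletion J R)) =
      (algebraMap R' (AdicCompletion J' R')).comp θ)
    (P : Ideal (AdicCompletion J R)) [P.IsPrime]
    (hP : J.map (algebraMap R (AdicCompletion J R)) ≤ P) :
    ∃ P' : Ideal (AdicCompletion J' R'), P'.IsPrime ∧ P'.comap β = P := by
  obtain ⟨P₀', hP₀', hcomap⟩ := hsurj (P.comap (algebraMap R (AdicCompletion J R)))
    (Ideal.IsPrime.comap _)
  have hJP₀' : J' ≤ P₀' := by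
    rw [← hJ, Ideal.map_le_iff_le_comap, hcomap, ← Ideal.map_le_iff_le_comap]
    exact hP
  have hprime : (P₀'.map (Ideal.Quotient.mk J')).IsPrime :=
    Ideal.map_isPrime_of_surjective Ideal.Quotient.mk_surjective (by rwa [Ideal.mk_ker])
  let P' : Ideal (AdicCompletion J' R') :=
    (P₀'.map (Ideal.Quotient.mk J')).comap (AdicCompletion.evalOneₐ J').toRingHom
  have hP'prime : P'.IsPrime := Ideal.IsPrime.comap _
  have hev : (AdicCompletion.evalOneₐ J').toRingHom.comp (algebraMap R' (AdicCompletion J' R')) =
      Ideal.Quotient.mk J' := by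
    refine RingHom.ext fun r => ?_
    exact (AdicCompletion.evalOneₐ J').commutes r
  have hP'comap : P'.comap (algebraMap R' (AdicCompletion J' R')) = P₀' := by
    rw [Ideal.comap_comap, hev, Ideal.comap_map_of_surjective _ Ideal.Quotient.mk_surjective,
      ← RingHom.ker_eq_comap_bot, Ideal.mk_ker]
    exact sup_eq_left.mpr hJP₀'
  have hcc : (P'.comap β).comap (algebraMap R (AdicCompletion J R)) =
      P.comap (algebraMap R (AdicCompletion J R)) := by
    rw [Ideal.comap_comap, hβ, ← Ideal.comap_comap, hP'comap, hcomap]
  have hJP' : J.map (algebraMap R (AdicCompletion J R)) ≤ P'.comap β := by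
    rw [← Ideal.map_le_iff_le_comap, Ideal.map_map, hβ, ← Ideal.map_map, hJ,
      Ideal.map_le_iff_le_comap, hP'comap]
    exact hJP₀'
  refine ⟨P', hP'prime, le_antisymm ?_ ?_⟩
  · exact le_of_comap_le J _ _ hJP' hP hcc.le
  · exact le_of_comap_le J _ _ hP hJP' hcc.ge

end Compl

section GoingDown

variable {R R' : Type*} [CommRing R] [CommRing R']

/-- For a flat map, if all primes containing an ideal `K` in the Jacobson radical lift, then all
primes lift. -/
theorem exists_comap_eq_of_flat (β : R →+* R') (hβ : β.Flat) (K : Ideal R)
    (hK : K ≤ Ideal.jacobson ⊥)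
    (H : ∀ P : Ideal R, P.IsPrime → K ≤ P → ∃ P' : Ideal R', P'.IsPrime ∧ P'.comap β = P)
    (q : Ideal R) [hq : q.IsPrime] : ∃ q' : Ideal R', q'.IsPrime ∧ q'.comap β = q := by
  obtain ⟨m, hm, hqm⟩ := Ideal.exists_le_maximal q hq.ne_top
  have hKm : K ≤ m := hK.trans (sInf_le ⟨bot_le, hm⟩)
  obtain ⟨m', hm', hmm'⟩ := H m hm.isPrime hKm
  let _ : Algebra R R' := β.toAlgebra
  have : Module.Flat R R' := hβ
  have : m.IsPrime := hm.isPrime
  have : m'.LiesOver m := ⟨hmm'.symm⟩
  obtain ⟨Q, -, hQ, hQq⟩ := Ideal.exists_ideal_le_liesOver_of_le (p := q) (q := m) m' hqm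
  exact ⟨Q, hQ, hQq.over.symm⟩

end GoingDown

section Descent

variable {R S T : Type*} [CommRing R] [CommRing S] [CommRing T]

/-- Descent of flatness along a flat local homomorphism of local rings. -/
theorem flat_of_comp_flat_local [IsLocalRing S] [IsLocalRing T] (f : R →+* S) (g : S →+* T)
    [IsLocalHom g] (hg : g.Flat) (h : (g.comp f).Flat) : f.Flat := by
  let _ : Algebra R S := f.toAlgebra
  let _ : Algebra S T := g.toAlgebra
  let _ : Algebra R T := (g.comp f).toAlgebra
  have : IsScalarTower R S T := .of_algebraMap_eq fun _ => rfl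
  have : Module.Flat S T := hg
  have : IsLocalHom (algebraMap S T) := ‹IsLocalHom g›
  have : Module.FaithfullyFlat S T := Module.FaithfullyFlat.of_flat_of_isLocalHom
  have : Module.Flat R T := h
  exact Groth.Agent.Lib.Helper2.flat_of_flat_of_faithfullyFlat (R := R) (S := S) (M := T)

end Descent

end Groth.Agent.Lib.Helper83.RigDescent
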