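import Mathlib

/-!
# Unramified finite algebras over a local-ish base: generic fibre is reduced

* `exists_mul_pow_eq_zero_of_mem_minimalPrimes` : `x ∈ P`, `P` a minimal prime ⇒ `t * x ^ n = 0`
  for some `t ∉ P`.
* `exists_mul_eq_zero_of_formallyUnramified` : `R` a domain, `S` a finite formally unramified
  `R`-algebra, `P` a prime of `S` with `P ∩ R = 0`; then every `x ∈ P` is killed by some `u ∉ P`
  (i.e. `S_P` is a field).
* `formallyUnramified_of_quotient` : if `S` is of finite type over `R`, `I' S ⊆ Jac(S)` and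
  `S / I' S` is formally unramified over `R`, then so is `S`.
-/

set_option autoImplicit false
universe u v

namespace Groth.Agent.Lib.Helper83.UnramGeneric

open TensorProduct

/-- An element of a minimal prime is locally nilpotent there. -/
theorem exists_mul_pow_eq_zero_of_mem_minimalPrimes {S : Type*} [CommRing S] {P : Ideal S}
    (hP : P ∈ minimalPrimes S) {x : S} (hx : x ∈ P) :
    ∃ t ∉ P, ∃ n : ℕ, t * x ^ n = 0 := by
  have hPprime : P.IsPrime := hP.1.1
  have hnil : algebraMap S (Localization.AtPrime P) x ∈ nilradical (Localization.AtPrime P) := by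
    rw [nilradical_eq_sInf, Ideal.mem_sInf]
    intro Q hQ
    have hQprime : Q.IsPrime := hQ
    have hcomap : (Q.comap (algebraMap S (Localization.AtPrime P))).IsPrime :=
      Ideal.comap_isPrime _ _
    have hle : Q.comap (algebraMap S (Localization.AtPrime P)) ≤ P := by
      intro y hy
      by_contra hyP
      have hu : IsUnit (algebraMap S (Localization.AtPrime P) y) :=
        IsLocalization.map_units (Localization.AtPrime P) (⟨y, hyP⟩ : P.primeCompl)
      exact hQprime.ne_top (Ideal.eq_top_of_isUnit_mem _ hy hu)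
    have heq : P ≤ Q.comap (algebraMap S (Localization.AtPrime P)) :=
      hP.2 ⟨hcomap, bot_le⟩ hle
    exact heq hx
  obtain ⟨n, hn⟩ := mem_nilradical.1 hnil
  rw [← map_pow, IsLocalization.map_eq_zero_iff P.primeCompl] at hn
  obtain ⟨t, ht⟩ := hn
  exact ⟨t.1, t.2, n, ht⟩

/-- In a finite formally unramified algebra `S` over a domain `R`, the local ring at a prime
lying over `0` is a field: every element of the prime is killed by an element outside it. -/
theorem exists_mul_eq_zero_of_formallyUnramified (R : Type u) (S : Type u) [CommRing R] [IsDomain R]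
    [CommRing S] [Algebra R S] [Module.Finite R S] [Algebra.FormallyUnramified R S]
    (P : Ideal S) [hPprime : P.IsPrime] (hP0 : P.comap (algebraMap R S) = ⊥) {x : S} (hx : x ∈ P) :
    ∃ u ∉ P, u * x = 0 := by
  classical
  -- `P` is a minimal prime
  have hint : Algebra.IsIntegral R S := inferInstance
  have hPmin : P ∈ minimalPrimes S := by
    refine ⟨⟨hPprime, bot_le⟩, ?_⟩
    rintro Q ⟨hQprime, -⟩ hQP
    by_contra hPQ
    obtain ⟨y, hyP, hyQ⟩ := Set.not_subset.1 hPQ
    have hlt := Ideal.comap_lt_comap_of_integral_mem_sdiff (R := R) hQP ⟨hyP, hyQ⟩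
      (Algebra.IsIntegral.isIntegral y)
    rw [hP0] at hlt
    exact not_lt_bot hlt
  obtain ⟨t, htP, n, htn⟩ := exists_mul_pow_eq_zero_of_mem_minimalPrimes hPmin hx
  -- `z = t x` is nilpotent
  have hz : (t * x) ^ (n + 1) = 0 := by
    have : (t * x) ^ (n + 1) = t ^ n * x * (t * x ^ n) := by ring
    rw [this, htn, mul_zero]
  -- the generic fibre is reduced
  let K := FractionRing R
  have hred : IsReduced (K ⊗[R] S) := Algebra.FormallyUnramified.isReduced_of_field K (K ⊗[R] S)
  have h1 : ((1 : K) ⊗ₜ[R] (t * x)) ^ (n + 1) = 0 := by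
    rw [Algebra.TensorProduct.tmul_pow, one_pow, hz, TensorProduct.tmul_zero]
  have h2 : (1 : K) ⊗ₜ[R] (t * x) = 0 := by
    have hnil : IsNilpotent ((1 : K) ⊗ₜ[R] (t * x)) := ⟨n + 1, h1⟩
    exact hnil.eq_zero
  -- descend
  have hloc : IsLocalizedModule (nonZeroDivisors R) (TensorProduct.mk R K S 1) :=
    (isLocalizedModule_iff_isBaseChange (nonZeroDivisors R) K _).2
      (TensorProduct.isBaseChange R S K)
  have h3 : (TensorProduct.mk R K S 1) (t * x) = 0 := h2
  rw [IsLocalizedModule.eq_zero_iff (nonZeroDivisors R)] at h3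
  obtain ⟨a, ha⟩ := h3
  refine ⟨algebraMap R S a * t, ?_, ?_⟩
  · intro hmem
    rcases hPprime.mem_or_mem hmem with h | h
    · have : (a : R) ∈ P.comap (algebraMap R S) := h
      rw [hP0, Ideal.mem_bot] at this
      exact nonZeroDivisors.coe_ne_zero a this
    · exact htP h
  · rw [mul_assoc, ← Algebra.smul_def]
    exact ha

/-- If `S ⧸ I' S` is formally unramified over `R`, `S` is of finite type and `I' S ⊆ Jac(S)`, then
`S` is formally unramified over `R`. -/
theorem formallyUnramified_of_quotient (R : Type u) (S : Type u) [CommRing R] [CommRing S]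
    [Algebra R S] [Algebra.FiniteType R S] (I' : Ideal R)
    (hjac : I'.map (algebraMap R S) ≤ Ideal.jacobson ⊥)
    [hfu : Algebra.FormallyUnramified R (S ⧸ I'.map (algebraMap R S))] :
    Algebra.FormallyUnramified R S := by
  classical
  set J : Ideal S := I'.map (algebraMap R S) with hJ
  have hsurj : Function.Surjective (algebraMap S (S ⧸ J)) := Ideal.Quotient.mk_surjective
  have hker : RingHom.ker (algebraMap S (S ⧸ J)) = J := Ideal.mk_ker
  have hex := KaehlerDifferential.exact_kerCotangentToTensor_mapBaseChange R S (S ⧸ J) hsurj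
  -- the tensor product vanishes
  have hT : ∀ t : (S ⧸ J) ⊗[S] Ω[S⁄R], t = 0 := by
    intro t
    have h0 : KaehlerDifferential.mapBaseChange R S (S ⧸ J) t = 0 := Subsingleton.elim _ _
    obtain ⟨c, rfl⟩ := (hex t).1 h0
    obtain ⟨⟨j, hj⟩, rfl⟩ := Ideal.toCotangent_surjective _ c
    rw [KaehlerDifferential.kerCotangentToTensor_toCotangent]
    change (1 : S ⧸ J) ⊗ₜ[S] KaehlerDifferential.D R S j = 0
    rw [hker] at hj
    -- induction on `j ∈ J`
    have key : ∀ j ∈ J, (1 : S ⧸ J) ⊗ₜ[S] KaehlerDifferential.D R S j = 0 := by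
      intro j hj
      rw [hJ] at hj
      induction hj using Submodule.span_induction with
      | mem y hy =>
        obtain ⟨a, _, rfl⟩ := hy
        rw [Derivation.map_algebraMap, TensorProduct.tmul_zero]
      | zero => rw [map_zero, TensorProduct.tmul_zero]
      | add y z _ _ hy hz => rw [map_add, TensorProduct.tmul_add, hy, hz, add_zero]
      | smul s y hy' hy =>
        rw [smul_eq_mul, Derivation.leibniz, TensorProduct.tmul_add, TensorProduct.tmul_smul,
          hy, smul_zero, zero_add, ← TensorProduct.smul_tmul]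
        have : (y • (1 : S ⧸ J)) = 0 := by
          rw [Algebra.smul_def, mul_one]
          exact Ideal.Quotient.eq_zero_iff_mem.2 hy'
        rw [this, TensorProduct.zero_tmul]
    exact key j hj
  -- hence `Ω = J Ω`
  have hsub : Subsingleton ((S ⧸ J) ⊗[S] Ω[S⁄R]) := ⟨fun a b => by rw [hT a, hT b]⟩
  have hsub2 : Subsingleton (Ω[S⁄R] ⧸ (J • ⊤ : Submodule S Ω[S⁄R])) :=
    (TensorProduct.quotTensorEquivQuotSMul (Ω[S⁄R]) J).symm.toEquiv.subsingleton
  have htop : (J • ⊤ : Submodule S Ω[S⁄R]) = ⊤ := Submodule.Quotient.subsingleton_iff.1 hsub2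
  have hfin : (⊤ : Submodule S Ω[S⁄R]).FG := Module.finite_def.1 inferInstance
  have hbot : (⊤ : Submodule S Ω[S⁄R]) = ⊥ :=
    Submodule.eq_bot_of_le_smul_of_le_jacobson_bot J ⊤ hfin (by rw [htop]) hjac
  refine ⟨⟨fun a b => ?_⟩⟩
  have ha : a ∈ (⊤ : Submodule S Ω[S⁄R]) := trivial
  have hb : b ∈ (⊤ : Submodule S Ω[S⁄R]) := trivial
  rw [hbot, Submodule.mem_bot] at ha hb
  rw [ha, hb]

end Groth.Agent.Lib.Helper83.UnramGeneric
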