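import Mathlib
import Groth.Agent.S8837
import Groth.Agent.S8838
import Groth.Agent.Lib.Helper83.RigFlat
import Groth.Agent.Lib.Helper83.RigDescent
import Groth.Agent.Lib.Helper83.FlatExt
import Groth.Agent.Lib.Helper83.FlatCompl
import Groth.Agent.Lib.Helper83.FlatLocalDim

/-!
# Etale base change of rig-flatness: auxiliary lemmas (helper83)

* `flat_of_flat_complAway` : descent of flatness along a completed principal localization.
* `flat_of_etale_special_fibre` : for `A₀ → A₁` flat with etale special fibre, flatness of
  `(B₁)_q` over `A₀` implies flatness over `A₁`, at primes with rig-closed contraction.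
* special fibres of completed principal localizations: localization, etale, finite type.
-/

set_option autoImplicit false
universe u

namespace Groth.Agent.Lib.Helper83.RigEtale

open Groth.Agent.Lib.Helper83

/-- flatness of `B → B_{x}` (completed localization). -/
theorem flat_algebraMap_complAway (B : Type u) [CommRing B] [IsNoetherianRing B] (K : Ideal B)
    (x : B) : (algebraMap B (AdicCompletion (K.map (algebraMap B (Localization.Away x)))
      (Localization.Away x))).Flat := by
  rw [RingHom.flat_algebraMap_iff]
  have : IsScalarTower B (Localization.Away x) (AdicCompletion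
      (K.map (algebraMap B (Localization.Away x))) (Localization.Away x)) :=
    IsScalarTower.of_algebraMap_eq (fun a => rfl)
  have : Module.Flat B (Localization.Away x) := IsLocalization.flat _ (Submonoid.powers x)
  exact Module.Flat.trans B (Localization.Away x) _

/-- **Descent along a completed principal localization.** -/
theorem flat_of_flat_complAway (A' B' : Type u) [CommRing A'] [CommRing B'] [IsNoetherianRing A']
    [IsNoetherianRing B'] (ψ₀ : A' →+* B') (K' : Ideal A') (h : A') (KB : Ideal B')
    [IsAdicComplete KB B'] (x : B') (q' : Ideal B') [q'.IsPrime]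
    (hunit : IsUnit (Ideal.Quotient.mk q' x))
    (θ : Localization.Away h →+* Localization.Away x)
    (hθ : θ.comp (algebraMap A' (Localization.Away h)) =
      (algebraMap B' (Localization.Away x)).comp ψ₀)
    (ψh : AdicCompletion (K'.map (algebraMap A' (Localization.Away h))) (Localization.Away h) →+*
      AdicCompletion (KB.map (algebraMap B' (Localization.Away x))) (Localization.Away x))
    (hψh : ψh.comp (algebraMap (Localization.Away h) _) =
      (algebraMap (Localization.Away x) _).comp θ)
    (hflat : ∀ [(q'.map (algebraMap B' (AdicCompletion (KB.map (algebraMap B' (Localization.Away x)))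
        (Localization.Away x)))).IsPrime],
      ((algebraMap (AdicCompletion (KB.map (algebraMap B' (Localization.Away x)))
        (Localization.Away x)) (Localization.AtPrime (q'.map (algebraMap B' (AdicCompletion
          (KB.map (algebraMap B' (Localization.Away x))) (Localization.Away x)))))).comp ψh).Flat) :
    ((algebraMap B' (Localization.AtPrime q')).comp ψ₀).Flat := by
  obtain ⟨hqhat, hbij⟩ := Groth.Agent.S8837.result B' KB q' x hunit
  have hcomap : (q'.map (algebraMap B' (AdicCompletion (KB.map (algebraMap B' (Localization.Away x)))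
        (Localization.Away x)))).comap (algebraMap B' _) = q' := by
    refine le_antisymm ?_ Ideal.le_comap_map
    intro b hb
    have h2 : Ideal.quotientMap (q'.map (algebraMap B' (AdicCompletion
        (KB.map (algebraMap B' (Localization.Away x))) (Localization.Away x))))
        (algebraMap B' _) Ideal.le_comap_map (Ideal.Quotient.mk q' b) = 0 := by
      rw [Ideal.quotientMap_mk, Ideal.Quotient.eq_zero_iff_mem]
      exact hb
    have h3' := hbij.1 (h2.trans (map_zero _).symm)
    exact Ideal.Quotient.eq_zero_iff_mem.mp h3'
  have hα := flat_algebraMap_complAway A' K' h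
  have hβ := flat_algebraMap_complAway B' KB x
  have hcomp : ψh.comp (algebraMap A' (AdicCompletion (K'.map (algebraMap A' (Localization.Away h)))
      (Localization.Away h))) = (algebraMap B' (AdicCompletion
        (KB.map (algebraMap B' (Localization.Away x))) (Localization.Away x))).comp ψ₀ := by
    refine RingHom.ext fun a => ?_
    have h1 := RingHom.congr_fun hψh (algebraMap A' (Localization.Away h) a)
    have h2 := RingHom.congr_fun hθ a
    simp only [RingHom.comp_apply] at h1 h2 ⊢
    rw [h2] at h1
    exact h1
  have htot := RingHom.Flat.comp hα (@hflat hqhat)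
  rw [RingHom.comp_assoc, hcomp] at htot
  have heq : (algebraMap (AdicCompletion (KB.map (algebraMap B' (Localization.Away x)))
      (Localization.Away x)) (Localization.AtPrime (q'.map (algebraMap B' (AdicCompletion
        (KB.map (algebraMap B' (Localization.Away x))) (Localization.Away x)))))).comp
        ((algebraMap B' (AdicCompletion (KB.map (algebraMap B' (Localization.Away x)))
          (Localization.Away x))).comp ψ₀) =
      (Localization.localRingHom q' (q'.map (algebraMap B' (AdicCompletion
        (KB.map (algebraMap B' (Localization.Away x))) (Localization.Away x))))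
        (algebraMap B' _) hcomap.symm).comp ((algebraMap B' (Localization.AtPrime q')).comp ψ₀) := by
    refine RingHom.ext fun a => ?_
    simp [Localization.localRingHom_to_map]
  rw [heq] at htot
  have hloc := hβ.localRingHom _ q' hcomap.symm
  have : IsLocalHom (Localization.localRingHom q' (q'.map (algebraMap B' (AdicCompletion
        (KB.map (algebraMap B' (Localization.Away x))) (Localization.Away x))))
        (algebraMap B' _) hcomap.symm) :=
    Localization.isLocalHom_localRingHom _ _ _ hcomap.symm
  exact RigDescent.flat_of_comp_flat_local _ _ hloc htot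


theorem flat_comp_of_flat' {A A' B' : Type u} [CommRing A] [CommRing A'] [CommRing B']
    [IsNoetherianRing A'] [IsNoetherianRing B'] (α : A →+* A') (ψ : A' →+* B') (q' : Ideal B')
    [q'.IsPrime] (p : Ideal A)
    (hp : (p.map α).map (algebraMap A' (Localization.AtPrime (q'.comap ψ))) =
      IsLocalRing.maximalIdeal (Localization.AtPrime (q'.comap ψ)))
    (hflat : ((algebraMap B' (Localization.AtPrime q')).comp (ψ.comp α)).Flat) :
    ((algebraMap B' (Localization.AtPrime q')).comp ψ).Flat := by
  let p' : Ideal A' := q'.comap ψ
  have : p'.IsPrime := Ideal.IsPrime.comap ψ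
  let _ : Algebra A (Localization.AtPrime p') := ((algebraMap A' (Localization.AtPrime p')).comp α).toAlgebra
  let _ : Algebra A (Localization.AtPrime q') :=
    ((algebraMap B' (Localization.AtPrime q')).comp (ψ.comp α)).toAlgebra
  let _ : Algebra (Localization.AtPrime p') (Localization.AtPrime q') :=
    (Localization.localRingHom p' q' ψ rfl).toAlgebra
  let _ : Algebra A' (Localization.AtPrime q') :=
    ((algebraMap B' (Localization.AtPrime q')).comp ψ).toAlgebra
  have t1 : IsScalarTower A (Localization.AtPrime p') (Localization.AtPrime q') :=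
    IsScalarTower.of_algebraMap_eq fun a =>
      (Localization.localRingHom_to_map p' q' ψ rfl (α a)).symm
  have t2 : IsScalarTower A' (Localization.AtPrime p') (Localization.AtPrime q') :=
    IsScalarTower.of_algebraMap_eq fun a =>
      (Localization.localRingHom_to_map p' q' ψ rfl a).symm
  have : IsLocalHom (algebraMap (Localization.AtPrime p') (Localization.AtPrime q')) :=
    Localization.isLocalHom_localRingHom p' q' ψ rfl
  have hA : Module.Flat A (Localization.AtPrime q') := hflat
  have hJ : p.map (algebraMap A (Localization.AtPrime p')) =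
      IsLocalRing.maximalIdeal (Localization.AtPrime p') := by
    change p.map ((algebraMap A' (Localization.AtPrime p')).comp α) = _
    rw [← Ideal.map_map]
    exact hp
  have h1 : Module.Flat (Localization.AtPrime p') (Localization.AtPrime q') :=
    FlatExt.flat_of_flat_of_map_eq_maximalIdeal p hJ
  have h2 : Module.Flat A' (Localization.AtPrime p') :=
    IsLocalization.flat (Localization.AtPrime p') p'.primeCompl
  exact Module.Flat.trans A' (Localization.AtPrime p') (Localization.AtPrime q')

theorem flat_of_etale_special_fibre (A₀ : Type u) [CommRing A₀] [IsNoetherianRing A₀]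
    (I₀ : Ideal A₀) [IsAdicComplete I₀ A₀] (A₁ : Type u) [CommRing A₁] [Algebra A₀ A₁]
    [IsNoetherianRing A₁] [IsAdicComplete (I₀.map (algebraMap A₀ A₁)) A₁]
    (hft : Algebra.FiniteType A₀ (A₁ ⧸ (I₀.map (algebraMap A₀ A₁)))) [Module.Flat A₀ A₁]
    [Algebra.Etale (A₀ ⧸ I₀) (A₁ ⧸ (I₀.map (algebraMap A₀ A₁)))]
    (B₁ : Type u) [CommRing B₁] [IsNoetherianRing B₁] (ψ : A₁ →+* B₁) (q : Ideal B₁) [q.IsPrime]
    (hnot : ¬ I₀.map (algebraMap A₀ A₁) ≤ q.comap ψ)
    (hrig₀ : ¬ I₀ ≤ (q.comap ψ).comap (algebraMap A₀ A₁) ∧ ∀ y : PrimeSpectrum A₀,
      (q.comap ψ).comap (algebraMap A₀ A₁) ≤ y.asIdeal → ¬ I₀ ≤ y.asIdeal →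
        y.asIdeal = (q.comap ψ).comap (algebraMap A₀ A₁))
    (hflat₀ : ((algebraMap B₁ (Localization.AtPrime q)).comp
      (ψ.comp (algebraMap A₀ A₁))).Flat) :
    ((algebraMap B₁ (Localization.AtPrime q)).comp ψ).Flat := by
  have hp₂ : (q.comap ψ).IsPrime := Ideal.IsPrime.comap ψ
  let T : Set (Ideal A₁) :=
    {J | J.IsPrime ∧ q.comap ψ ≤ J ∧ ¬ I₀.map (algebraMap A₀ A₁) ≤ J}
  have hT : T.Nonempty := ⟨q.comap ψ, hp₂, le_rfl, hnot⟩
  obtain ⟨P, hPT, hPmax⟩ :=
    (IsWellFounded.wf (r := ((· > ·) : Ideal A₁ → Ideal A₁ → Prop))).has_min T hT
  obtain ⟨hPp, hpP, hKP⟩ := hPT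
  have hrig : ¬ I₀.map (algebraMap A₀ A₁) ≤ (⟨P, hPp⟩ : PrimeSpectrum A₁).asIdeal ∧
      ∀ y : PrimeSpectrum A₁, (⟨P, hPp⟩ : PrimeSpectrum A₁) ≤ y →
        ¬ I₀.map (algebraMap A₀ A₁) ≤ y.asIdeal → y = ⟨P, hPp⟩ := by
    refine ⟨hKP, fun y hy hKy => ?_⟩
    have hyT : y.asIdeal ∈ T := ⟨y.2, hpP.trans hy, hKy⟩
    have hnot' := hPmax y.asIdeal hyT
    have hle : P ≤ y.asIdeal := hy
    have : y.asIdeal = P := by
      by_contra hne
      exact hnot' (lt_of_le_of_ne hle (Ne.symm hne))
    exact PrimeSpectrum.ext this
  -- the contraction of `P`
  have hPc : P.comap (algebraMap A₀ A₁) = (q.comap ψ).comap (algebraMap A₀ A₁) := by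
    have h1 : ¬ I₀ ≤ P.comap (algebraMap A₀ A₁) :=
      fun h => hKP (Ideal.map_le_iff_le_comap.mpr h)
    exact hrig₀.2 ⟨P.comap (algebraMap A₀ A₁), Ideal.IsPrime.comap _⟩ (Ideal.comap_mono hpP) h1
  have hp : ¬ I₀ ≤ (PrimeSpectrum.comap (algebraMap A₀ A₁) ⟨P, hPp⟩).asIdeal ∧
      ∀ y : PrimeSpectrum A₀, (PrimeSpectrum.comap (algebraMap A₀ A₁) ⟨P, hPp⟩) ≤ y →
        ¬ I₀ ≤ y.asIdeal → y = (PrimeSpectrum.comap (algebraMap A₀ A₁) ⟨P, hPp⟩) := by
    refine ⟨fun h => hKP (Ideal.map_le_iff_le_comap.mpr h), fun y hy hIy => ?_⟩
    apply PrimeSpectrum.ext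
    change y.asIdeal = P.comap (algebraMap A₀ A₁)
    rw [hPc]
    apply hrig₀.2 y _ hIy
    rw [← hPc]
    exact hy
  have hmain := Groth.Agent.S8838.result A₀ I₀ A₁ hft ⟨P, hPp⟩ hrig hp
  change ((P.comap (algebraMap A₀ A₁)).map (algebraMap A₀ A₁)).map
    (algebraMap A₁ (Localization.AtPrime P)) =
      IsLocalRing.maximalIdeal (Localization.AtPrime P) at hmain
  -- `P = q.comap ψ`
  have hPeq : P = q.comap ψ := by
    refine le_antisymm ?_ hpP
    have hdisj : Disjoint (P.primeCompl : Set A₁) (q.comap ψ : Set A₁) := by
      rw [Set.disjoint_left]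
      intro a ha hap
      exact ha (hpP hap)
    have h1 : ((q.comap ψ).map (algebraMap A₁ (Localization.AtPrime P))).comap
        (algebraMap A₁ (Localization.AtPrime P)) = q.comap ψ :=
      IsLocalization.comap_map_of_isPrime_disjoint P.primeCompl _ hp₂ hdisj
    have h2 : IsLocalRing.maximalIdeal (Localization.AtPrime P) ≤
        (q.comap ψ).map (algebraMap A₁ (Localization.AtPrime P)) := by
      rw [← hmain]
      apply Ideal.map_mono
      rw [Ideal.map_le_iff_le_comap, hPc]
    calc P = (IsLocalRing.maximalIdeal (Localization.AtPrime P)).comap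
          (algebraMap A₁ (Localization.AtPrime P)) :=
          (IsLocalization.AtPrime.comap_maximalIdeal (Localization.AtPrime P) P).symm
      _ ≤ ((q.comap ψ).map (algebraMap A₁ (Localization.AtPrime P))).comap
          (algebraMap A₁ (Localization.AtPrime P)) := Ideal.comap_mono h2
      _ = q.comap ψ := h1
  subst hPeq
  exact flat_comp_of_flat' (algebraMap A₀ A₁) ψ q _ hmain hflat₀


theorem map_map_away (B : Type u) [CommRing B] (K : Ideal B) (g : B) :
    (K.map (algebraMap B (Localization.Away g))).map (algebraMap (Localization.Away g)
      (AdicCompletion (K.map (algebraMap B (Localization.Away g))) (Localization.Away g))) =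
    K.map (algebraMap B (AdicCompletion (K.map (algebraMap B (Localization.Away g)))
      (Localization.Away g))) := by
  rw [Ideal.map_map]
  rfl

/-- The special fibre of the completed principal localization `R_{h}` is the localization of the
special fibre of `R` at `h`. -/
theorem isLocalization_away_quot_complAway (R : Type u) [CommRing R] [IsNoetherianRing R]
    (J : Ideal R) (h : R) :
    IsLocalization.Away (Ideal.Quotient.mk J h)
      ((AdicCompletion (J.map (algebraMap R (Localization.Away h))) (Localization.Away h)) ⧸
        J.map (algebraMap R (AdicCompletion (J.map (algebraMap R (Localization.Away h)))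
          (Localization.Away h)))) := by
  have key := IsLocalization.of_surjective (M := Submonoid.powers h) (S := Localization.Away h)
    (R' := R ⧸ J)
    (S' := (AdicCompletion (J.map (algebraMap R (Localization.Away h))) (Localization.Away h)) ⧸
        J.map (algebraMap R (AdicCompletion (J.map (algebraMap R (Localization.Away h)))
          (Localization.Away h))))
    (Ideal.Quotient.mk J) Ideal.Quotient.mk_surjective
    ((Ideal.Quotient.mk _).comp (algebraMap (Localization.Away h)
      (AdicCompletion (J.map (algebraMap R (Localization.Away h))) (Localization.Away h))))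
    (by
      intro x
      obtain ⟨x, rfl⟩ := Ideal.Quotient.mk_surjective x
      obtain ⟨a, ha⟩ := FlatCompl.exists_sub_of_mem (J.map (algebraMap R (Localization.Away h))) 1 x
      refine ⟨a, ?_⟩
      rw [RingHom.comp_apply, eq_comm, Ideal.Quotient.eq, ← map_map_away R J h]
      rw [pow_one, Ideal.smul_top_eq_map] at ha
      exact ha)
    (by
      refine RingHom.ext fun r => ?_
      rfl)
    (by
      intro x hx
      rw [RingHom.mem_ker, RingHom.comp_apply, Ideal.Quotient.eq_zero_iff_mem,
        ← map_map_away R J h,
        ← AdicCompletion.ker_evalOneₐ_eq_map _ (Ideal.fg_of_isNoetherianRing _),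
        RingHom.mem_ker] at hx
      have h2 : (AdicCompletion.evalOneₐ (J.map (algebraMap R (Localization.Away h))))
          (algebraMap (Localization.Away h) _ x) = Ideal.Quotient.mk _ x :=
        (AdicCompletion.evalOneₐ (J.map (algebraMap R (Localization.Away h)))).commutes x
      have h3 : Ideal.Quotient.mk (J.map (algebraMap R (Localization.Away h))) x = 0 := by
        rw [← h2]
        exact hx
      rw [Ideal.mk_ker]
      exact Ideal.Quotient.eq_zero_iff_mem.mp h3)
  rw [Submonoid.map_powers] at key
  exact key

/-- RingHom-level: the special fibre map of a completed principal localization is étale. -/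
theorem etale_quotientMap_complAway (R : Type u) [CommRing R] [IsNoetherianRing R]
    (J : Ideal R) (h : R)
    (J₂ : Ideal (AdicCompletion (J.map (algebraMap R (Localization.Away h))) (Localization.Away h)))
    (hJ₂ : J₂ = J.map (algebraMap R (AdicCompletion (J.map (algebraMap R (Localization.Away h)))
          (Localization.Away h))))
    (hle : J ≤ J₂.comap (algebraMap R (AdicCompletion (J.map (algebraMap R (Localization.Away h)))
          (Localization.Away h)))) :
    (Ideal.quotientMap J₂ (algebraMap R (AdicCompletion (J.map (algebraMap R (Localization.Away h)))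
          (Localization.Away h))) hle).Etale := by
  subst hJ₂
  have := isLocalization_away_quot_complAway R J h
  have h1 : Algebra.Etale (R ⧸ J)
      ((AdicCompletion (J.map (algebraMap R (Localization.Away h))) (Localization.Away h)) ⧸
        J.map (algebraMap R (AdicCompletion (J.map (algebraMap R (Localization.Away h)))
          (Localization.Away h)))) :=
    Algebra.Etale.of_isLocalizationAway (Ideal.Quotient.mk J h)
  exact RingHom.etale_algebraMap.mpr h1

/-- cancelling a localization on the left. -/
theorem etale_of_comp_isLocalization_away (k0 kQ k4 : Type u) [CommRing k0] [CommRing kQ]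
    [CommRing k4] [Algebra k0 kQ] (r : k0) [IsLocalization.Away r kQ] (e3 : kQ →+* k4)
    (h : (e3.comp (algebraMap k0 kQ)).Etale) : e3.Etale := by
  let _ : Algebra kQ k4 := e3.toAlgebra
  let _ : Algebra k0 k4 := (e3.comp (algebraMap k0 kQ)).toAlgebra
  have : IsScalarTower k0 kQ k4 := IsScalarTower.of_algebraMap_eq (fun _ => rfl)
  have h1 : Algebra.Etale k0 k4 := h
  have h2 : Algebra.FormallyEtale kQ k4 :=
    Algebra.FormallyEtale.localization_base (Submonoid.powers r)
  have h3' : Algebra.FinitePresentation k0 kQ := IsLocalization.Away.finitePresentation r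
  have h3 : Algebra.FiniteType k0 kQ := inferInstance
  have h4 : Algebra.FinitePresentation kQ k4 :=
    Algebra.FinitePresentation.of_restrict_scalars_finitePresentation k0 kQ k4
  exact ⟨h2, h4⟩


theorem isScalarTower_complAway (A R : Type u) [CommRing A] [CommRing R] [Algebra A R]
    (J : Ideal R) (x : R) :
    IsScalarTower A R (AdicCompletion (J.map (algebraMap R (Localization.Away x)))
      (Localization.Away x)) :=
  IsScalarTower.of_algebraMap_eq (fun a => by
    rw [AdicCompletion.algebraMap_apply, AdicCompletion.algebraMap_apply,
      IsScalarTower.algebraMap_apply A R (Localization.Away x)])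

/-- The special fibre of a completed principal localization is of finite type over the base. -/
theorem finiteType_quot_complAway (A : Type u) [CommRing A] (I : Ideal A) (R : Type u)
    [CommRing R] [Algebra A R] [IsNoetherianRing R]
    (hft : Algebra.FiniteType A (R ⧸ I.map (algebraMap A R))) (J : Ideal R)
    (hJ : J = I.map (algebraMap A R)) (x : R) :
    Algebra.FiniteType A ((AdicCompletion (J.map (algebraMap R (Localization.Away x)))
      (Localization.Away x)) ⧸ I.map (algebraMap A (AdicCompletion
        (J.map (algebraMap R (Localization.Away x))) (Localization.Away x)))) := by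
  subst hJ
  have tw0 := isScalarTower_complAway A R (I.map (algebraMap A R)) x
  have hKmap : I.map (algebraMap A (AdicCompletion
      ((I.map (algebraMap A R)).map (algebraMap R (Localization.Away x))) (Localization.Away x))) =
      (I.map (algebraMap A R)).map (algebraMap R (AdicCompletion
      ((I.map (algebraMap A R)).map (algebraMap R (Localization.Away x))) (Localization.Away x))) := by
    exact ((congrArg (fun φ => I.map φ) (IsScalarTower.algebraMap_eq A R _)).trans
      (Ideal.map_map _ _).symm)
  have tw1 : IsScalarTower R (Localization.Away x) (AdicCompletion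
      ((I.map (algebraMap A R)).map (algebraMap R (Localization.Away x))) (Localization.Away x)) :=
    IsScalarTower.of_algebraMap_eq (fun a => rfl)
  have hftR : Algebra.FiniteType R ((AdicCompletion
      ((I.map (algebraMap A R)).map (algebraMap R (Localization.Away x))) (Localization.Away x)) ⧸
      I.map (algebraMap A (AdicCompletion
      ((I.map (algebraMap A R)).map (algebraMap R (Localization.Away x))) (Localization.Away x)))) := by
    let φ : (Localization.Away x) →ₐ[R] ((AdicCompletion
      ((I.map (algebraMap A R)).map (algebraMap R (Localization.Away x))) (Localization.Away x)) ⧸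
      I.map (algebraMap A (AdicCompletion
      ((I.map (algebraMap A R)).map (algebraMap R (Localization.Away x))) (Localization.Away x)))) :=
      (Ideal.Quotient.mkₐ R _).comp (IsScalarTower.toAlgHom R (Localization.Away x) _)
    apply Algebra.FiniteType.of_surjective φ
    intro y
    obtain ⟨y, rfl⟩ := Ideal.Quotient.mk_surjective y
    obtain ⟨a, ha⟩ := FlatCompl.exists_sub_of_mem
      ((I.map (algebraMap A R)).map (algebraMap R (Localization.Away x))) 1 y
    refine ⟨a, ?_⟩
    change Ideal.Quotient.mk _ (algebraMap _ _ a) = Ideal.Quotient.mk _ y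
    rw [eq_comm, Ideal.Quotient.eq, hKmap, ← map_map_away R (I.map (algebraMap A R)) x]
    rw [pow_one, Ideal.smul_top_eq_map] at ha
    exact ha
  have h0 : ∀ b ∈ I.map (algebraMap A R), algebraMap R ((AdicCompletion
      ((I.map (algebraMap A R)).map (algebraMap R (Localization.Away x))) (Localization.Away x)) ⧸
      I.map (algebraMap A (AdicCompletion
      ((I.map (algebraMap A R)).map (algebraMap R (Localization.Away x))) (Localization.Away x)))) b
        = 0 := by
    intro b hb
    change Ideal.Quotient.mk _ (algebraMap R _ b) = 0
    rw [Ideal.Quotient.eq_zero_iff_mem, hKmap]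
    exact Ideal.mem_map_of_mem _ hb
  let _ : Algebra (R ⧸ I.map (algebraMap A R)) ((AdicCompletion
      ((I.map (algebraMap A R)).map (algebraMap R (Localization.Away x))) (Localization.Away x)) ⧸
      I.map (algebraMap A (AdicCompletion
      ((I.map (algebraMap A R)).map (algebraMap R (Localization.Away x))) (Localization.Away x)))) :=
    (Ideal.Quotient.lift (I.map (algebraMap A R)) (algebraMap R _) h0).toAlgebra
  have tw2 : IsScalarTower R (R ⧸ I.map (algebraMap A R)) ((AdicCompletion
      ((I.map (algebraMap A R)).map (algebraMap R (Localization.Away x))) (Localization.Away x)) ⧸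
      I.map (algebraMap A (AdicCompletion
      ((I.map (algebraMap A R)).map (algebraMap R (Localization.Away x))) (Localization.Away x)))) :=
    IsScalarTower.of_algebraMap_eq (fun a => rfl)
  have hft2 : Algebra.FiniteType (R ⧸ I.map (algebraMap A R)) ((AdicCompletion
      ((I.map (algebraMap A R)).map (algebraMap R (Localization.Away x))) (Localization.Away x)) ⧸
      I.map (algebraMap A (AdicCompletion
      ((I.map (algebraMap A R)).map (algebraMap R (Localization.Away x))) (Localization.Away x)))) :=
    Algebra.FiniteType.of_restrictScalars_finiteType R _ _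
  have tw3 : IsScalarTower A (R ⧸ I.map (algebraMap A R)) ((AdicCompletion
      ((I.map (algebraMap A R)).map (algebraMap R (Localization.Away x))) (Localization.Away x)) ⧸
      I.map (algebraMap A (AdicCompletion
      ((I.map (algebraMap A R)).map (algebraMap R (Localization.Away x))) (Localization.Away x)))) :=
    IsScalarTower.of_algebraMap_eq (fun a => by
      change Ideal.Quotient.mk _ (algebraMap A _ a) =
        Ideal.Quotient.mk _ (algebraMap R _ (algebraMap A R a))
      rw [← IsScalarTower.algebraMap_apply A R])
  exact Algebra.FiniteType.trans hft hft2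


theorem finiteType_of_etale_quot (A₀ : Type u) [CommRing A₀] (I₀ : Ideal A₀) (A₁ : Type u)
    [CommRing A₁] [Algebra A₀ A₁]
    [Algebra.Etale (A₀ ⧸ I₀) (A₁ ⧸ I₀.map (algebraMap A₀ A₁))] :
    Algebra.FiniteType A₀ (A₁ ⧸ I₀.map (algebraMap A₀ A₁)) := by
  have h1 : Algebra.FinitePresentation (A₀ ⧸ I₀) (A₁ ⧸ I₀.map (algebraMap A₀ A₁)) := inferInstance
  have h2 : Algebra.FiniteType (A₀ ⧸ I₀) (A₁ ⧸ I₀.map (algebraMap A₀ A₁)) := inferInstance
  exact Algebra.FiniteType.trans (inferInstance : Algebra.FiniteType A₀ (A₀ ⧸ I₀)) h2

theorem finiteType_quot_trans (A B B' : Type u) [CommRing A] [CommRing B] [CommRing B']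
    [Algebra A B] [Algebra A B'] [Algebra B B'] [IsScalarTower A B B'] (I : Ideal A)
    (hB : Algebra.FiniteType A (B ⧸ I.map (algebraMap A B)))
    (hB' : Algebra.FiniteType B (B' ⧸ I.map (algebraMap A B'))) :
    Algebra.FiniteType A (B' ⧸ I.map (algebraMap A B')) := by
  have hK : I.map (algebraMap A B') = (I.map (algebraMap A B)).map (algebraMap B B') :=
    ((congrArg (fun φ => I.map φ) (IsScalarTower.algebraMap_eq A B B')).trans
      (Ideal.map_map _ _).symm)
  have h0 : ∀ b ∈ I.map (algebraMap A B),
      algebraMap B (B' ⧸ I.map (algebraMap A B')) b = 0 := by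
    intro b hb
    change Ideal.Quotient.mk _ (algebraMap B B' b) = 0
    rw [Ideal.Quotient.eq_zero_iff_mem, hK]
    exact Ideal.mem_map_of_mem _ hb
  let _ : Algebra (B ⧸ I.map (algebraMap A B)) (B' ⧸ I.map (algebraMap A B')) :=
    (Ideal.Quotient.lift (I.map (algebraMap A B)) (algebraMap B _) h0).toAlgebra
  have tw2 : IsScalarTower B (B ⧸ I.map (algebraMap A B)) (B' ⧸ I.map (algebraMap A B')) :=
    IsScalarTower.of_algebraMap_eq (fun a => rfl)
  have hft2 : Algebra.FiniteType (B ⧸ I.map (algebraMap A B)) (B' ⧸ I.map (algebraMap A B')) :=
    Algebra.FiniteType.of_restrictScalars_finiteType B _ _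
  have tw3 : IsScalarTower A (B ⧸ I.map (algebraMap A B)) (B' ⧸ I.map (algebraMap A B')) :=
    IsScalarTower.of_algebraMap_eq (fun a => by
      change Ideal.Quotient.mk _ (algebraMap A B' a) =
        Ideal.Quotient.mk _ (algebraMap B B' (algebraMap A B a))
      rw [← IsScalarTower.algebraMap_apply A B B'])
  exact Algebra.FiniteType.trans hB hft2

/-- the special fibre of the induced map of completed principal localizations is étale. -/
theorem etale_quotientMap_complMap (A : Type u) [CommRing A] [IsNoetherianRing A] (I : Ideal A)
    (A₁ : Type u) [CommRing A₁] [Algebra A A₁] [IsNoetherianRing A₁]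
    [Algebra.Etale (A ⧸ I) (A₁ ⧸ I.map (algebraMap A A₁))] (f : A)
    (ψA : (AdicCompletion (I.map (algebraMap A (Localization.Away f))) (Localization.Away f)) →+*
      (AdicCompletion ((I.map (algebraMap A A₁)).map (algebraMap A₁ (Localization.Away (algebraMap A A₁ f)))) (Localization.Away (algebraMap A A₁ f))))
    (hψA : ψA.comp (algebraMap A (AdicCompletion (I.map (algebraMap A (Localization.Away f))) (Localization.Away f))) =
      (algebraMap A₁ (AdicCompletion ((I.map (algebraMap A A₁)).map (algebraMap A₁ (Localization.Away (algebraMap A A₁ f)))) (Localization.Away (algebraMap A A₁ f)))).comp (algebraMap A A₁)) :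
    (Ideal.quotientMap ((I.map (algebraMap A (AdicCompletion (I.map (algebraMap A (Localization.Away f))) (Localization.Away f)))).map ψA) ψA Ideal.le_comap_map).Etale := by
  have hJ₂ : (I.map (algebraMap A (AdicCompletion (I.map (algebraMap A (Localization.Away f))) (Localization.Away f)))).map ψA =
      (I.map (algebraMap A A₁)).map (algebraMap A₁ (AdicCompletion ((I.map (algebraMap A A₁)).map (algebraMap A₁ (Localization.Away (algebraMap A A₁ f)))) (Localization.Away (algebraMap A A₁ f)))) := by
    exact (Ideal.map_map _ _).trans ((congrArg (fun φ => I.map φ) hψA).trans (Ideal.map_map _ _).symm)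
  have hle : I.map (algebraMap A A₁) ≤ ((I.map (algebraMap A (AdicCompletion (I.map (algebraMap A (Localization.Away f))) (Localization.Away f)))).map ψA).comap
      (algebraMap A₁ (AdicCompletion ((I.map (algebraMap A A₁)).map (algebraMap A₁ (Localization.Away (algebraMap A A₁ f)))) (Localization.Away (algebraMap A A₁ f)))) := by
    rw [hJ₂]
    exact Ideal.le_comap_map
  have e1 := etale_quotientMap_complAway A₁ (I.map (algebraMap A A₁)) (algebraMap A A₁ f) _ hJ₂ hle
  have e0 : (algebraMap (A ⧸ I) (A₁ ⧸ I.map (algebraMap A A₁))).Etale :=
    RingHom.etale_algebraMap.mpr inferInstance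
  have e10 := RingHom.Etale.stableUnderComposition _ _ e0 e1
  have := isLocalization_away_quot_complAway A I f
  apply etale_of_comp_isLocalization_away (A ⧸ I) _ _ (Ideal.Quotient.mk I f)
  convert e10 using 1
  apply Ideal.Quotient.ringHom_ext
  refine RingHom.ext fun a => ?_
  have := RingHom.congr_fun hψA a
  simp only [RingHom.comp_apply] at this
  change Ideal.Quotient.mk _ (ψA (algebraMap A _ a)) = Ideal.Quotient.mk _ (algebraMap A₁ _ (algebraMap A A₁ a))
  rw [this]


/-- existence of the induced map on completions, in composition form. -/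
theorem exists_complMap {R R' : Type u} [CommRing R] [CommRing R'] (J : Ideal R) (J' : Ideal R')
    (θ : R →+* R') (hJ : J.map θ ≤ J') :
    ∃ ψ : AdicCompletion J R →+* AdicCompletion J' R',
      ψ.comp (algebraMap R (AdicCompletion J R)) = (algebraMap R' (AdicCompletion J' R')).comp θ :=
  ⟨ComplMap.complMap J J' θ hJ, RingHom.ext fun a => ComplMap.complMap_of J J' θ hJ a⟩

/-- uniqueness of the induced maps on completions: compatibility with composition. -/
theorem complMap_comp_unique {R R' R'' : Type u} [CommRing R] [CommRing R'] [CommRing R'']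
    (J : Ideal R) (J' : Ideal R') (J'' : Ideal R'') (θ₁ : R →+* R') (θ₂ : R' →+* R'')
    (θ₃ : R →+* R'') (h3 : θ₃ = θ₂.comp θ₁) (fg : J.FG) (hJ : J.map θ₃ ≤ J'')
    (ψ₁ : AdicCompletion J R →+* AdicCompletion J' R')
    (hψ₁ : ψ₁.comp (algebraMap R (AdicCompletion J R)) =
      (algebraMap R' (AdicCompletion J' R')).comp θ₁)
    (ψ₂ : AdicCompletion J' R' →+* AdicCompletion J'' R'')
    (hψ₂ : ψ₂.comp (algebraMap R' (AdicCompletion J' R')) =
      (algebraMap R'' (AdicCompletion J'' R'')).comp θ₂)
    (ψ₃ : AdicCompletion J R →+* AdicCompletion J'' R'')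
    (hψ₃ : ψ₃.comp (algebraMap R (AdicCompletion J R)) =
      (algebraMap R'' (AdicCompletion J'' R'')).comp θ₃) : ψ₃ = ψ₂.comp ψ₁ := by
  apply ComplMap.ringHom_ext_of_of J J'' θ₃ fg hJ
  · exact fun a => RingHom.congr_fun hψ₃ a
  · intro a
    have h1 := RingHom.congr_fun hψ₁ a
    have h2 := RingHom.congr_fun hψ₂ (θ₁ a)
    simp only [RingHom.comp_apply] at h1 h2
    have h1' : ψ₁ (AdicCompletion.of J R a) = algebraMap R' (AdicCompletion J' R') (θ₁ a) := h1
    rw [RingHom.comp_apply, h1', h2, h3]
    rfl

/-- completion preserves flatness, composition form. -/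
theorem flat_complMap {R R' : Type u} [CommRing R] [CommRing R'] [IsNoetherianRing R]
    [IsNoetherianRing R'] (J : Ideal R) (J' : Ideal R')
    (θ : R →+* R') (hJ : J.map θ ≤ J') (hθ : θ.Flat)
    (ψ : AdicCompletion J R →+* AdicCompletion J' R')
    (hψ : ψ.comp (algebraMap R (AdicCompletion J R)) =
      (algebraMap R' (AdicCompletion J' R')).comp θ) : ψ.Flat :=
  FlatCompl.flat_of_map_adicCompletion J J' θ hJ hθ ψ (fun a => RingHom.congr_fun hψ a)

/-- the ideal of definition of the completed localization of the base, pushed forward. -/
theorem map_map_complMap (A R : Type u) [CommRing A] [CommRing R] [Algebra A R] (I : Ideal A)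
    (f : A) (x : R) (θ : Localization.Away f →+* Localization.Away x)
    (hθ : θ.comp (algebraMap A (Localization.Away f)) =
      (algebraMap R (Localization.Away x)).comp (algebraMap A R))
    (ψ : (AdicCompletion (I.map (algebraMap A (Localization.Away f))) (Localization.Away f)) →+* (AdicCompletion ((I.map (algebraMap A R)).map (algebraMap R (Localization.Away x))) (Localization.Away x)))
    (hψ : ψ.comp (algebraMap (Localization.Away f) (AdicCompletion (I.map (algebraMap A (Localization.Away f))) (Localization.Away f))) =
      (algebraMap (Localization.Away x) (AdicCompletion ((I.map (algebraMap A R)).map (algebraMap R (Localization.Away x))) (Localization.Away x))).comp θ) :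
    (I.map (algebraMap A (AdicCompletion (I.map (algebraMap A (Localization.Away f))) (Localization.Away f)))).map ψ =
      ((I.map (algebraMap A R)).map (algebraMap R (Localization.Away x))).map
        (algebraMap (Localization.Away x) (AdicCompletion ((I.map (algebraMap A R)).map (algebraMap R (Localization.Away x))) (Localization.Away x))) := by
  have hψA : ψ.comp (algebraMap A (AdicCompletion (I.map (algebraMap A (Localization.Away f))) (Localization.Away f))) =
      (algebraMap (Localization.Away x) (AdicCompletion ((I.map (algebraMap A R)).map (algebraMap R (Localization.Away x))) (Localization.Away x))).comp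
        ((algebraMap R (Localization.Away x)).comp (algebraMap A R)) := by
    refine RingHom.ext fun a => ?_
    have h1 := RingHom.congr_fun hψ (algebraMap A (Localization.Away f) a)
    have h2 := RingHom.congr_fun hθ a
    simp only [RingHom.comp_apply] at h1 h2 ⊢
    rw [IsScalarTower.algebraMap_apply A (Localization.Away f) (AdicCompletion (I.map (algebraMap A (Localization.Away f))) (Localization.Away f)), h1, h2]
  exact (Ideal.map_map _ _).trans ((congrArg (fun φ => I.map φ) hψA).trans
    ((Ideal.map_map _ _).symm.trans (congrArg (fun J => J.map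
      (algebraMap (Localization.Away x) (AdicCompletion ((I.map (algebraMap A R)).map (algebraMap R (Localization.Away x))) (Localization.Away x))))
      (Ideal.map_map _ _).symm)))

theorem awayMap_comp (A R : Type u) [CommRing A] [CommRing R] [Algebra A R] (f : A) :
    (Localization.awayMap (algebraMap A R) f).comp (algebraMap A (Localization.Away f)) =
      (algebraMap R (Localization.Away (algebraMap A R f))).comp (algebraMap A R) := by
  refine RingHom.ext fun a => ?_
  simp [Localization.awayMap, IsLocalization.Away.map]


/-- the special fibre of a completed principal localization of an algebra with étale special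
fibre is étale. -/
theorem etale_quot_complAway (A : Type u) [CommRing A] (I : Ideal A) (A' : Type u) [CommRing A']
    [Algebra A A'] [IsNoetherianRing A']
    [Algebra.Etale (A ⧸ I) (A' ⧸ I.map (algebraMap A A'))] (f' : A') :
    Algebra.Etale (A ⧸ I) ((AdicCompletion ((I.map (algebraMap A A')).map (algebraMap A' (Localization.Away f'))) (Localization.Away f')) ⧸ I.map (algebraMap A (AdicCompletion ((I.map (algebraMap A A')).map (algebraMap A' (Localization.Away f'))) (Localization.Away f')))) := by
  have hJ₂ : I.map (algebraMap A (AdicCompletion ((I.map (algebraMap A A')).map (algebraMap A' (Localization.Away f'))) (Localization.Away f'))) = (I.map (algebraMap A A')).map (algebraMap A' (AdicCompletion ((I.map (algebraMap A A')).map (algebraMap A' (Localization.Away f'))) (Localization.Away f'))) :=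
    ((congrArg (fun φ => I.map φ) (IsScalarTower.algebraMap_eq A A' (AdicCompletion ((I.map (algebraMap A A')).map (algebraMap A' (Localization.Away f'))) (Localization.Away f')))).trans
      (Ideal.map_map _ _).symm)
  have hle : I.map (algebraMap A A') ≤
      (I.map (algebraMap A (AdicCompletion ((I.map (algebraMap A A')).map (algebraMap A' (Localization.Away f'))) (Localization.Away f')))).comap (algebraMap A' (AdicCompletion ((I.map (algebraMap A A')).map (algebraMap A' (Localization.Away f'))) (Localization.Away f'))) := by
    rw [hJ₂]
    exact Ideal.le_comap_map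
  have e1 := etale_quotientMap_complAway A' (I.map (algebraMap A A')) f' _ hJ₂ hle
  have e0 : (algebraMap (A ⧸ I) (A' ⧸ I.map (algebraMap A A'))).Etale :=
    RingHom.etale_algebraMap.mpr inferInstance
  have e10 := RingHom.Etale.stableUnderComposition _ _ e0 e1
  apply RingHom.etale_algebraMap.mp
  convert e10 using 1
  apply Ideal.Quotient.ringHom_ext
  refine RingHom.ext fun a => ?_
  change Ideal.Quotient.mk _ (algebraMap A (AdicCompletion ((I.map (algebraMap A A')).map (algebraMap A' (Localization.Away f'))) (Localization.Away f')) a) =
    Ideal.Quotient.mk _ (algebraMap A' (AdicCompletion ((I.map (algebraMap A A')).map (algebraMap A' (Localization.Away f'))) (Localization.Away f')) (algebraMap A A' a))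
  rw [← IsScalarTower.algebraMap_apply A A' (AdicCompletion ((I.map (algebraMap A A')).map (algebraMap A' (Localization.Away f'))) (Localization.Away f'))]

/-- completed principal localizations of a flat algebra are flat. -/
theorem flat_complAway_of_flat (A A' : Type u) [CommRing A] [CommRing A'] [Algebra A A']
    [IsNoetherianRing A'] [Module.Flat A A'] (f' : A') (J : Ideal (Localization.Away f')) :
    Module.Flat A (AdicCompletion J (Localization.Away f')) := by
  have h1 : Module.Flat A' (Localization.Away f') := IsLocalization.flat _ (Submonoid.powers f')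
  have h2 : Module.Flat A (Localization.Away f') := Module.Flat.trans A A' (Localization.Away f')
  have h3 : Module.Flat (Localization.Away f') (AdicCompletion J (Localization.Away f')) :=
    inferInstance
  exact Module.Flat.trans A (Localization.Away f') _

end Groth.Agent.Lib.Helper83.RigEtale
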