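import Mathlib

/-!
# Points of the vector bundle `W(M) = Spec Sym(M^∨)` in coordinates

For a finite projective module `M` with generators `p_j` and dual coordinates `σ_j`
(`m = ∑ σ_j(m) p_j`), every linear map `φ : M^∨ → R'` is of the form `φ_x : λ ↦ ∑ λ(p_j) x_j`, and
`lift φ_x = aeval x ∘ ψ` for the algebra map `ψ : Sym(M^∨) → R[X_1, …, X_n]`, `λ ↦ ∑ λ(p_j) X_j`.
-/

namespace Groth.Agent.Lib.Helper83

open MvPolynomial

universe u v

variable {R : Type u} [CommRing R] {M : Type v} [AddCommGroup M] [Module R M] {n : ℕ}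
  (p : Fin n → M)

/-- `φ_x : λ ↦ ∑ λ(p_j) x_j`. -/
noncomputable def dualPt (R' : Type*) [CommRing R'] [Algebra R R'] (x : Fin n → R') :
    Module.Dual R M →ₗ[R] R' :=
  ∑ j, (Module.Dual.eval R M (p j)).smulRight (x j)

theorem dualPt_apply (R' : Type*) [CommRing R'] [Algebra R R'] (x : Fin n → R')
    (l : Module.Dual R M) : dualPt p R' x l = ∑ j, l (p j) • x j := by
  simp [dualPt, LinearMap.sum_apply]

/-- `ψ : Sym(M^∨) → R[X_1, …, X_n]`, `λ ↦ ∑ λ(p_j) X_j`. -/
noncomputable def symToPoly : SymmetricAlgebra R (Module.Dual R M) →ₐ[R] MvPolynomial (Fin n) R :=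
  SymmetricAlgebra.lift (dualPt p (MvPolynomial (Fin n) R) X)

theorem aeval_comp_symToPoly (R' : Type*) [CommRing R'] [Algebra R R'] (x : Fin n → R') :
    ((aeval x : MvPolynomial (Fin n) R →ₐ[R] R').comp (symToPoly p) :
      SymmetricAlgebra R (Module.Dual R M) →ₐ[R] R') = SymmetricAlgebra.lift (dualPt p R' x) := by
  apply SymmetricAlgebra.algHom_ext
  ext l
  simp [symToPoly, dualPt_apply, Algebra.smul_def]

theorem aeval_symToPoly (R' : Type*) [CommRing R'] [Algebra R R'] (x : Fin n → R')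
    (s : SymmetricAlgebra R (Module.Dual R M)) :
    aeval x (symToPoly p s) = SymmetricAlgebra.lift (dualPt p R' x) s := by
  rw [← aeval_comp_symToPoly p R' x]; rfl

theorem dual_eq_sum (σ : Fin n → Module.Dual R M) (hσ : ∀ m : M, m = ∑ j, σ j m • p j)
    (l : Module.Dual R M) : l = ∑ j, l (p j) • σ j := by
  ext m
  conv_lhs => rw [hσ m]
  simp [LinearMap.sum_apply, mul_comm]

theorem eq_dualPt (σ : Fin n → Module.Dual R M) (hσ : ∀ m : M, m = ∑ j, σ j m • p j)
    (R' : Type*) [CommRing R'] [Algebra R R'] (φ : Module.Dual R M →ₗ[R] R') :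
    φ = dualPt p R' (fun j => φ (σ j)) := by
  ext l
  conv_lhs => rw [dual_eq_sum p σ hσ l]
  simp [dualPt_apply]

/-- The retraction `ρ : R[X_1, …, X_n] → Sym(M^∨)`, `X_j ↦ σ_j`. -/
noncomputable def polyToSym (σ : Fin n → Module.Dual R M) :
    MvPolynomial (Fin n) R →ₐ[R] SymmetricAlgebra R (Module.Dual R M) :=
  aeval (fun j => SymmetricAlgebra.ι R _ (σ j))

theorem polyToSym_symToPoly (σ : Fin n → Module.Dual R M) (hσ : ∀ m : M, m = ∑ j, σ j m • p j)
    (s : SymmetricAlgebra R (Module.Dual R M)) : polyToSym σ (symToPoly p s) = s := by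
  have : (polyToSym σ).comp (symToPoly p) = AlgHom.id R _ := by
    apply SymmetricAlgebra.algHom_ext
    ext l
    simp only [LinearMap.coe_comp, Function.comp_apply]
    conv_rhs => rw [dual_eq_sum p σ hσ l]
    simp [symToPoly, polyToSym, dualPt_apply, map_sum]
  exact congrArg (fun F => F s) this

/-- Coordinates on a finite projective module. -/
theorem exists_dual_coordinates (R : Type u) [CommRing R] (M : Type v) [AddCommGroup M] [Module R M]
    [Module.Finite R M] [Module.Projective R M] :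
    ∃ (n : ℕ) (p : Fin n → M) (σ : Fin n → Module.Dual R M), ∀ m : M, m = ∑ j, σ j m • p j := by
  classical
  obtain ⟨n, f, g, -, -, hfg⟩ := Module.Finite.exists_comp_eq_id_of_projective R M
  refine ⟨n, fun j => f (Pi.single j 1), fun j => (LinearMap.proj j) ∘ₗ g, fun m => ?_⟩
  have h1 : f (g m) = m := by
    have := congrArg (fun F => F m) hfg
    simpa using this
  have h2 : g m = ∑ j, (g m j) • (Pi.single j (1 : R) : Fin n → R) := by
    ext i
    simp [Finset.sum_apply, Pi.single_apply]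
  conv_lhs => rw [← h1, h2]
  simp [map_sum]

end Groth.Agent.Lib.Helper83
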