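import Mathlib
import Groth.Agent.Lib.Helper12.TorBridge
import Groth.Agent.Lib.Helper46.TorOne
import Groth.Agent.Lib.Helper46.TorShift
import Groth.Agent.Lib.Helper9.KoszulLoc
import Groth.Agent.Lib.Helper9.QRegBaseChange
import Groth.Agent.Lib.Helper8.KoszulPerfect
import Groth.Agent.Lib.Helper32.K0Koszul

/-!
# Tor against quotients by powers of a Koszul-regular ideal (helper83)

* `isZero_tor_opcycles_iff_exactAt`: balancing of Tor along a flat cochain resolution.
* `exactAt_koszul_map_iff`: `K(B; l·B)` exact at a spot iff `K(A; l) ⊗ B` is (no flatness).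
* `isZero_tor_quot`: `Tor_{k+1}^A(A/(l), B) = 0` if `l` and its image in `B` are Koszul-regular.
* `isZero_tor_pi`, `isZero_tor_quot_pow`, `isZero_tor_pow`, `isZero_tor_gr`: passage to `A/J^n`, `J^n`, `J^n/J^{n+1}`.
-/

set_option autoImplicit false
universe u

namespace Groth.Agent.Lib.Helper83.TorKos

open CategoryTheory CategoryTheory.Limits MonoidalCategory TensorProduct
open Groth.Agent.Lib.Helper12 Groth.Agent.Lib.Helper46

variable {A : Type u} [CommRing A]

/-- linear algebra: exactness of a tensored complex at a spot iff the tensored `fromOpcycles` is injective -/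
theorem exact_rTensor_iff {X₁ X₂ X₃ Q : Type u} (N : Type u)
    [AddCommGroup X₁] [Module A X₁] [AddCommGroup X₂] [Module A X₂] [AddCommGroup X₃] [Module A X₃]
    [AddCommGroup Q] [Module A Q] [AddCommGroup N] [Module A N]
    (f : X₁ →ₗ[A] X₂) (g : X₂ →ₗ[A] X₃) (p : X₂ →ₗ[A] Q) (ι : Q →ₗ[A] X₃)
    (hp : Function.Surjective p) (hfp : Function.Exact f p) (hι : ι ∘ₗ p = g) :
    Function.Exact (f.rTensor N) (g.rTensor N) ↔ Function.Injective (ι.rTensor N) := by
  have hps : Function.Surjective (p.rTensor N) := LinearMap.rTensor_surjective N hp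
  have hex : Function.Exact (f.rTensor N) (p.rTensor N) := rTensor_exact N hfp hp
  have hg : g.rTensor N = (ι.rTensor N) ∘ₗ (p.rTensor N) := by
    rw [← LinearMap.rTensor_comp, hι]
  constructor
  · intro h
    rw [injective_iff_map_eq_zero]
    intro z hz
    obtain ⟨x, rfl⟩ := hps z
    have h1 : g.rTensor N x = 0 := by rw [hg]; exact hz
    obtain ⟨y, rfl⟩ := (h x).1 h1
    exact (hex _).2 ⟨y, rfl⟩
  · intro h x
    constructor
    · intro hx
      rw [hg] at hx
      have h2 : p.rTensor N x = 0 := h (by simpa using hx)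
      exact (hex x).1 h2
    · rintro ⟨y, rfl⟩
      rw [hg, LinearMap.comp_apply, (hex _).2 ⟨y, rfl⟩, map_zero]

/-- exactness of `E ⊗ N` at `j` iff `Z^j ⊗ N → E^{j+1} ⊗ N` is a monomorphism -/
theorem exactAt_tensorCx_iff_mono (E : DRing.Cx A) (N : ModuleCat.{u} A) (j : ℤ) :
    (DRing.tensorCx E N).ExactAt j ↔ Mono (E.fromOpcycles j (j + 1) ▷ N) := by
  rw [HomologicalComplex.exactAt_iff' _ (j - 1) j (j + 1) (by simp) (by simp),
    ShortComplex.ShortExact.moduleCat_exact_iff_function_exact, ModuleCat.mono_iff_injective]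
  have hpcok : Function.Exact (E.d (j - 1) j).hom (E.pOpcycles j).hom := by
    have h := (ShortComplex.mk (E.d (j - 1) j) (E.pOpcycles j) (by simp)).exact_of_g_is_cokernel
      (E.opcyclesIsCokernel (j - 1) j (by simp))
    exact (ShortComplex.ShortExact.moduleCat_exact_iff_function_exact _).1 h
  have hps : Function.Surjective (E.pOpcycles j).hom :=
    (ModuleCat.epi_iff_surjective _).1 inferInstance
  have hι : (E.fromOpcycles j (j + 1)).hom ∘ₗ (E.pOpcycles j).hom = (E.d j (j + 1)).hom := by
    rw [← ModuleCat.hom_comp, HomologicalComplex.p_fromOpcycles]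
  have key := exact_rTensor_iff (A := A) N (E.d (j - 1) j).hom (E.d j (j + 1)).hom
    (E.pOpcycles j).hom (E.fromOpcycles j (j + 1)).hom hps hpcok hι
  exact key

/-- **Balancing along a flat resolution (cochain version)**: for a complex `E` of flat modules, exact in
negative degrees, `Tor_{k+1}(Z^0 E, N) = 0` iff `E ⊗ N` is exact in degree `-(k+1)`. -/
theorem isZero_tor_opcycles_iff_exactAt (E : DRing.Cx A) (hflat : ∀ i, Module.Flat A (E.X i))
    (hex : ∀ i : ℤ, i < 0 → E.ExactAt i) (N : ModuleCat.{u} A) (k : ℕ) :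
    IsZero (TorM (k + 1) (E.opcycles 0) N) ↔ (DRing.tensorCx E N).ExactAt (-(k : ℤ) - 1) := by
  have h1 := isZero_TorM_opcycles_iff E hflat hex N k 0
  rw [show 0 + 1 + k = k + 1 by omega] at h1
  obtain ⟨j, hj⟩ : ∃ j : ℤ, j = -(k : ℤ) - 1 := ⟨_, rfl⟩
  have hk : -(k : ℤ) = j + 1 := by omega
  rw [hk] at h1
  rw [h1, ← hj, exactAt_tensorCx_iff_mono]
  have hS := cosyzSC_shortExact E j (hex _ (by omega))
  haveI : Module.Flat A (cosyzSC E j).X₂ := hflat _
  exact TorOne.isZero_tor_one_iff_mono₁ (cosyzSC E j) hS N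


section Kz

open CochainComplex HomologicalComplex
open Groth.Agent.Lib.Helper94.KoszulReg Groth.Agent.Lib.Helper87.KzLES
  Groth.Agent.Lib.Helper87.KzMod Groth.Agent.Lib.Helper87.KzBridge Groth.Agent.Lib.Helper33.KoszulBC
  Groth.Agent.Lib.Helper9.KoszulLoc

variable (B : Type u) [CommRing B] [Algebra A B]

/-- the Koszul complex of the image sequence is exact at a spot iff `K(A; l) ⊗ B` is (no flatness needed) -/
theorem exactAt_koszul_map_iff (l : List A) (i : ℤ) :
    (Koszul.koszul B (l.map (algebraMap A B))).ExactAt i ↔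
      (DRing.tensorCx (Koszul.koszul A l) (ModuleCat.of A B)).ExactAt i := by
  rw [exactAt_iff_of_iso (bridge B l)]
  let e0 : (Ψ (algebraMap A B)).obj (sg B (ModuleCat.of B B)) ≅ sg A (ModuleCat.of A B) :=
    (HomologicalComplex.singleMapHomologicalComplex (ModuleCat.restrictScalars.{u} (algebraMap A B))
      (ComplexShape.up ℤ) 0).app (ModuleCat.of B B) ≪≫
      (HomologicalComplex.single (ModuleCat.{u} A) (ComplexShape.up ℤ) 0).mapIso
        (restrictSelfIso B)
  rw [← exactAt_iff_of_iso (kzIso e0 l), ← exactAt_iff_of_iso (restrictKz (algebraMap A B) _ l),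
    exactAt_iff_of_iso (eqToIso (koszul_eq (l.map (algebraMap A B))))]
  constructor
  · intro h
    exact exactAt_map (ModuleCat.restrictScalars.{u} (algebraMap A B)) _ _ i h
  · intro h
    exact exactAt_of_map (ModuleCat.restrictScalars.{u} (algebraMap A B)) _ _ i h

open Groth.Agent.Lib.Helper22.KoszulH1 Groth.Agent.Lib.Helper8.KoszulPerfect Groth.Agent.Lib.Helper32 in
/-- `Tor_{k+1}^A(A/(l), B) = 0` when `l` is Koszul-regular in `A` and its image is Koszul-regular in `B` -/
theorem isZero_tor_quot (l : List A) (hl : LCI.IsKoszulRegularSeq A l)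
    (hB : LCI.IsKoszulRegularSeq B (l.map (algebraMap A B))) (k : ℕ) :
    IsZero (TorM (k + 1) (ModuleCat.of A (A ⧸ Ideal.span {x | x ∈ l})) (ModuleCat.of A B)) := by
  have hflat : ∀ i, Module.Flat A ((Koszul.koszul A l).X i) := fun i => by
    obtain ⟨h1, h2⟩ := (K0Koszul.koszul_bounded A l).2 i
    infer_instance
  have hex : ∀ i : ℤ, i < 0 → (Koszul.koszul A l).ExactAt i := fun i hi =>
    (isKoszulRegularSeq_iff_exactAt l).1 hl i (by omega)
  obtain ⟨e⟩ := homology_zero_of_model (model l)
  have e0 : (Koszul.koszul A l).opcycles 0 ≅ ModuleCat.of A (A ⧸ Ideal.span {x | x ∈ l}) :=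
    ((Koszul.koszul A l).isoHomologyι 0 1 (by simp)
      (((model l).hX 1 one_pos).eq_of_tgt _ _)).symm ≪≫ e ≪≫
      (Submodule.quotEquivOfEq _ _ (by rw [range_get])).toModuleIso
  refine isZero_TorM_of_iso e0 _ _ ?_
  rw [isZero_tor_opcycles_iff_exactAt _ hflat hex, ← exactAt_koszul_map_iff]
  exact (isKoszulRegularSeq_iff_exactAt _).1 hB _ (by omega)

end Kz


section Pow
open Groth.Agent.Lib.Helper46.TorShift Groth.Agent.Lib.Helper9.QRegBaseChange


/-- Tor vanishing passes to finite powers in the first variable -/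
theorem isZero_tor_pi (M N : Type u) [AddCommGroup M] [Module A M] [AddCommGroup N] [Module A N]
    (k : ℕ) (h : IsZero (T A (k + 1) M N)) (ι : Type) [Finite ι] :
    IsZero (T A (k + 1) (ι → M) N) := by
  induction ι using Finite.induction_empty_option with
  | of_equiv e ih =>
    exact isZero_congr (LinearEquiv.funCongrLeft A M e.symm) (LinearEquiv.refl A N) _ ih
  | h_empty =>
    haveI := Module.Free.of_subsingleton A (PEmpty → M)
    exact isZero_of_flat_left _ N k
  | h_option ih =>
    rename_i α _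
    classical
    refine isZero_mid₁ (LinearMap.single A (fun _ : Option α => M) none)
      (LinearMap.funLeft A M (some : α → Option α)) ?_ ?_ ?_ (k + 1) h ih
    · intro a b hab
      have := congrFun hab none
      simpa using this
    · intro y
      constructor
      · intro hy
        refine ⟨y none, ?_⟩
        ext o
        cases o with
        | none => simp
        | some a =>
          have := congrFun hy a
          simpa [LinearMap.funLeft] using this.symm
      · rintro ⟨m, rfl⟩
        ext a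
        simp [LinearMap.funLeft]
    · intro z
      refine ⟨fun o => o.elim 0 z, ?_⟩
      ext a
      simp [LinearMap.funLeft]

/-- Tor vanishing against `A/J` passes to `A/J^n` for a quasi-regular sequence -/
theorem isZero_tor_quot_pow {r : ℕ} (f : Fin r → A) (hq : CAlgX.IsQuasiRegular f)
    (N : Type u) [AddCommGroup N] [Module A N]
    (h0 : ∀ k, IsZero (T A (k + 1) (A ⧸ J f) N)) :
    ∀ n k, IsZero (T A (k + 1) (A ⧸ J f ^ n) N) := by
  intro n
  induction n with
  | zero =>
    intro k
    haveI : Subsingleton (A ⧸ J f ^ 0) := by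
      rw [pow_zero, Ideal.one_eq_top]
      exact Ideal.Quotient.subsingleton_iff.2 rfl
    haveI := Module.Free.of_subsingleton A (A ⧸ J f ^ 0)
    exact isZero_of_flat_left _ N k
  | succ n ih =>
    intro k
    exact isZero_mid₁ (iota f n) (qq f n) (iota_injective f hq n) (exact_iota_qq f n)
      (qq_surjective f n) (k + 1) (isZero_tor_pi _ N k (h0 k) _) (ih k)

section
variable (I : Ideal A) (N : Type u) [AddCommGroup N] [Module A N]
  (h : ∀ n k, IsZero (T A (k + 1) (A ⧸ I ^ n) N))
include h

theorem isZero_tor_pow (n k : ℕ) : IsZero (T A (k + 1) ↥(I ^ n) N) := by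
  refine isZero_left₁ (I ^ n).subtype (I ^ n).mkQ (Submodule.injective_subtype _)
    (LinearMap.exact_subtype_mkQ _) (Submodule.mkQ_surjective _) (k + 1) (h n (k + 1)) ?_
  exact isZero_of_flat_left A N k

theorem isZero_tor_gr (n k : ℕ) :
    IsZero (T A (k + 1) (↥(I ^ n) ⧸ Submodule.comap (I ^ n).subtype (I ^ (n + 1))) N) := by
  let ι : (↥(I ^ n) ⧸ Submodule.comap (I ^ n).subtype (I ^ (n + 1))) →ₗ[A] A ⧸ I ^ (n + 1) :=
    Submodule.mapQ _ _ (I ^ n).subtype le_rfl
  let π : (A ⧸ I ^ (n + 1)) →ₗ[A] A ⧸ I ^ n :=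
    Submodule.mapQ (I ^ (n + 1)) (I ^ n) LinearMap.id (Ideal.pow_le_pow_right (Nat.le_succ n))
  refine isZero_left₁ ι π ?_ ?_ ?_ (k + 1) (h n (k + 1)) (h (n + 1) k)
  · rw [injective_iff_map_eq_zero]
    intro x hx
    obtain ⟨y, rfl⟩ := Submodule.Quotient.mk_surjective _ x
    have h1 : (Submodule.Quotient.mk (y : A) : A ⧸ I ^ (n + 1)) = 0 := hx
    rw [Submodule.Quotient.mk_eq_zero] at h1 ⊢
    exact h1
  · intro z
    obtain ⟨a, rfl⟩ := Submodule.Quotient.mk_surjective _ z
    constructor
    · intro hz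
      have h1 : (Submodule.Quotient.mk a : A ⧸ I ^ n) = 0 := hz
      rw [Submodule.Quotient.mk_eq_zero] at h1
      exact ⟨Submodule.Quotient.mk ⟨a, h1⟩, rfl⟩
    · rintro ⟨x, hx⟩
      obtain ⟨y, rfl⟩ := Submodule.Quotient.mk_surjective _ x
      have h1 : (Submodule.Quotient.mk (y : A) : A ⧸ I ^ (n + 1)) = Submodule.Quotient.mk a := hx
      rw [← h1]
      show (Submodule.Quotient.mk (y : A) : A ⧸ I ^ n) = 0
      rw [Submodule.Quotient.mk_eq_zero]
      exact y.2
  · intro z
    obtain ⟨a, rfl⟩ := Submodule.Quotient.mk_surjective _ z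
    exact ⟨Submodule.Quotient.mk a, rfl⟩

end


end Pow

end Groth.Agent.Lib.Helper83.TorKos
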