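import Mathlib
import Groth.Agent.Lib.Helper46.TorBalance
import Groth.Agent.Lib.Helper83.TorKos

set_option autoImplicit false
universe u

namespace Groth.Agent.Lib.Helper83.TorKosA

open CategoryTheory CategoryTheory.Limits MonoidalCategory HomologicalComplex
open Groth.Agent.Lib.Helper46 Groth.Agent.Lib.Helper46.TorBalance

variable {A : Type u} [CommRing A]

/-- the chain complex `n ↦ E^{-n}` -/
noncomputable abbrev toChain (E : DRing.Cx A) : ChainComplex (ModuleCat.{u} A) ℕ :=
  E.restriction ComplexShape.embeddingDownNat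

theorem toChain_exactAt (E : DRing.Cx A) (n : ℕ) (h : E.ExactAt (-((n : ℤ) + 1))) :
    (toChain E).ExactAt (n + 1) := by
  rw [HomologicalComplex.exactAt_iff' _ (n + 1 + 1) (n + 1) n (by simp) (by simp)]
  rw [HomologicalComplex.exactAt_iff' _ (-((n : ℤ) + 1) - 1) (-((n : ℤ) + 1)) (-(n : ℤ)) (by simp)
    (by simp)] at h
  refine (ShortComplex.exact_iff_of_iso
    (restriction.sc'Iso E ComplexShape.embeddingDownNat (n + 1 + 1) (n + 1) n
      (i' := -((n : ℤ) + 1) - 1) (j' := -((n : ℤ) + 1)) (k' := -(n : ℤ))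
      (by simp; ring) (by simp) (by simp) (by simp) (by simp))).2 h

/-- `(E ⊗ N)` restricted is `E` restricted tensor `N` -/
noncomputable def tensIso (E : DRing.Cx A) (N : ModuleCat.{u} A) :
    (tensK (toChain E)).obj N ≅ toChain (DRing.tensorCx E N) :=
  HomologicalComplex.Hom.isoOfComponents (fun i => Iso.refl _) (by
    intro i j hij
    exact (Category.id_comp _).trans (Category.comp_id _).symm)

/-- homology comparison in positive degree -/
noncomputable def homologyIso (E : DRing.Cx A) (N : ModuleCat.{u} A) (n : ℕ) :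
    (Hfun (toChain E) (n + 1)).obj N ≅ (DRing.tensorCx E N).homology (-((n : ℤ) + 1)) :=
  (HomologicalComplex.homologyFunctor _ _ (n + 1)).mapIso (tensIso E N) ≪≫
    restrictionHomologyIso (DRing.tensorCx E N) ComplexShape.embeddingDownNat (n + 1 + 1) (n + 1) n
      (i' := -((n : ℤ) + 1) - 1) (j' := -((n : ℤ) + 1)) (k' := -(n : ℤ))
      (by simp) (by simp) (by simp; ring) (by simp) (by simp) (by simp) (by simp)

/-- opcycles comparison -/
noncomputable def opcyclesIso (E : DRing.Cx A) : (toChain E).opcycles 0 ≅ E.opcycles 0 :=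
  restrictionOpcyclesIso E ComplexShape.embeddingDownNat 1 0 (i' := -1) (j' := 0)
    (by simp) (by simp) (by simp) (by simp)

/-- **Balancing, cochain version**: `Tor_{n+1}(Z^0 E, N) ≅ H^{-(n+1)}(E ⊗ N)` for `E` with flat terms,
exact in negative degrees. -/
noncomputable def torIso (E : DRing.Cx A) (hflat : ∀ i, Module.Flat A (E.X i))
    (hex : ∀ i : ℤ, i < 0 → E.ExactAt i) (N : ModuleCat.{u} A) (n : ℕ) :
    ((Tor (ModuleCat.{u} A) (n + 1)).obj (E.opcycles 0)).obj N ≅
      (DRing.tensorCx E N).homology (-((n : ℤ) + 1)) :=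
  (((Tor (ModuleCat.{u} A) (n + 1)).mapIso (opcyclesIso E)).app N).symm ≪≫
    (torIsoH (toChain E) (fun i => hflat _) (fun i => toChain_exactAt E i (hex _ (by omega)))
      (n + 1)).app N ≪≫ homologyIso E N n

end Groth.Agent.Lib.Helper83.TorKosA
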