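import Mathlib
import Groth.Agent.Lib.Helper87.KzBridge
import Groth.Agent.Lib.Helper87.KzLES
import Groth.Agent.Lib.Helper87.KzMod
import Groth.Agent.Lib.Helper87.KoszulTensor

set_option autoImplicit false
universe u

namespace Groth.Agent.Lib.Helper83.TorKosB

open CategoryTheory CategoryTheory.Limits CochainComplex HomologicalComplex
open Groth.Agent.Lib.Helper94.KoszulReg Groth.Agent.Lib.Helper87.KzLES
  Groth.Agent.Lib.Helper87.KzMod Groth.Agent.Lib.Helper87.KoszulTensor

variable {A : Type u} [CommRing A]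

/-- the cone of the zero map splits on cohomology -/
theorem nonempty_coneZero_equiv {X Y : CochainComplex (ModuleCat.{u} A) ℤ} (φ : X ⟶ Y) (hφ : φ = 0)
    (n m : ℤ) (h : n + 1 = m) :
    Nonempty (((mappingCone φ).homology n : ModuleCat.{u} A) ≃ₗ[A]
      (Prod (Y.homology n : ModuleCat.{u} A) (X.homology m : ModuleCat.{u} A))) := by
  subst hφ
  have h2 := cone_exact₃ (0 : X ⟶ Y) n m h
  have h1 := cone_exact₁ (0 : X ⟶ Y) n m h
  have hsurj : Function.Surjective (coneδ (0 : X ⟶ Y) n m h).hom := by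
    intro y
    refine (h1 y).1 ?_
    rw [homologyMap_zero]
    rfl
  let r : mappingCone (0 : X ⟶ Y) ⟶ Y := mappingCone.desc _ 0 (𝟙 Y) (by simp)
  have hr : (homologyMap r n).hom ∘ₗ (homologyMap (mappingCone.inr (0 : X ⟶ Y)) n).hom =
      LinearMap.id := by
    rw [← ModuleCat.hom_comp, ← homologyMap_comp, mappingCone.inr_desc, homologyMap_id]
    rfl
  exact ⟨(h2.splitInjectiveEquiv hsurj ⟨_, hr⟩).1⟩

/-- `a` kills the complex termwise -/
def Kills (a : A) (X : CochainComplex (ModuleCat.{u} A) ℤ) : Prop :=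
  ∀ (n : ℤ) (x : X.X n), a • x = 0

theorem Kills.smul_id_eq_zero {a : A} {X : CochainComplex (ModuleCat.{u} A) ℤ} (h : Kills a X) :
    a • 𝟙 X = 0 := by
  ext n x
  exact h n x

theorem Kills.cone {a : A} {X Y : CochainComplex (ModuleCat.{u} A) ℤ} (hX : Kills a X)
    (hY : Kills a Y) (φ : X ⟶ Y) : Kills a (mappingCone φ) := by
  intro n x
  apply (coneEquiv φ n).injective
  rw [map_smul, map_zero]
  exact Prod.ext (hX _ _) (hY _ _)

theorem Kills.kz {a : A} {X : CochainComplex (ModuleCat.{u} A) ℤ} (hX : Kills a X) :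
    ∀ l : List A, Kills a (kz X l)
  | [] => hX
  | _ :: l => Kills.cone (Kills.kz hX l) (Kills.kz hX l) _

theorem kills_sg (a : A) (N : Type u) [AddCommGroup N] [Module A N] (h : ∀ x : N, a • x = 0) :
    Kills a (sg A (ModuleCat.of A N)) := by
  intro n x
  by_cases hn : n = 0
  · subst hn
    apply (sgEquiv (A := A) N).injective
    rw [map_smul, map_zero]
    exact h _
  · haveI := sg_subsingleton (A := A) N n hn
    exact Subsingleton.elim _ _

/-- binomial coefficients indexed by cohomological degree -/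
def cz (m : ℕ) (j : ℤ) : ℕ := if 0 < j then 0 else Nat.choose m (Int.toNat (-j))

theorem cz_succ (m : ℕ) (j : ℤ) : cz (m + 1) j = cz m j + cz m (j + 1) := by
  unfold cz
  by_cases h1 : 0 < j
  · rw [if_pos h1, if_pos h1, if_pos (by omega)]
  · rw [if_neg h1, if_neg h1]
    by_cases h2 : 0 < j + 1
    · rw [if_pos h2]
      have : j = 0 := by omega
      subst this
      simp
    · rw [if_neg h2]
      obtain ⟨k, hk⟩ : ∃ k : ℕ, -j = ((k + 1 : ℕ) : ℤ) := ⟨(-j - 1).toNat, by omega⟩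
      have h3 : -(j + 1) = (k : ℤ) := by omega
      rw [hk, h3, Int.toNat_natCast, Int.toNat_natCast, Nat.choose_succ_succ, add_comm]

theorem cz_zero (j : ℤ) : cz 0 j = if j = 0 then 1 else 0 := by
  unfold cz
  by_cases h1 : 0 < j
  · rw [if_pos h1, if_neg (by omega)]
  · rw [if_neg h1]
    by_cases h2 : j = 0
    · subst h2; simp
    · rw [if_neg h2]
      obtain ⟨k, hk⟩ : ∃ k : ℕ, -j = ((k + 1 : ℕ) : ℤ) := ⟨(-j - 1).toNat, by omega⟩
      rw [hk, Int.toNat_natCast]
      rfl

theorem cz_neg (m i : ℕ) : cz m (-(i : ℤ)) = Nat.choose m i := by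
  unfold cz
  rw [if_neg (by omega), neg_neg, Int.toNat_natCast]

/-- cohomology of iterated cones of maps killed termwise -/
theorem nonempty_kz_equiv (Q : Type u) [AddCommGroup Q] [Module A Q]
    (Y : CochainComplex (ModuleCat.{u} A) ℤ) (f : List A) (hf : ∀ a ∈ f, Kills a Y)
    (hY : ∀ j : ℤ, Nonempty ((Y.homology j : ModuleCat.{u} A) ≃ₗ[A] (Fin (cz 0 j) → Q))) :
    ∀ j : ℤ, Nonempty (((kz Y f).homology j : ModuleCat.{u} A) ≃ₗ[A] (Fin (cz f.length j) → Q)) := by
  induction f with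
  | nil => exact hY
  | cons a l ih =>
    intro j
    have ih' := ih (fun b hb => hf b (List.mem_cons_of_mem _ hb))
    have hk : Kills a (kz Y l) := Kills.kz (hf a List.mem_cons_self) l
    obtain ⟨e⟩ := nonempty_coneZero_equiv (a • 𝟙 (kz Y l)) hk.smul_id_eq_zero j (j + 1) rfl
    obtain ⟨e1⟩ := ih' j
    obtain ⟨e2⟩ := ih' (j + 1)
    rw [List.length_cons, cz_succ]
    exact ⟨e ≪≫ₗ (e1.prodCongr e2) ≪≫ₗ (LinearEquiv.sumArrowLequivProdArrow _ _ A Q).symm ≪≫ₗ
      LinearEquiv.funCongrLeft A Q finSumFinEquiv.symm⟩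

end Groth.Agent.Lib.Helper83.TorKosB
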