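import Mathlib
import Groth.Agent.Lib.Helper83.TorKosA
import Groth.Agent.Lib.Helper83.TorKosB
import Groth.Agent.Lib.Helper9.KoszulQis
import Groth.Agent.Lib.Helper9.KoszulSwap

set_option autoImplicit false
universe u

namespace Groth.Agent.Lib.Helper83.TorKosC

open CategoryTheory CategoryTheory.Limits CochainComplex HomologicalComplex
open Groth.Agent.Lib.Helper94.KoszulReg Groth.Agent.Lib.Helper87.KzLES
  Groth.Agent.Lib.Helper87.KzMod Groth.Agent.Lib.Helper87.KoszulTensor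
  Groth.Agent.Lib.Helper87.KzBridge
  Groth.Agent.Lib.Helper83.TorKosA Groth.Agent.Lib.Helper83.TorKosB Groth.Agent.Lib.Helper83.TorKos
  Groth.Agent.Lib.Helper9 Groth.Agent.Lib.Helper9.KoszulLoc

variable {A : Type u} [CommRing A]

theorem KH_pos_subsingleton (N : Type u) [AddCommGroup N] [Module A N] :
    ∀ (l : List A) (j : ℤ), 0 < j → Subsingleton (KH l N j)
  | [], j, hj => KHnil_subsingleton N j (by omega)
  | a :: l, j, hj => by
    obtain ⟨α, β, -, h2, -⟩ := KH_cone a l N j (j + 1) rfl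
    haveI := KH_pos_subsingleton N l j hj
    haveI := KH_pos_subsingleton N l (j + 1) (by omega)
    refine ⟨fun x y => ?_⟩
    obtain ⟨x', rfl⟩ := (h2 x).1 (Subsingleton.elim _ _)
    obtain ⟨y', rfl⟩ := (h2 y).1 (Subsingleton.elim _ _)
    rw [Subsingleton.elim x' y']

theorem KH_zero_cyclic (N : Type u) [AddCommGroup N] [Module A N] (p : A →ₗ[A] N)
    (hp : Function.Surjective p) :
    ∀ l : List A, ∃ q : A →ₗ[A] KH l N 0, Function.Surjective q
  | [] => ⟨(KHnil N).symm.toLinearMap ∘ₗ p, (KHnil N).symm.surjective.comp hp⟩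
  | a :: l => by
    obtain ⟨q, hq⟩ := KH_zero_cyclic N p hp l
    obtain ⟨α, β, -, h2, -⟩ := KH_cone a l N 0 1 rfl
    haveI := KH_pos_subsingleton N l 1 one_pos
    refine ⟨α ∘ₗ q, ?_⟩
    rw [LinearMap.coe_comp]
    exact Function.Surjective.comp (fun x => (h2 x).1 (Subsingleton.elim _ _)) hq

/-- Koszul cohomology of `f ++ g` with coefficients in a cyclic module `N` killed by `f`, when the Koszul
cohomology of `g` is concentrated in degree `0`. -/
theorem exists_KH_equiv (N : Type u) [AddCommGroup N] [Module A N] (p : A →ₗ[A] N)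
    (hp : Function.Surjective p) (f g : List A) (hf : ∀ a ∈ f, ∀ x : N, a • x = 0)
    (hg : ∀ j : ℤ, j ≠ 0 → Subsingleton (KH g N j)) :
    ∃ c : Ideal A, ∀ j : ℤ, Nonempty (KH (f ++ g) N j ≃ₗ[A] (Fin (cz f.length j) → A ⧸ c)) := by
  obtain ⟨q, hq⟩ := KH_zero_cyclic N p hp g
  refine ⟨LinearMap.ker q, fun j => ?_⟩
  have e0 : KH g N 0 ≃ₗ[A] A ⧸ LinearMap.ker q := (q.quotKerEquivOfSurjective hq).symm
  have key := nonempty_kz_equiv (A ⧸ LinearMap.ker q) (kz (sg A (ModuleCat.of A N)) g) f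
    (fun a ha => Kills.kz (kills_sg a N (hf a ha)) g) (fun j => by
      by_cases hj : j = 0
      · subst hj
        rw [cz_zero, if_pos rfl]
        exact ⟨e0 ≪≫ₗ (LinearEquiv.funUnique (Fin 1) A _).symm⟩
      · rw [cz_zero, if_neg hj]
        haveI := hg j hj
        exact ⟨LinearEquiv.ofSubsingleton _ _⟩) j
  obtain ⟨key⟩ := key
  exact ⟨((HomologicalComplex.homologyFunctor (ModuleCat.{u} A) (ComplexShape.up ℤ) j).mapIso
    (eqToIso (kz_append (sg A (ModuleCat.of A N)) g f))).toLinearEquiv ≪≫ₗ key⟩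

open Groth.Agent.Lib.Helper22.KoszulH1 Groth.Agent.Lib.Helper8.KoszulPerfect Groth.Agent.Lib.Helper32 in
/-- **Tor of two quotients by Koszul-regular sequences with common part `f`**: for `I = (f, g)`,
`J = (f, h)` with `f ++ g`, `f ++ h`, `f ++ g ++ h` Koszul-regular, `Tor_{n+1}(A/I, A/J)` is free of rank
`binom(|f|, n+1)` over a cyclic module `A/c`. -/
theorem exists_tor_equiv (f g h : List A)
    (hfg : LCI.IsKoszulRegularSeq A (f ++ g)) (hfh : LCI.IsKoszulRegularSeq A (f ++ h))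
    (hfgh : LCI.IsKoszulRegularSeq A (f ++ g ++ h)) :
    ∃ c : Ideal A, ∀ n : ℕ, Nonempty
      ((((Tor (ModuleCat.{u} A) (n + 1)).obj (ModuleCat.of A (A ⧸ Ideal.span {x | x ∈ f ++ g}))).obj
        (ModuleCat.of A (A ⧸ Ideal.span {x | x ∈ f ++ h})) : ModuleCat.{u} A) ≃ₗ[A]
        (Fin (Nat.choose f.length (n + 1)) → A ⧸ c)) := by
  set J : Ideal A := Ideal.span {x | x ∈ f ++ h} with hJ
  have hgB : LCI.IsKoszulRegularSeq (A ⧸ J) (g.map (algebraMap A (A ⧸ J))) := by
    have h1 : LCI.IsKoszulRegularSeq A ((f ++ h) ++ g) :=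
      (KoszulSwap.isKoszulRegularSeq_perm (by
        rw [List.append_assoc, List.append_assoc]
        exact List.Perm.append_left f List.perm_append_comm)).1 hfgh
    exact (KoszulQis.isKoszulRegularSeq_append_iff_of_koszul (Ideal.Quotient.mk J)
      Ideal.Quotient.mk_surjective (f ++ h) Ideal.mk_ker hfh g).1 h1
  have hg : ∀ j : ℤ, j ≠ 0 → Subsingleton (KH g (A ⧸ J) j) := by
    intro j hj
    have h1 := (isKoszulRegularSeq_iff_exactAt _).1 hgB j hj
    rw [exactAt_koszul_map_iff, exactAt_iff_isZero_homology] at h1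
    haveI := ModuleCat.subsingleton_of_isZero h1
    exact (bridgeH (A ⧸ J) g j).symm.toEquiv.subsingleton
  have hf : ∀ a ∈ f, ∀ x : A ⧸ J, a • x = 0 := by
    intro a ha x
    obtain ⟨y, rfl⟩ := Ideal.Quotient.mk_surjective x
    rw [← Ideal.Quotient.mk_eq_mk, ← Submodule.Quotient.mk_smul, Submodule.Quotient.mk_eq_zero]
    exact J.mul_mem_right y (Ideal.subset_span (List.mem_append_left h ha))
  obtain ⟨c, hc⟩ := exists_KH_equiv (A ⧸ J) (Submodule.mkQ J) (Submodule.mkQ_surjective J) f g hf hg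
  refine ⟨c, fun n => ?_⟩
  obtain ⟨e⟩ := hc (-((n : ℤ) + 1))
  have hcz : cz f.length (-((n : ℤ) + 1)) = Nat.choose f.length (n + 1) := by
    rw [← cz_neg]
    push_cast
    rfl
  rw [hcz] at e
  have hflat : ∀ i, Module.Flat A ((Koszul.koszul A (f ++ g)).X i) := fun i => by
    obtain ⟨h1, h2⟩ := (K0Koszul.koszul_bounded A (f ++ g)).2 i
    infer_instance
  have hex : ∀ i : ℤ, i < 0 → (Koszul.koszul A (f ++ g)).ExactAt i := fun i hi =>
    (isKoszulRegularSeq_iff_exactAt (f ++ g)).1 hfg i (by omega)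
  obtain ⟨e'⟩ := homology_zero_of_model (model (f ++ g))
  have e0 : (Koszul.koszul A (f ++ g)).opcycles 0 ≅
      ModuleCat.of A (A ⧸ Ideal.span {x | x ∈ f ++ g}) :=
    ((Koszul.koszul A (f ++ g)).isoHomologyι 0 1 (by simp)
      (((model (f ++ g)).hX 1 one_pos).eq_of_tgt _ _)).symm ≪≫ e' ≪≫
      (Submodule.quotEquivOfEq _ _ (by rw [range_get])).toModuleIso
  have t := torIso (Koszul.koszul A (f ++ g)) hflat hex (ModuleCat.of A (A ⧸ J)) n
  exact ⟨((((Tor (ModuleCat.{u} A) (n + 1)).mapIso e0.symm).app (ModuleCat.of A (A ⧸ J))) ≪≫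
    t).toLinearEquiv ≪≫ₗ bridgeH (A ⧸ J) (f ++ g) _ ≪≫ₗ e⟩

end Groth.Agent.Lib.Helper83.TorKosC
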